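import Groth.Agent.KFlatLib.Scheme.LpullComp
import Groth.Agent.KFlatLib.Scheme.TensorStalk
import Groth.Prelude.Def_KLin
import Mathlib.CategoryTheory.Linear.LinearFunctor

/-! Linearity of the derived tensor product over the base ring. -/

set_option autoImplicit false
set_option backward.isDefEq.respectTransparency false
set_option backward.isDefEq.respectTransparency.types false
set_option linter.style.haveILetI false

universe u
open CategoryTheory CategoryTheory.Limits AlgebraicGeometry TopologicalSpace Opposite MonoidalCategory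

attribute [local instance] HasDerivedCategory.standard

noncomputable section
namespace Groth.Agent.DEqLib.Sib.LinTensor

open Groth.Agent

variable {X : Scheme.{u}}

theorem shP_map_smul (P : CohB1.PMod X) (h : P ⟶ P) (r : Coh.Γtop X)
    (hh : ∀ (U : X.Opens) (z : P.obj (op U)),
      h.app (op U) z = KFlatLib.sm (X.presheaf.map (homOfLE (le_top : U ≤ ⊤)).op r) z) :
    DCoh.shP.map h = Formal.smulModΓ (DCoh.shP.obj P) r := by
  refine ((PresheafOfModules.sheafificationAdjunction (𝟙 X.ringCatSheaf.obj)).homEquiv _ _).injective ?_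
  rw [Adjunction.homEquiv_unit, Adjunction.homEquiv_unit]
  refine (Adjunction.unit_naturality _ h).trans ?_
  ext U z
  obtain ⟨U⟩ := U
  show (KFlatLib.unitShP P).app (op U) (h.app (op U) z) =
    (Formal.smulModΓ (DCoh.shP.obj P) r).app U ((KFlatLib.unitShP P).app (op U) z)
  rw [hh, KLin.smulModΓ_app_apply]
  exact ((KFlatLib.unitShP P).app (op U)).hom.map_smul _ z

theorem tensorBi_flip_map_smulModΓ (M N : X.Modules) (r : Coh.Γtop X) :
    (DCoh.tensorBi.map (Formal.smulModΓ M r)).app N =
      Formal.smulModΓ ((DCoh.tensorBi.obj M).obj N) r := by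
  refine shP_map_smul _ _ r fun U z => ?_
  induction z using TensorProduct.induction_on with
  | zero => exact (map_zero _).trans (smul_zero _).symm
  | add z z' hz hz' => exact (map_add _ z z').trans ((congrArg₂ (· + ·) hz hz').trans (smul_add _ _ _).symm)
  | tmul s t => exact KFlatLib.tm_smul_left _ s t

variable (k : Type u) [CommRing k] [X.Over (Spec (CommRingCat.of k))]

theorem tensorBi_map_smul_id (M N : X.Modules) (a : k) :
    (DCoh.tensorBi.map (a • 𝟙 M)).app N = a • 𝟙 ((DCoh.tensorBi.obj M).obj N) := by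
  rw [KLin.smul_id, KLin.smul_id]
  exact tensorBi_flip_map_smulModΓ M N _

theorem tensorCx_map_smul_id (R E : CochainComplex X.Modules ℤ) (a : k) :
    (DCoh.tensorCx.flip.obj E).map (a • 𝟙 R) = a • 𝟙 ((DCoh.tensorCx.flip.obj E).obj R) := by
  refine HomologicalComplex.hom_ext _ _ fun n => ?_
  change (HomologicalComplex.mapBifunctorMap (a • 𝟙 R) (𝟙 E) DCoh.tensorBi (ComplexShape.up ℤ)).f n =
    (a • 𝟙 (HomologicalComplex.mapBifunctor R E DCoh.tensorBi (ComplexShape.up ℤ))).f n
  refine HomologicalComplex.mapBifunctor.hom_ext fun p q h => ?_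
  change p + q = n at h
  change HomologicalComplex.ιMapBifunctor R E DCoh.tensorBi (ComplexShape.up ℤ) p q n h ≫ (HomologicalComplex.mapBifunctorMap (a • 𝟙 R) (𝟙 E) DCoh.tensorBi (ComplexShape.up ℤ)).f n = _
  rw [HomologicalComplex.ι_mapBifunctorMap]
  rw [HomologicalComplex.smul_f_apply, HomologicalComplex.id_f, HomologicalComplex.id_f,
    tensorBi_map_smul_id, CategoryTheory.Functor.map_id, HomologicalComplex.smul_f_apply,
    HomologicalComplex.id_f, Linear.smul_comp, Category.id_comp, Category.id_comp, Linear.comp_smul,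
    Category.comp_id]

/-- The derived tensor product is linear. -/
theorem linear_ltc (E : CochainComplex X.Modules ℤ) [DCoh.HasLTensorCx E] [(DCoh.LTensorCx E).Additive] :
    (DCoh.LTensorCx E).Linear k := by
  refine (Functor.linear_iff k _).2 fun K a => ?_
  let R := (KFlatLib.kRes X).obj (DerivedCategory.Q.objPreimage K)
  let e : DerivedCategory.Q.obj R ≅ K :=
    (KFlatLib.resQIso X).app _ ≪≫ DerivedCategory.Q.objObjPreimageIso K
  let c := (DCoh.tensorCxQ E).totalLeftDerivedCounit DerivedCategory.Q (KFlatLib.qisX X)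
  haveI : IsIso (c.app R) := KFlatLib.isIso_LTensorCx_counit E (KFlatLib.isKFlat_kRes _)
  have hR : (DCoh.LTensorCx E).map (DerivedCategory.Q.map (a • 𝟙 R)) = a • 𝟙 _ := by
    rw [← cancel_mono (c.app R)]
    refine (c.naturality (a • 𝟙 R)).trans ?_
    show c.app R ≫ DerivedCategory.Q.map ((DCoh.tensorCx.flip.obj E).map (a • 𝟙 R)) = _
    rw [tensorCx_map_smul_id, Functor.map_smul, CategoryTheory.Functor.map_id, Linear.comp_smul,
      Linear.smul_comp]
    exact congrArg (a • ·) ((Category.comp_id _).trans (Category.id_comp _).symm)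
  have hK : a • 𝟙 K = e.inv ≫ DerivedCategory.Q.map (a • 𝟙 R) ≫ e.hom := by
    rw [Functor.map_smul, CategoryTheory.Functor.map_id, Linear.smul_comp, Category.id_comp,
      Linear.comp_smul, e.inv_hom_id]
  rw [hK, Functor.map_comp, Functor.map_comp, hR, Linear.smul_comp, Category.id_comp, Linear.comp_smul,
    ← Functor.map_comp, e.inv_hom_id, CategoryTheory.Functor.map_id]

end Groth.Agent.DEqLib.Sib.LinTensor
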