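import Groth.Agent.DEqLib.Sib.RHomExists
import Groth.Agent.DEqLib.Sib.LinTensor
import Groth.Agent.KFlatLib.Scheme.CohD
import Groth.Agent.KFlatLib.Scheme.CompactGlobal
import Groth.Agent.KFlatLib.Scheme.DualPerfect
import Groth.Agent.Lib.PnDualSheafHom
import Groth.Agent.S0002
import Groth.Agent.S1116
import Groth.Agent.S1006
import Groth.Agent.QCoh.Bound
import Groth.Agent.QCoh.DevissageP
import Groth.Prelude.Def_SGA6
import Mathlib.Algebra.Homology.DerivedCategory.Ext.Linear
import Mathlib.CategoryTheory.Linear.Yoneda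
import Mathlib.CategoryTheory.Preadditive.AdditiveFunctor

/-! Finiteness of morphisms from perfect objects on proper schemes. -/

set_option linter.style.haveILetI false
set_option backward.isDefEq.respectTransparency false

universe u

open CategoryTheory CategoryTheory.Limits CategoryTheory.Pretriangulated AlgebraicGeometry

attribute [local instance] HasDerivedCategory.standard

noncomputable section

namespace Groth.Agent.DEqLib.Sib.FinHom

open Groth.Agent Groth.Agent.KFlatLib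

variable {k : Type u} [Field k] {X : Scheme.{u}} [X.Over (Spec (CommRingCat.of k))]

lemma finite_of_iso {A B A' B' : DCoh.D X} (a : A ≅ A') (b : B ≅ B') (h : Module.Finite k (A ⟶ B)) :
    Module.Finite k (A' ⟶ B') :=
  Module.Finite.equiv (Linear.homCongr k a b)

lemma finite_obj₂ {A : DCoh.D X} {T : Triangle (DCoh.D X)} (hT : T ∈ distinguishedTriangles)
    (h₁ : Module.Finite k (A ⟶ T.obj₁)) (h₃ : Module.Finite k (A ⟶ T.obj₃)) :
    Module.Finite k (A ⟶ T.obj₂) := by
  let f : (A ⟶ T.obj₁) →ₗ[k] (A ⟶ T.obj₂) := Linear.rightComp k A T.mor₁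
  let g : (A ⟶ T.obj₂) →ₗ[k] (A ⟶ T.obj₃) := Linear.rightComp k A T.mor₂
  haveI : Module.Finite k (LinearMap.ker g) := by
    have hle : LinearMap.ker g ≤ LinearMap.range f := fun x hx => by
      obtain ⟨y, hy⟩ := Triangle.coyoneda_exact₂ T hT x hx
      exact ⟨y, hy.symm⟩
    exact Submodule.finiteDimensional_of_le hle
  haveI : Module.Finite k ((A ⟶ T.obj₂) ⧸ LinearMap.ker g) :=
    Module.Finite.equiv g.quotKerEquivRange.symm
  exact Module.Finite.of_submodule_quotient (LinearMap.ker g)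

lemma eq_zero_obj₂ {A : DCoh.D X} {T : Triangle (DCoh.D X)} (hT : T ∈ distinguishedTriangles)
    (h₁ : ∀ φ : A ⟶ T.obj₁, φ = 0) (h₃ : ∀ φ : A ⟶ T.obj₃, φ = 0) (φ : A ⟶ T.obj₂) : φ = 0 := by
  obtain ⟨y, hy⟩ := Triangle.coyoneda_exact₂ T hT φ (h₃ _)
  rw [hy, h₁ y, zero_comp]

variable [IsProper (X ↘ Spec (CommRingCat.of k))]

omit [X.Over (Spec (CommRingCat.of k))] [IsProper (X ↘ Spec (CommRingCat.of k))] in
/-- Coherence of the two pieces of the truncation. -/
lemma isCohD_pieces [IsLocallyNoetherian X] {A K C : DCoh.D X} {f : A ⟶ K} {g : K ⟶ C} {h : C ⟶ A⟦(1 : ℤ)⟧}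
    (hT : Triangle.mk f g h ∈ distinguishedTriangles) (a : ℤ) [A.IsLE a] [A.IsGE a] [C.IsGE (a + 1)]
    (hK : DCoh.IsCohD K) : DCoh.IsCohD A ∧ DCoh.IsCohD C := by
  have hA : DCoh.IsCohD A := fun i => by
    by_cases hi : i = a
    · subst hi
      have hz₁ : IsZero (DCoh.HD C (i - 1)) := C.isZero_of_isGE (i + 1) (i - 1) (by omega)
      have hz₂ : IsZero (DCoh.HD C i) := C.isZero_of_isGE (i + 1) i (by omega)
      exact isCoh_of_exact _ _ _
        (DerivedCategory.HomologySequence.exact₃ _ hT (i - 1) i (by omega))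
        (DerivedCategory.HomologySequence.exact₁ _ hT (i - 1) i (by omega))
        (DerivedCategory.HomologySequence.exact₂ _ hT i)
        (hK (i - 1)) (isCoh_of_isZero hz₁) (hK i) (isCoh_of_isZero hz₂)
    · rcases lt_or_gt_of_ne hi with h' | h'
      · exact isCoh_of_isZero (A.isZero_of_isGE a i h')
      · exact isCoh_of_isZero (A.isZero_of_isLE a i h')
  exact ⟨hA, isCohD_obj₂ (rot_of_distTriang _ hT) hK (isCohD_shift hA 1)⟩

/-- Morphisms from the structure module into bounded coherent objects. -/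
theorem finite_hom_structure :
    ∃ d : ℕ, ∀ (n : ℕ) (G : DCoh.D X) (a : ℤ), G.IsGE a → G.IsLE (a + n) → DCoh.IsCohD G →
      Module.Finite k (DCoh.inD X (Coh.structureModule X) ⟶ G) ∧
        ((0 < a ∨ a + n + d < 0) → ∀ φ : DCoh.inD X (Coh.structureModule X) ⟶ G, φ = 0) := by
  haveI : CompactSpace X := (quasiCompact_iff_compactSpace (X ↘ Spec (CommRingCat.of k))).1 inferInstance
  haveI : QuasiSeparatedSpace X :=
    (quasiSeparated_iff_quasiSeparatedSpace (X ↘ Spec (CommRingCat.of k))).1 inferInstance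
  haveI : IsLocallyNoetherian X :=
    LocallyOfFiniteType.isLocallyNoetherian (X ↘ Spec (CommRingCat.of k))
  haveI : HasExt.{u} X.Modules :=
    inferInstanceAs (HasExt.{u} (SheafOfModules.{u} X.ringCatSheaf)) |> fun h => h
  obtain ⟨d, hd⟩ := QCoh.exists_HH_bound (X := X)
  refine ⟨d, fun n => ?_⟩
  let O := DCoh.inD X (Coh.structureModule X)
  induction n with
  | zero =>
    intro G a hge hle hG
    haveI := hge
    haveI : G.IsLE a := by simpa using hle
    obtain ⟨Y, ⟨e⟩⟩ := DerivedCategory.exists_iso_singleFunctor_obj_of_isGE_of_isLE G a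
    have hY : Coh.IsCoh Y := isCoh_of_iso ((DerivedCategory.homologyFunctor X.Modules a).mapIso e ≪≫
      (DerivedCategory.singleFunctorCompHomologyFunctorIso X.Modules a).app Y) (hG a)
    rcases lt_or_ge 0 a with ha | ha
    · have hz : ∀ φ : O ⟶ G, φ = 0 := fun φ =>
        haveI : O.IsLE 0 := inferInstanceAs (((DerivedCategory.singleFunctor X.Modules 0).obj _).IsLE 0)
        DerivedCategory.TStructure.t.zero φ 0 a ha
      haveI : Subsingleton (O ⟶ G) := ⟨fun x y => (hz x).trans (hz y).symm⟩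
      exact ⟨inferInstance, fun _ => hz⟩
    · obtain ⟨m, rfl⟩ : ∃ m : ℕ, a = -(m : ℤ) := ⟨a.natAbs, by omega⟩
      let eG : G ≅ (DCoh.inD X Y)⟦(m : ℤ)⟧ := e ≪≫
        ((SingleFunctors.shiftIso (DerivedCategory.singleFunctors X.Modules) (m : ℤ) (-(m : ℤ)) 0
          (by omega)).app Y).symm
      obtain ⟨ε⟩ := PnDual.nonempty_ext_linearEquiv_HH (A := k)
        (F := Coh.structureModule X) (fun x => ⟨⊤, 1, trivial, ⟨Scheme.Modules.restrictUnitIso _ ≪≫
          (Limits.coproductUniqueIso fun _ : Fin 1 => Coh.structureModule ((⊤ : X.Opens) : Scheme.{u})).symm⟩⟩) Y m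
      have hY' : Coh.IsCoh ((SheafHomX.hom (Coh.structureModule X)).obj Y) :=
        isCoh_of_iso ((SheafHomX.unitIso X).app Y).symm hY
      haveI := S0002.result k X _ hY' m
      haveI : Module.Finite k (Abelian.Ext.{u} (Coh.structureModule X) Y m) := Module.Finite.equiv ε.symm
      let eExt := Abelian.Ext.homLinearEquiv (R := k) (X := Coh.structureModule X) (Y := Y) (n := m)
      haveI : Module.Finite k (O ⟶ (DCoh.inD X Y)⟦(m : ℤ)⟧) := Module.Finite.equiv eExt
      refine ⟨finite_of_iso (Iso.refl _) eG.symm inferInstance, fun h φ => ?_⟩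
      haveI := hd _ hY'.1 m (by omega)
      haveI : Subsingleton (Abelian.Ext.{u} (Coh.structureModule X) Y m) := ε.toEquiv.subsingleton
      haveI : Subsingleton (O ⟶ (DCoh.inD X Y)⟦(m : ℤ)⟧) := eExt.symm.toEquiv.subsingleton
      exact (cancel_mono eG.hom).1 (Subsingleton.elim _ _)
  | succ n ih =>
    intro G a hge hle hG
    haveI := hge
    haveI := hle
    obtain ⟨A, C, hA, hC, f, g, h, hT⟩ := DerivedCategory.TStructure.t.exists_triangle G a (a + 1) rfl
    haveI : A.IsLE a := ⟨hA⟩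
    haveI : C.IsGE (a + 1) := ⟨hC⟩
    haveI : A.IsGE a := DerivedCategory.TStructure.t.isGE₂ _ (inv_rot_of_distTriang _ hT) a
      (haveI : (C⟦(-1 : ℤ)⟧).IsGE (a + 2) := DerivedCategory.TStructure.t.isGE_shift C (a + 1) (-1) (a + 2) (by omega)
       DerivedCategory.TStructure.t.isGE_of_ge (C⟦(-1 : ℤ)⟧) a (a + 2) (by omega)) hge
    haveI : C.IsLE (a + (n + 1 : ℕ)) := DerivedCategory.TStructure.t.isLE₂ _ (rot_of_distTriang _ hT) _ hle
      (haveI : (A⟦(1 : ℤ)⟧).IsLE (a - 1) := DerivedCategory.TStructure.t.isLE_shift A a 1 (a - 1) (by omega)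
       DerivedCategory.TStructure.t.isLE_of_le (A⟦(1 : ℤ)⟧) (a - 1) _ (by omega))
    obtain ⟨cA, cC⟩ := isCohD_pieces hT a hG
    obtain ⟨fA, zA⟩ := ih A a inferInstance
      (DerivedCategory.TStructure.t.isLE_of_le A a _ (by omega)) cA
    obtain ⟨fC, zC⟩ := ih C (a + 1) inferInstance (by
      have : a + 1 + (n : ℤ) = a + (n + 1 : ℕ) := by push_cast; ring
      rw [this]; infer_instance) cC
    exact ⟨finite_obj₂ hT fA fC, fun hh φ => eq_zero_obj₂ hT (zA (by omega)) (zC (by omega)) φ⟩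

omit [X.Over (Spec (CommRingCat.of k))] [IsProper (X ↘ Spec (CommRingCat.of k))] in
/-- `RHom` out of a perfect complex has bounded amplitude. -/
theorem exists_bound_RHom [CompactSpace X] (K : CochainComplex X.Modules ℤ)
    (hK : DCoh.IsPerfect (DCoh.toD X K)) [DCoh.HasLTensorCx K] [DCoh.HasRSheafHom K] :
    ∃ c : ℤ, ∀ (L : DCoh.D X) (b : ℤ), L.IsLE b → ((DCoh.RSheafHom K).obj L).IsLE (b + c) := by
  obtain ⟨c, hc⟩ := exists_bound_iHom K hK
  refine ⟨c, fun L b hL => ?_⟩
  obtain ⟨I, hI, hinj, ⟨eL⟩⟩ := exists_kInjective_rep L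
  haveI := hI
  obtain ⟨e⟩ := nonempty_RSheafHom_iso K I
  rw [DerivedCategory.isLE_iff]
  intro i hi
  refine (hc I b (fun j hj => ?_) i hi).of_iso ((DerivedCategory.homologyFunctor X.Modules i).mapIso
    ((DCoh.RSheafHom K).mapIso eL ≪≫ e) ≪≫ (DerivedCategory.homologyFunctorFactors X.Modules i).app _)
  exact ((L.isZero_of_isLE b j hj).of_iso ((DerivedCategory.homologyFunctor _ j).mapIso eL).symm).of_iso
    ((DerivedCategory.homologyFunctorFactors _ j).app I).symm

/-- Morphisms from a perfect object to shifts of a bounded coherent one. -/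
theorem finite_hom_perfect (K : DCoh.D X) (hK : DCoh.IsCohD K) (a b : ℤ) [K.IsGE a] [K.IsLE b]
    (E : DCoh.D X) (hE : DCoh.IsPerfect E) :
    (∀ i : ℤ, Module.Finite k (E ⟶ (shiftFunctor (DCoh.D X) i).obj K)) ∧
      Set.Finite {i : ℤ | Nontrivial (E ⟶ (shiftFunctor (DCoh.D X) i).obj K)} := by
  haveI : CompactSpace X := (quasiCompact_iff_compactSpace (X ↘ Spec (CommRingCat.of k))).1 inferInstance
  haveI : IsLocallyNoetherian X :=
    LocallyOfFiniteType.isLocallyNoetherian (X ↘ Spec (CommRingCat.of k))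
  let P := DerivedCategory.Q.objPreimage E
  let eP : DCoh.toD X P ≅ E := DerivedCategory.Q.objObjPreimageIso E
  have hP : DCoh.IsPerfect (DCoh.toD X P) := fun x => by
    obtain ⟨V, hx, h⟩ := hE x
    exact ⟨V, hx, fun F hF => h F (hF.map (· ≪≫ eP))⟩
  haveI := hasLTensorCx P
  haveI := RHomExists.hasRSheafHom P
  haveI : IsNoetherian X := {}
  obtain ⟨cohP, -, bP, -, hbP⟩ := S1006.result X _ hP
  haveI := hbP
  obtain ⟨c, hc⟩ := exists_bound_RHom P hP
  obtain ⟨d, hd⟩ := finite_hom_structure (k := k) (X := X)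
  let O := DCoh.inD X (Coh.structureModule X)
  haveI : (DCoh.LTensorCx P).Additive := by
    haveI : (DCoh.LTensorCx P).IsLeftAdjoint := inferInstance
    haveI := preservesBinaryBiproducts_of_preservesBinaryCoproducts (DCoh.LTensorCx P)
    exact Functor.additive_of_preservesBinaryBiproducts _
  haveI := LinTensor.linear_ltc k P
  let adj := DCoh.RSheafHomAdj P
  haveI : (DCoh.RSheafHom P).Additive := adj.right_adjoint_additive
  let S := HomologicalComplex.single X.Modules (ComplexShape.up ℤ) 0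
  have hS : DCoh.IsKFlat (S.obj (Coh.structureModule X)) :=
    isKFlat_of_isStrictlyLE _ 0 (isFlat_single 0 isFlat_structureModule)
  let eS : O ≅ DCoh.toD X (S.obj (Coh.structureModule X)) :=
    ((SingleFunctors.evaluation _ _ 0).mapIso
      (DerivedCategory.singleFunctorsPostcompQIso X.Modules)).app _
  obtain ⟨er⟩ := nonempty_tensorUnitIso P
  let eO : (DCoh.LTensorCx P).obj O ≅ E :=
    (DCoh.LTensorCx P).mapIso eS ≪≫ ltensorCxIso P hS ≪≫
      DerivedCategory.Q.mapIso ((symmIso (tensorBiFlipIso X) P).app _ ≪≫ er) ≪≫ eP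
  have key : ∀ i : ℤ, ∃ Φ : (E ⟶ (shiftFunctor (DCoh.D X) i).obj K) ≃ₗ[k]
      (O ⟶ (DCoh.RSheafHom P).obj ((shiftFunctor (DCoh.D X) i).obj K)), True := fun i =>
    ⟨(Linear.homCongr k eO (Iso.refl _)).symm.trans
      { adj.homAddEquiv O ((shiftFunctor (DCoh.D X) i).obj K) with
        map_smul' := fun r φ => by
          show adj.homEquiv _ _ (r • φ) = r • adj.homEquiv _ _ φ
          have h1 : r • φ = (DCoh.LTensorCx P).map (r • 𝟙 O) ≫ φ := by
            rw [Functor.map_smul, CategoryTheory.Functor.map_id, Linear.smul_comp, Category.id_comp]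
          rw [h1, adj.homEquiv_naturality_left, Linear.smul_comp, Category.id_comp] }, trivial⟩
  have amp : ∀ i : ℤ, ∃ n : ℕ, ((DCoh.RSheafHom P).obj (K⟦i⟧)).IsGE (a - i - bP) ∧
      ((DCoh.RSheafHom P).obj (K⟦i⟧)).IsLE (a - i - bP + n) ∧ a - i - bP + n = max (b - i + c) (a - i - bP) ∧
      DCoh.IsCohD ((DCoh.RSheafHom P).obj (K⟦i⟧)) := fun i => by
    haveI := hbP
    haveI : (K⟦i⟧).IsGE (a - i) := DerivedCategory.TStructure.t.isGE_shift K a i (a - i) (by omega)
    haveI : (K⟦i⟧).IsLE (b - i) := DerivedCategory.TStructure.t.isLE_shift K b i (b - i) (by omega)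
    refine ⟨(max (b - i + c) (a - i - bP) - (a - i - bP)).toNat, isGE_RSheafHom P bP _ (a - i), ?_, by omega, ?_⟩
    · haveI := hc (K⟦i⟧) (b - i) inferInstance
      exact DerivedCategory.TStructure.t.isLE_of_le _ (b - i + c) _ (by omega)
    · exact (S1116.result X P bP cohP (K⟦i⟧) (a - i) (isCohD_shift hK i)).1
  refine ⟨fun i => ?_, (Set.finite_Icc (a - bP) (max (b + c) (a - bP) + d)).subset fun i hi => ?_⟩
  · obtain ⟨Φ, -⟩ := key i
    obtain ⟨n, h1, h2, -, h3⟩ := amp i
    haveI := (hd n _ _ h1 h2 h3).1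
    exact Module.Finite.equiv Φ.symm
  · by_contra hni
    obtain ⟨Φ, -⟩ := key i
    obtain ⟨n, h1, h2, hn, h3⟩ := amp i
    have hz := (hd n _ _ h1 h2 h3).2 (by
      simp only [Set.mem_Icc, not_and_or, not_le] at hni
      omega)
    haveI : Subsingleton (O ⟶ (DCoh.RSheafHom P).obj ((shiftFunctor (DCoh.D X) i).obj K)) :=
      ⟨fun x y => (hz x).trans (hz y).symm⟩
    haveI : Subsingleton (E ⟶ (shiftFunctor (DCoh.D X) i).obj K) := Φ.toEquiv.subsingleton
    exact not_nontrivial _ hi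

end Groth.Agent.DEqLib.Sib.FinHom
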