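import Groth.Agent.DEqLib.Sib.Corep
import Groth.Agent.DEqLib.Sib.FinHom
import Groth.Agent.S1006
import Mathlib.CategoryTheory.Adjunction.PartialAdjoint

/-!
# Adjoints of exact functors between categories of perfect objects
-/

universe u

open CategoryTheory Category Limits Pretriangulated AlgebraicGeometry Opposite

attribute [local instance] HasDerivedCategory.standard

set_option backward.isDefEq.respectTransparency false

noncomputable section

namespace Groth.Agent.DEqLib.Sib.Adjoints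

variable (k : Type u) [Field k] (X Y : Scheme.{u}) [X.Over (Spec (CommRingCat.of k))]
  [Y.Over (Spec (CommRingCat.of k))]
  [(SGA6.perfP X).IsTriangulated] [(SGA6.perfP Y).IsTriangulated]

/-- Shifting a hom space. -/
def homShiftEquiv (A B : DCoh.D Y) (n m : ℤ) (h : n + m = 0) : (A ⟶ B⟦m⟧) ≃ₗ[k] (A⟦n⟧ ⟶ B) :=
  let l : (A ⟶ B⟦m⟧) ≃ₗ[k] (A⟦n⟧ ⟶ (B⟦m⟧)⟦n⟧) :=
    { (Functor.FullyFaithful.ofFullyFaithful (shiftFunctor (DCoh.D Y) n)).homEquiv with
      map_add' := fun f g => (shiftFunctor (DCoh.D Y) n).map_add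
      map_smul' := fun r f => (shiftFunctor (DCoh.D Y) n).map_smul (r := r) (f := f) }
  l.trans (Linear.homCongr k (Iso.refl _) ((shiftFunctorCompIsoId (DCoh.D Y) m n (by omega)).app B))

variable [IsProper (Y ↘ Spec (CommRingCat.of k))]

/-- Finiteness of homs between perfect objects on a proper scheme. -/
theorem finite_hom (A B : DCoh.D Y) (hA : DCoh.IsPerfect A) (hB : DCoh.IsPerfect B) :
    (∀ n : ℤ, Module.Finite k (A⟦n⟧ ⟶ B)) ∧ Set.Finite {n : ℤ | Nontrivial (A⟦n⟧ ⟶ B)} ∧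
    (∀ n : ℤ, Module.Finite k (A ⟶ B⟦n⟧)) ∧ Set.Finite {n : ℤ | Nontrivial (A ⟶ B⟦n⟧)} := by
  haveI : IsLocallyNoetherian Y := LocallyOfFiniteType.isLocallyNoetherian (Y ↘ Spec (CommRingCat.of k))
  haveI : CompactSpace Y := (quasiCompact_iff_compactSpace (Y ↘ Spec (CommRingCat.of k))).1 inferInstance
  haveI : IsNoetherian Y := ⟨⟩
  obtain ⟨hc, a, b, ha, hb⟩ := Groth.Agent.S1006.result Y B hB
  haveI := ha
  haveI := hb
  obtain ⟨h1, h2⟩ := FinHom.finite_hom_perfect (k := k) B hc a b A hA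
  refine ⟨fun n => ?_, (h2.image fun m => -m).subset fun n hn => ⟨-n, ?_, neg_neg n⟩, h1, h2⟩
  · haveI := h1 (-n)
    exact Module.Finite.equiv (homShiftEquiv k Y A B n (-n) (by omega))
  · haveI : Nontrivial (A⟦n⟧ ⟶ B) := hn
    exact (homShiftEquiv k Y A B n (-n) (by omega)).toEquiv.nontrivial

variable [IsProper (X ↘ Spec (CommRingCat.of k))]
  (F : (SGA6.perfP X).FullSubcategory ⥤ (SGA6.perfP Y).FullSubcategory) [F.Additive] [F.Linear k]
  [F.CommShift ℤ] [F.IsTriangulated]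

/-- The hom spaces in the subcategory. -/
def fullHomEquiv (A B : (SGA6.perfP Y).FullSubcategory) : (A ⟶ B) ≃ₗ[k] (A.obj ⟶ B.obj) where
  toFun f := f.hom
  invFun f := ObjectProperty.homMk f
  map_add' _ _ := rfl
  map_smul' _ _ := rfl
  left_inv _ := rfl
  right_inv _ := rfl

/-- The value of `F` at a shift. -/
def objShiftIso (E : (SGA6.perfP X).FullSubcategory) (n : ℤ) :
    (F.obj ((shiftFunctor (SGA6.perfP X).FullSubcategory n).obj E)).obj ≅ (F.obj E).obj⟦n⟧ :=
  (SGA6.perfP Y).ι.mapIso ((F.commShiftIso n).app E) ≪≫ ((SGA6.perfP Y).ι.commShiftIso n).app (F.obj E)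

include k in
theorem isLeftAdjoint (hreg : Models.IsRegularScheme X) : F.IsLeftAdjoint := by
  refine Functor.isLeftAdjoint_of_rightAdjointObjIsDefined_eq_top (F := F) ?_
  rw [eq_top_iff]
  intro B _
  obtain ⟨K, hK, ⟨i⟩⟩ := Groth.Agent.S6746.result k X hreg
    (F.op ⋙ (linearYoneda k (SGA6.perfP Y).FullSubcategory).obj B)
    (fun A A' r f => by
      apply ModuleCat.hom_ext
      apply LinearMap.ext
      intro g
      show F.map (r • f) ≫ g = r • (F.map f ≫ g)
      rw [Functor.map_smul, Linear.smul_comp])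
    (fun T hT h₁ h₂ h₃ y hy => by
      let P := SGA6.perfP X
      let A₁ : P.FullSubcategory := ⟨T.obj₁, h₁⟩
      let d : (⟨T.obj₃, h₃⟩ : P.FullSubcategory) ⟶ A₁⟦(1 : ℤ)⟧ :=
        P.fullyFaithfulι.preimage (T.mor₃ ≫ (P.ι.commShiftIso (1 : ℤ)).inv.app A₁)
      let T₀ := Triangle.mk (ObjectProperty.homMk T.mor₁ : A₁ ⟶ ⟨T.obj₂, h₂⟩)
        (ObjectProperty.homMk T.mor₂ : (⟨T.obj₂, h₂⟩ : P.FullSubcategory) ⟶ ⟨T.obj₃, h₃⟩) d
      have hd : T₀ ∈ distTriang P.FullSubcategory :=
        isomorphic_distinguished _ hT _ (Triangle.isoMk _ _ (Iso.refl _) (Iso.refl _) (Iso.refl _)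
          ((Category.comp_id _).trans (Category.id_comp _).symm)
          ((Category.comp_id _).trans (Category.id_comp _).symm)
          (by simp [T₀, d]; exact (Category.assoc _ _ _).trans ((congrArg (T.mor₃ ≫ ·)
            (Iso.inv_hom_id_app (P.ι.commShiftIso (1 : ℤ)) A₁)).trans (Category.comp_id _))))
      obtain ⟨z, hz⟩ := Triangle.yoneda_exact₂ _ (F.map_distinguished T₀ hd) y hy
      exact ⟨z, hz.symm⟩)
    (fun E => by
      obtain ⟨h1, h2, -, -⟩ := finite_hom k Y (F.obj E).obj B.obj (F.obj E).property B.property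
      refine ⟨fun n => ?_, h2.subset fun n hn => ?_⟩
      · haveI := h1 n
        exact Module.Finite.equiv
          ((Linear.homCongr k (objShiftIso X Y F E n).symm (Iso.refl _)).trans (fullHomEquiv k Y _ _).symm)
      · haveI : Nontrivial (F.obj ((shiftFunctor _ n).obj E) ⟶ B) := hn
        exact ((Linear.homCongr k (objShiftIso X Y F E n).symm (Iso.refl _)).trans
          (fullHomEquiv k Y _ B).symm).toEquiv.nontrivial)
  refine ⟨⟨⟨K, hK⟩, ⟨⟨fun {E} => (SGA6.perfP X).fullyFaithfulι.homEquiv.trans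
    (i.app (op E)).toLinearEquiv.symm.toEquiv, fun {E E'} f g => ?_⟩⟩⟩⟩
  exact congrArg (fun φ => φ.hom g.hom) (i.inv.naturality f.op)

include k in
theorem isRightAdjoint (hreg : Models.IsRegularScheme X) : F.IsRightAdjoint := by
  refine Functor.isRightAdjoint_of_leftAdjointObjIsDefined_eq_top (F := F) ?_
  rw [eq_top_iff]
  intro B _
  let G := F ⋙ (linearCoyoneda k (SGA6.perfP Y).FullSubcategory).obj (op B)
  haveI : G.Linear k := ⟨fun {A A'} f r => by
    apply ModuleCat.hom_ext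
    apply LinearMap.ext
    intro g
    show g ≫ F.map (r • f) = r • (g ≫ F.map f)
    rw [Functor.map_smul, Linear.comp_smul]⟩
  haveI : G.IsHomological := ⟨fun T hT => by
    rw [ShortComplex.moduleCat_exact_iff]
    intro y hy
    obtain ⟨z, hz⟩ := Triangle.coyoneda_exact₂ _ (F.map_distinguished T hT) y hy
    exact ⟨z, hz.symm⟩⟩
  obtain ⟨K, ⟨i⟩⟩ := Corep.exists_corepresenting k X hreg G (fun E => by
    obtain ⟨-, -, h1, h2⟩ := finite_hom k Y B.obj (F.obj E).obj B.property (F.obj E).property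
    refine ⟨fun n => ?_, h2.subset fun n hn => ?_⟩
    · haveI := h1 n
      exact Module.Finite.equiv
        ((Linear.homCongr k (Iso.refl _) (objShiftIso X Y F E n).symm).trans (fullHomEquiv k Y _ _).symm)
    · haveI : Nontrivial (B ⟶ F.obj ((shiftFunctor _ n).obj E)) := hn
      exact ((Linear.homCongr k (Iso.refl _) (objShiftIso X Y F E n).symm).trans
        (fullHomEquiv k Y B _).symm).toEquiv.nontrivial)
  refine ⟨⟨K, ⟨⟨fun {E} => (i.app E).toLinearEquiv.symm.toEquiv, fun {E E'} f g => ?_⟩⟩⟩⟩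
  exact congrArg (fun φ => φ.hom g) (i.inv.naturality f)

end Groth.Agent.DEqLib.Sib.Adjoints
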