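import Groth.Prelude.Def_W4stkfunctorsequivp2Beil
import Mathlib.Algebra.Category.ModuleCat.Basic
import Mathlib.Data.Matrix.Basis
import Mathlib.RingTheory.Noetherian.Basic
import Mathlib.RingTheory.Finiteness.Basic
import Mathlib.RingTheory.MvPolynomial.Basic
import Mathlib.LinearAlgebra.Basis.VectorSpace
import Mathlib.LinearAlgebra.FiniteDimensional.Basic
import Mathlib.Algebra.Module.Projective

/-! Finite-dimensional algebras with a triangular system of idempotents have finite global
dimension; the Beilinson algebra is one of them. -/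

universe w u

namespace Groth.Agent.DEqLib.Sib.Beil

/-- A complete triangular system of idempotents with one-dimensional corners. -/
structure TriIdem (k : Type w) [Field k] (R : Type u) [Ring R] [Algebra k R] (N : ℕ) where
  e : Fin N → R
  sum_e : ∑ i, e i = 1
  idem : ∀ i, e i * e i = e i
  tri : ∀ i j : Fin N, (j : ℕ) < i → ∀ r, e i * r * e j = 0
  corner : ∀ (i : Fin N) r, ∃ c : k, e i * r * e i = c • e i

variable {k : Type w} [Field k] {R : Type u} [Ring R] [Algebra k R] {N : ℕ}

/-- Induction on finite modules along short resolutions by finite projective modules. -/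
theorem induction [Module.Finite k R] (T : TriIdem k R N) (Q : ModuleCat.{u} R → Prop)
    (h0 : ∀ M : ModuleCat.{u} R, Subsingleton M → Q M)
    (hstep : ∀ (P M : ModuleCat.{u} R) (f : P →ₗ[R] M), Function.Surjective f →
      Module.Finite R P → Module.Projective R P → Q (ModuleCat.of R (LinearMap.ker f)) → Q M)
    (M : ModuleCat.{u} R) (hM : Module.Finite R M) : Q M := by
  classical
  have : IsNoetherianRing R := isNoetherian_of_tower k inferInstance
  suffices h : ∀ (m : ℕ) (M : ModuleCat.{u} R), Module.Finite R M →
      (∀ i : Fin N, m ≤ (i : ℕ) → ∀ x : M, T.e i • x = 0) → Q M from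
    h N M hM (fun i hi => absurd i.isLt (by omega))
  intro m
  induction m with
  | zero =>
    intro M _ hz
    refine h0 M ⟨fun x y => ?_⟩
    have : ∀ x : M, x = 0 := fun x => by
      rw [← one_smul R x, ← T.sum_e, Finset.sum_smul]
      exact Finset.sum_eq_zero fun i _ => hz i (Nat.zero_le _) x
    rw [this x, this y]
  | succ m ih =>
    intro M _ hz
    by_cases hm : m < N
    swap
    · exact ih M inferInstance fun i hi => absurd i.isLt (by omega)
    let t : Fin N := ⟨m, hm⟩
    let : Module k M := Module.compHom M (algebraMap k R)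
    have : IsScalarTower k R M := ⟨fun c r x => by
      show (c • r) • x = algebraMap k R c • (r • x)
      rw [Algebra.smul_def, mul_smul]⟩
    have : Module.Finite k M := Module.Finite.trans R M
    let φ : M →ₗ[k] M :=
      { toFun := fun x => T.e t • x
        map_add' := fun x y => smul_add _ x y
        map_smul' := fun c x => by
          show T.e t • algebraMap k R c • x = algebraMap k R c • T.e t • x
          rw [← mul_smul, ← mul_smul, Algebra.commutes] }
    let bV := Module.finBasis k (LinearMap.range φ)
    let bM := Module.finBasis k M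
    let B := Fin (Module.finrank k (LinearMap.range φ)) ⊕
      ({j : Fin N // (j : ℕ) < m} × Fin (Module.finrank k M))
    let gi : B → Fin N := Sum.elim (fun _ => t) (fun p => p.1.1)
    let gx : B → M := Sum.elim (fun a => (bV a : M)) (fun p => T.e p.1.1 • bM p.2)
    let pr : (B → R) →ₗ[R] (B → R) :=
      { toFun := fun f b => f b * T.e (gi b)
        map_add' := fun f g => funext fun b => add_mul _ _ _
        map_smul' := fun r f => funext fun b => mul_assoc _ _ _ }
    have hpr : ∀ f, pr (pr f) = pr f := fun f => funext fun b => by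
      show f b * T.e (gi b) * T.e (gi b) = f b * T.e (gi b)
      rw [mul_assoc, T.idem]
    let ev : (B → R) →ₗ[R] M :=
      { toFun := fun f => ∑ b, f b • gx b
        map_add' := fun f g => by simp [add_smul, Finset.sum_add_distrib]
        map_smul' := fun r f => by simp [Finset.smul_sum, mul_smul] }
    let P : ModuleCat.{u} R := ModuleCat.of R (LinearMap.range pr)
    have hmem : ∀ f : P, ∀ b, (f.1 : B → R) b * T.e (gi b) = f.1 b := by
      rintro ⟨_, g, rfl⟩ b
      exact congrFun (hpr g) b
    have htop : ∀ a, T.e t • (bV a : M) = bV a := fun a => by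
      obtain ⟨y, hy⟩ := (bV a).2
      rw [← hy]
      show T.e t • T.e t • y = T.e t • y
      rw [← mul_smul, T.idem]
    have hgx : ∀ b, T.e (gi b) • gx b = gx b := by
      rintro (a | p)
      · exact htop a
      · show T.e p.1.1 • T.e p.1.1 • bM p.2 = T.e p.1.1 • bM p.2
        rw [← mul_smul, T.idem]
    let f : P →ₗ[R] M := ev.comp (LinearMap.range pr).subtype
    have hcomm : ∀ (c : k) (r : R) (y : M), r • c • y = c • r • y := fun c r y => by
      show r • algebraMap k R c • y = algebraMap k R c • r • y
      rw [← mul_smul, ← mul_smul, Algebra.commutes]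
    have hev : ∀ b, gx b ∈ LinearMap.range f := fun b => by
      refine ⟨⟨pr (Pi.single b 1), LinearMap.mem_range_self _ _⟩, ?_⟩
      show ∑ b', ((Pi.single b 1 : B → R) b' * T.e (gi b')) • gx b' = gx b
      rw [Finset.sum_eq_single b (fun b' _ h => by rw [Pi.single_eq_of_ne h, zero_mul, zero_smul])
        (fun h => absurd (Finset.mem_univ b) h), Pi.single_eq_same, one_mul, hgx]
    have hsmul : ∀ (c : k) {y : M}, y ∈ LinearMap.range f → c • y ∈ LinearMap.range f :=
      fun c y hy => Submodule.smul_mem _ (algebraMap k R c) hy
    have hsurj : Function.Surjective f := by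
      intro x
      show x ∈ LinearMap.range f
      rw [← one_smul R x, ← T.sum_e, Finset.sum_smul]
      refine Submodule.sum_mem _ fun i _ => ?_
      rcases lt_trichotomy (i : ℕ) m with h | h | h
      · rw [← bM.sum_repr x, Finset.smul_sum]
        refine Submodule.sum_mem _ fun l _ => ?_
        rw [hcomm]
        exact hsmul _ (hev (Sum.inr (⟨i, h⟩, l)))
      · obtain rfl : i = t := Fin.ext h
        have := congrArg (fun z : LinearMap.range φ => (z : M))
          (bV.sum_repr ⟨φ x, LinearMap.mem_range_self _ _⟩)
        rw [Submodule.coe_sum] at this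
        rw [show T.e t • x = _ from this.symm]
        exact Submodule.sum_mem _ fun a _ => hsmul _ (hev (Sum.inl a))
      · rw [hz i h]; exact zero_mem _
    have hPfin : Module.Finite R P := inferInstanceAs (Module.Finite R (LinearMap.range pr))
    have hPproj : Module.Projective R P :=
      Module.Projective.of_split (LinearMap.range pr).subtype pr.rangeRestrict
        (LinearMap.ext fun g => Subtype.ext (funext (hmem g)))
    refine hstep P M f hsurj hPfin hPproj (ih _ inferInstance fun i hi x => ?_)
    obtain ⟨⟨g, hg⟩, hx⟩ := x
    have hgm : ∀ b, g b * T.e (gi b) = g b := hmem ⟨g, hg⟩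
    refine Subtype.ext (Subtype.ext (funext fun b => ?_))
    show T.e i * g b = 0
    have hzero : ∀ b, (gi b : ℕ) < i → T.e i * g b = 0 := fun b h => by
      rw [← hgm b, ← mul_assoc, T.tri i (gi b) h]
    rcases eq_or_lt_of_le hi with h | h
    · obtain rfl : i = t := Fin.ext h.symm
      rcases b with a | p
      · have hc : ∀ a, ∃ c : k, T.e t * g (Sum.inl a) = c • T.e t := fun a => by
          obtain ⟨c, hc⟩ := T.corner t (g (Sum.inl a))
          exact ⟨c, by rw [← hc, mul_assoc]; exact congrArg (T.e t * ·) (hgm (Sum.inl a)).symm⟩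
        choose c hc using hc
        have hsum : ∑ a, c a • bV a = 0 := by
          refine Subtype.ext ?_
          rw [Submodule.coe_sum, Submodule.coe_zero]
          have h1 : T.e t • (∑ b, g b • gx b) = 0 := by
            rw [show ∑ b, g b • gx b = 0 from hx, smul_zero]
          rw [Finset.smul_sum, Fintype.sum_sum_type] at h1
          have h2 : ∑ p, T.e t • g (Sum.inr p) • gx (Sum.inr p) = 0 :=
            Finset.sum_eq_zero fun p _ => by rw [← mul_smul, hzero (Sum.inr p) p.1.2, zero_smul]
          rw [h2, add_zero] at h1
          refine Eq.trans (Finset.sum_congr rfl fun a _ => ?_) h1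
          rw [← mul_smul, hc, smul_assoc]
          exact congrArg (c a • ·) (htop a).symm
        rw [hc a, (Fintype.linearIndependent_iff.1 bV.linearIndependent) c hsum a, zero_smul]
      · exact hzero (Sum.inr p) p.1.2
    · refine hzero b ?_
      rcases b with a | p
      · exact h
      · exact lt_trans p.1.2 h

open MvPolynomial

instance finite_beilinsonAlg (k : Type u) [Field k] (n : ℕ) :
    Module.Finite k (DEquiv.beilinsonAlg k n) := by
  let ψ : DEquiv.beilinsonAlg k n →ₗ[k]
      (Fin (n + 1) → Fin (n + 1) → restrictTotalDegree (Fin (n + 1)) k n) :=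
    { toFun := fun M i j => ⟨M.1 i j, (mem_restrictTotalDegree _ _ _).2
        ((M.2 i j).2.totalDegree_le.trans (by omega))⟩
      map_add' := fun M M' => rfl
      map_smul' := fun c M => rfl }
  exact Module.Finite.of_injective ψ fun M M' h => Subtype.ext (Matrix.ext fun i j =>
    congrArg Subtype.val (congrFun (congrFun h i) j))

/-- The diagonal idempotents of the Beilinson algebra. -/
noncomputable def beilinsonTriIdem (k : Type u) [Field k] (n : ℕ) :
    TriIdem k (DEquiv.beilinsonAlg k n) (n + 1) where
  e i := ⟨Matrix.single i i 1, fun a b => by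
    by_cases h : i = a ∧ i = b
    · obtain ⟨rfl, rfl⟩ := h
      rw [Matrix.single_apply_same, Nat.sub_self]
      exact ⟨fun h => absurd h (lt_irrefl _), isHomogeneous_one _ _⟩
    · rw [show Matrix.single i i (1 : MvPolynomial (Fin (n + 1)) k) a b = 0 by simp [Matrix.single, h]]
      exact ⟨fun _ => rfl, isHomogeneous_zero _ _ _⟩⟩
  sum_e := by
    classical
    refine Subtype.ext (Matrix.ext fun a b => ?_)
    rw [AddSubmonoidClass.coe_finsetSum, Matrix.sum_apply]
    change _ = (1 : Matrix _ _ (MvPolynomial (Fin (n + 1)) k)) a b
    rw [Matrix.one_apply]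
    by_cases hab : a = b
    · subst hab; simp [Matrix.single]
    · rw [if_neg hab]
      refine Finset.sum_eq_zero fun x _ => ?_
      simp only [Matrix.single, Matrix.of_apply]
      exact if_neg fun h => hab (h.1.symm.trans h.2)
  idem i := Subtype.ext (by simp)
  tri i j h r := Subtype.ext (by
    show Matrix.single i i (1 : MvPolynomial (Fin (n + 1)) k) * r.1 * Matrix.single j j 1 = 0
    rw [Matrix.single_mul_mul_single, (r.2 i j).1 h]
    simp)
  corner i r := ⟨(r.1 i i).coeff 0, Subtype.ext (by
    show Matrix.single i i (1 : MvPolynomial (Fin (n + 1)) k) * r.1 * Matrix.single i i 1 = _ • Matrix.single i i 1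
    rw [Matrix.single_mul_mul_single, one_mul, mul_one, Matrix.smul_single]
    have h := (r.2 i i).2
    rw [Nat.sub_self, ← totalDegree_zero_iff_isHomogeneous] at h
    rw [← Algebra.algebraMap_eq_smul_one, MvPolynomial.algebraMap_eq,
      ← totalDegree_eq_zero_iff_eq_C.1 h])⟩

end Groth.Agent.DEqLib.Sib.Beil
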