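import Groth.Prelude.Def_W4stkfunctorsequivSib
import Mathlib.Algebra.Homology.DerivedCategory.FullyFaithful
import Mathlib.Algebra.Homology.DerivedCategory.HomologySequence
import Mathlib.Algebra.Homology.DerivedCategory.SingleTriangle
import Mathlib.CategoryTheory.Triangulated.TStructure.TruncLTGE
import Mathlib.CategoryTheory.Abelian.Refinements

/-!
# The bounded derived category: amplitude, covers by objects of the heart

`Amp ℓ K` says that the cohomology of `K` lives in degrees `[-ℓ, 0]`.  An object of amplitude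
`ℓ + 1` is the cone of a morphism from an object of amplitude `ℓ` to an object of the heart.
-/

set_option linter.style.haveILetI false
set_option backward.isDefEq.respectTransparency false

universe w v u

open CategoryTheory Category Limits Pretriangulated DerivedCategory

namespace Groth.Agent.DEqLib.Sib

variable {A : Type u} [Category.{v} A] [Abelian A] [HasDerivedCategory.{w} A]

local notation "S" => DEquiv.singleB A

/-- The cohomology of `K` lives in degrees `[-ℓ, 0]`. -/
def Amp (ℓ : ℕ) (K : DerivedCategory.Bounded A) : Prop :=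
  K.obj.IsGE (-(ℓ : ℤ)) ∧ K.obj.IsLE 0

instance singleB_full : (DEquiv.singleB A).Full where
  map_surjective f :=
    ⟨(DerivedCategory.singleFunctor A 0).preimage f.hom, ObjectProperty.hom_ext _
      ((DerivedCategory.singleFunctor A 0).map_preimage f.hom)⟩

instance singleB_faithful : (DEquiv.singleB A).Faithful where
  map_injective h := (DerivedCategory.singleFunctor A 0).map_injective (congrArg (·.hom) h)

lemma amp_single (X : A) (ℓ : ℕ) : Amp ℓ ((S).obj X) :=
  ⟨TStructure.t.isGE_of_ge ((DerivedCategory.singleFunctor A 0).obj X) (-(ℓ : ℤ)) 0,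
    inferInstanceAs (DerivedCategory.IsLE ((DerivedCategory.singleFunctor A 0).obj X) 0)⟩

lemma Amp.mono {ℓ ℓ' : ℕ} {K : DerivedCategory.Bounded A} (h : Amp ℓ K) (hℓ : ℓ ≤ ℓ') : Amp ℓ' K :=
  haveI := h.1
  ⟨TStructure.t.isGE_of_ge K.obj (-(ℓ' : ℤ)) (-(ℓ : ℤ)) (by omega), h.2⟩

lemma Amp.of_iso {ℓ : ℕ} {K L : DerivedCategory.Bounded A} (h : Amp ℓ K) (e : K ≅ L) : Amp ℓ L :=
  let e' : K.obj ≅ L.obj := (ObjectProperty.ι _).mapIso e
  ⟨(haveI := h.1; TStructure.t.isGE_of_iso e' _), (haveI := h.2; TStructure.t.isLE_of_iso e' _)⟩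

/-- There is no nonzero morphism from cohomological degrees `≤ a` to degrees `≥ b > a`. -/
lemma hom_eq_zero {K L : DerivedCategory.Bounded A} (a b : ℤ) (h : a < b) (hK : K.obj.IsLE a)
    (hL : L.obj.IsGE b) (f : K ⟶ L) : f = 0 :=
  ObjectProperty.hom_ext _ (TStructure.t.zero f.hom a b h)

lemma isLE_shift {K : DerivedCategory.Bounded A} (n a n' : ℤ) (h : a + n' = n) (hK : K.obj.IsLE n) :
    (K⟦a⟧).obj.IsLE n' :=
  let e : (K.obj)⟦a⟧ ≅ (K⟦a⟧).obj := ((((DerivedCategory.TStructure.t (C := A)).bounded.ι).commShiftIso a).app K).symm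
  haveI := TStructure.t.isLE_shift K.obj n a n' h
  TStructure.t.isLE_of_iso e n'

lemma isGE_shift {K : DerivedCategory.Bounded A} (n a n' : ℤ) (h : a + n' = n) (hK : K.obj.IsGE n) :
    (K⟦a⟧).obj.IsGE n' :=
  let e : (K.obj)⟦a⟧ ≅ (K⟦a⟧).obj := ((((DerivedCategory.TStructure.t (C := A)).bounded.ι).commShiftIso a).app K).symm
  haveI := TStructure.t.isGE_shift K.obj n a n' h
  TStructure.t.isGE_of_iso e n'

/-- Negative Ext groups between objects of the heart vanish. -/
lemma single_hom_shift_eq_zero (X Y : A) (q : ℤ) (hq : q < 0)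
    (f : (S).obj X ⟶ ((S).obj Y)⟦q⟧) : f = 0 :=
  hom_eq_zero 0 (-q) (by omega) (amp_single X 0).2
    (isGE_shift 0 q (-q) (by omega) (by simpa using (amp_single Y 0).1)) f

/-- Every object is a shift of one of bounded amplitude `[-ℓ, 0]`. -/
lemma exists_amp_shift (K : DerivedCategory.Bounded A) : ∃ (m : ℤ) (ℓ : ℕ), Amp ℓ (K⟦m⟧) := by
  obtain ⟨⟨a, ha⟩, ⟨b, hb⟩⟩ := K.property
  refine ⟨b, (b - a).toNat, ?_, isLE_shift b b 0 (by omega) hb⟩
  have h : (K⟦b⟧).obj.IsGE (a - b) := isGE_shift a b (a - b) (by omega) ha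
  exact TStructure.t.isGE_of_ge (K⟦b⟧).obj _ (a - b) (by omega)

lemma exists_iso_single {K : DerivedCategory.Bounded A} (h : Amp 0 K) :
    ∃ X : A, Nonempty ((S).obj X ≅ K) := by
  obtain ⟨h₁, h₂⟩ := h
  haveI : K.obj.IsGE 0 := by simpa using h₁
  obtain ⟨X, ⟨e⟩⟩ := K.obj.exists_iso_singleFunctor_obj_of_isGE_of_isLE 0
  exact ⟨X, ⟨ObjectProperty.isoMk _ e.symm⟩⟩

/-- A morphism out of the heart inducing an epimorphism on `H⁰`. -/
def IsCover {N : A} {K : DerivedCategory.Bounded A} (g : (S).obj N ⟶ K) : Prop :=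
  Epi ((DerivedCategory.homologyFunctor A 0).map g.hom)

/-- `H⁰` of an object of the heart. -/
noncomputable def h0Single :
    DerivedCategory.singleFunctor A 0 ⋙ DerivedCategory.homologyFunctor A 0 ≅ 𝟭 A :=
  DerivedCategory.singleFunctorCompHomologyFunctorIso A 0

lemma IsCover.precomp {N N' : A} {K : DerivedCategory.Bounded A} {g : (S).obj N ⟶ K}
    (h : IsCover g) (p : N' ⟶ N) [Epi p] : IsCover ((S).map p ≫ g) := by
  haveI : Epi ((DerivedCategory.homologyFunctor A 0).map
      ((DerivedCategory.singleFunctor A 0).map p)) :=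
    ((MorphismProperty.epimorphisms A).arrow_mk_iso_iff
      ((((Functor.mapArrowFunctor _ _).mapIso h0Single).app (Arrow.mk p)))).2 (by
        change Epi p
        infer_instance)
  haveI : Epi ((DerivedCategory.homologyFunctor A 0).map g.hom) := h
  change Epi ((DerivedCategory.homologyFunctor A 0).map
    ((DerivedCategory.singleFunctor A 0).map p ≫ g.hom))
  rw [Functor.map_comp]
  infer_instance

lemma epi_of_isCover {N X : A} {g : (S).obj N ⟶ (S).obj X} (h : IsCover g) {p : N ⟶ X}
    (hp : (S).map p = g) : Epi p := by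
  subst hp
  exact ((MorphismProperty.epimorphisms A).arrow_mk_iso_iff
      ((((Functor.mapArrowFunctor _ _).mapIso h0Single).app (Arrow.mk p)))).1 h

/-- An object in degrees `≤ 0` is covered by an object of the heart. -/
lemma exists_cover (K : DerivedCategory.Bounded A) (hK : K.obj.IsLE 0) :
    ∃ (N : A) (g : (S).obj N ⟶ K), IsCover g := by
  obtain ⟨K₀, hK₀, ⟨e⟩⟩ := K.obj.exists_iso_Q_obj_of_isLE 0
  have hd : K₀.d 0 1 = 0 := (K₀.isZero_of_isStrictlyLE 0 1 (by omega)).eq_of_tgt _ _
  let φ : (CochainComplex.singleFunctor A 0).obj (K₀.X 0) ⟶ K₀ :=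
    HomologicalComplex.mkHomFromSingle (𝟙 _) (fun j hj => by
      obtain rfl : (0 : ℤ) + 1 = j := hj
      exact (Category.id_comp _).trans hd)
  let g₀ : (DerivedCategory.singleFunctor A 0).obj (K₀.X 0) ⟶ K.obj :=
    ((DerivedCategory.singleFunctorIsoCompQ A 0).app (K₀.X 0)).hom ≫ DerivedCategory.Q.map φ ≫ e.inv
  refine ⟨K₀.X 0, ObjectProperty.homMk g₀, ?_⟩
  haveI : Epi (HomologicalComplex.homologyMap φ 0) := by
    let T := (CochainComplex.singleFunctor A 0).obj (K₀.X 0)
    haveI : Epi (φ.f 0) := by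
      simp only [φ, HomologicalComplex.mkHomFromSingle_f]
      exact epi_comp' inferInstance inferInstance
    haveI : IsIso (K₀.iCycles 0) := K₀.isIso_iCycles 0 1 (by simp) hd
    have hT : T.d 0 1 = 0 :=
      (HomologicalComplex.isZero_single_obj_X (ComplexShape.up ℤ) 0 (K₀.X 0) 1 (by omega)).eq_of_tgt _ _
    haveI : IsIso (T.iCycles 0) := T.isIso_iCycles 0 1 (by simp) hT
    haveI : Epi (HomologicalComplex.cyclesMap φ 0) := by
      have h := HomologicalComplex.cyclesMap_i φ 0
      rw [← IsIso.eq_comp_inv] at h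
      rw [h]; infer_instance
    exact epi_of_epi_fac (HomologicalComplex.homologyπ_naturality φ 0)
  haveI : Epi ((DerivedCategory.homologyFunctor A 0).map (DerivedCategory.Q.map φ)) :=
    ((MorphismProperty.epimorphisms A).arrow_mk_iso_iff
      (((Functor.mapArrowFunctor _ _).mapIso (DerivedCategory.homologyFunctorFactors A 0)).app
        (Arrow.mk φ))).2 (by assumption)
  change Epi ((DerivedCategory.homologyFunctor A 0).map g₀)
  simp only [g₀, Functor.map_comp]
  infer_instance

/-- The cocone of a cover of an object in degrees `≤ 0` is in degrees `≤ 0`. -/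
lemma isLE_cocone {N : A} {K L : DerivedCategory.Bounded A} {g : (S).obj N ⟶ K} (hg : IsCover g)
    (hK : K.obj.IsLE 0) {α : L ⟶ (S).obj N} {β : K ⟶ L⟦(1 : ℤ)⟧}
    (hT : Triangle.mk α g β ∈ distTriang (DerivedCategory.Bounded A)) : L.obj.IsLE 0 := by
  let T := (ObjectProperty.ι _).mapTriangle.obj (Triangle.mk α g β)
  have hT' : T ∈ distTriang (DerivedCategory A) := (ObjectProperty.ι _).map_distinguished _ hT
  refine (DerivedCategory.isLE_iff _ _).2 fun i hi => ?_
  refine (DerivedCategory.HomologySequence.exact₁ T hT' (i - 1) i (by omega)).isZero_of_both_zeros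
    ?_ ((DerivedCategory.isZero_of_isLE ((DerivedCategory.singleFunctor A 0).obj N) 0 i hi :
      IsZero ((DerivedCategory.homologyFunctor A i).obj T.obj₂)).eq_of_tgt _ _)
  rcases (show i = 1 ∨ 1 < i by omega) with h | h
  · subst h
    haveI : Epi ((DerivedCategory.homologyFunctor A 0).map T.mor₂) := hg
    exact (cancel_epi ((DerivedCategory.homologyFunctor A 0).map T.mor₂)).1
      ((DerivedCategory.HomologySequence.comp_δ T hT' 0 1 (by omega)).trans comp_zero.symm)
  · exact (DerivedCategory.isZero_of_isLE K.obj 0 (i - 1) (by omega) :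
      IsZero ((DerivedCategory.homologyFunctor A (i - 1)).obj K.obj)).eq_of_src _ _

/-- A cover fits in a triangle `L ⟶ S N ⟶ K ⟶ L⟦1⟧` with `L` of smaller amplitude. -/
lemma exists_step {ℓ : ℕ} {K : DerivedCategory.Bounded A} (hK : Amp (ℓ + 1) K) {N : A}
    (g : (S).obj N ⟶ K) (hg : IsCover g) :
    ∃ (L : DerivedCategory.Bounded A) (α : L ⟶ (S).obj N) (β : K ⟶ L⟦(1 : ℤ)⟧),
      Triangle.mk α g β ∈ distTriang (DerivedCategory.Bounded A) ∧ Amp ℓ L := by
  obtain ⟨L, α, β, hT⟩ := distinguished_cocone_triangle₁ g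
  refine ⟨L, α, β, hT, ?_⟩
  let T := (ObjectProperty.ι _).mapTriangle.obj (Triangle.mk α g β)
  have hT' : T ∈ distTriang (DerivedCategory A) := (ObjectProperty.ι _).map_distinguished _ hT
  let H := fun i : ℤ => DerivedCategory.homologyFunctor A i
  have hN : ∀ i : ℤ, i ≠ 0 → IsZero ((H i).obj T.obj₂) := fun i hi => by
    rcases lt_or_gt_of_ne hi with h | h
    · exact DerivedCategory.isZero_of_isGE ((DerivedCategory.singleFunctor A 0).obj N) 0 i h
    · exact DerivedCategory.isZero_of_isLE ((DerivedCategory.singleFunctor A 0).obj N) 0 i h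
  have ex : ∀ i : ℤ, (ShortComplex.mk _ _
      (DerivedCategory.HomologySequence.δ_comp T hT' (i - 1) i (by omega))).Exact := fun i =>
    DerivedCategory.HomologySequence.exact₁ T hT' (i - 1) i (by omega)
  have hlow : ∀ i : ℤ, i < -(ℓ : ℤ) → IsZero ((H i).obj L.obj) := fun i hi =>
    (ex i).isZero_of_both_zeros
      ((haveI := hK.1; DerivedCategory.isZero_of_isGE K.obj (-((ℓ + 1 : ℕ) : ℤ)) (i - 1) (by omega) :
        IsZero ((H (i - 1)).obj K.obj)).eq_of_src _ _)
      ((hN i (by omega)).eq_of_tgt _ _)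
  exact ⟨(DerivedCategory.isGE_iff _ _).2 hlow, isLE_cocone hg hK.2 hT⟩

/-- A morphism from degrees `≤ 0` to the heart which is zero on `H⁰` vanishes. -/
lemma eq_zero_of_hom_H0 {K : DerivedCategory.Bounded A} (hK : K.obj.IsLE 0) {X : A}
    (hX : ∀ φ : (DerivedCategory.homologyFunctor A 0).obj K.obj ⟶ X, φ = 0)
    (v : K ⟶ (S).obj X) : v = 0 := by
  obtain ⟨N, g, hg⟩ := exists_cover K hK
  obtain ⟨w, hw⟩ := (S).map_surjective (g ≫ v)
  have hv : (DerivedCategory.homologyFunctor A 0).map v.hom = 0 := by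
    let e := (h0Single (A := A)).app X
    exact (cancel_mono e.hom).1 ((hX _).trans zero_comp.symm)
  have hw0 : w = 0 := by
    have h1 : (DerivedCategory.homologyFunctor A 0).map ((DerivedCategory.singleFunctor A 0).map w) = 0 := by
      have := congrArg (fun f => (DerivedCategory.homologyFunctor A 0).map f.hom) hw
      refine this.trans ?_
      change (DerivedCategory.homologyFunctor A 0).map (g.hom ≫ v.hom) = 0
      rw [Functor.map_comp, hv, comp_zero]
    have h2 := (h0Single (A := A)).hom.naturality w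
    rw [Functor.comp_map, h1, zero_comp] at h2
    exact (cancel_epi ((h0Single (A := A)).hom.app N)).1 (h2.symm.trans comp_zero.symm)
  have hgv : g ≫ v = 0 := by rw [← hw, hw0, Functor.map_zero]
  obtain ⟨L, α, β, hT⟩ := distinguished_cocone_triangle₁ g
  obtain ⟨b, hb⟩ := Triangle.yoneda_exact₃ _ hT v hgv
  have hle : (L⟦(1 : ℤ)⟧).obj.IsLE (-1) := by
    exact isLE_shift 0 1 (-1) (by omega) (isLE_cocone hg hK hT)
  rw [hb, hom_eq_zero (-1) 0 (by omega) hle (by simpa using (amp_single X 0).1) b]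
  exact comp_zero

end Groth.Agent.DEqLib.Sib
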