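import Groth.Agent.DEqLib.Sib.RepFinDim
import Groth.Agent.TriCat.BrownCompact

/-! The functor of natural families and its representability. -/

universe w v u

open CategoryTheory Category Limits Pretriangulated ZeroObject Opposite
open Pretriangulated.Opposite
open Groth.Agent.TriCat

namespace Groth.Agent.DEqLib.Sib

set_option backward.isDefEq.respectTransparency false

variable {D : Type u} [Category.{v} D] [Preadditive D] [HasCoproducts.{v} D]
  [HasZeroObject D] [HasShift D ℤ] [∀ n : ℤ, (shiftFunctor D n).Additive] [Pretriangulated D]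
  [IsTriangulated D]
  {k : Type w} [Field k] (H : (Cpt D)ᵒᵖ ⥤ ModuleCat.{v} k) [H.Additive]

lemma Fam.bijective_coprod {τ : Type v} (X : τ → D) :
    Function.Bijective (fun (η : Fam H (∐ X)) (t : τ) => Fam.pull (Sigma.ι X t) η) := by
  classical
  constructor
  · intro η θ h
    refine Fam.ext (funext fun K => funext fun f => ?_)
    obtain ⟨s, a, rfl⟩ := IsCompactObject.finFactor K.property f
    show η.hom K _ = θ.hom K _
    rw [map_sum, map_sum]
    refine Finset.sum_congr rfl fun t _ => ?_
    exact congrFun (congrFun (congrArg Fam.app (congrFun h t)) K) (a t)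
  · intro y
    let e : ∀ K : Cpt D, DirectSum τ (fun t => K.obj ⟶ X t) ≃+ (K.obj ⟶ ∐ X) := fun K =>
      AddEquiv.ofBijective _ (K.property τ X)
    let F : ∀ K : Cpt D, DirectSum τ (fun t => K.obj ⟶ X t) →+ H.obj (op K) := fun K =>
      DirectSum.toAddMonoid fun t => (y t).hom K
    have he : ∀ (K : Cpt D) (t : τ) (a : K.obj ⟶ X t),
        e K (DirectSum.of _ t a) = a ≫ Sigma.ι X t := by
      intro K t a
      simp [e, CohDer.homSumToHomCoprod, Preadditive.rightComp]
    let η : Fam H (∐ X) := ⟨fun K f => F K ((e K).symm f), fun {K L} g f => by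
      obtain ⟨z, rfl⟩ := (e L).surjective f
      rw [AddEquiv.symm_apply_apply]
      induction z using DirectSum.induction_on with
      | zero => simp [rs]
      | of t a =>
        rw [he, ← assoc, ← he, AddEquiv.symm_apply_apply, DirectSum.toAddMonoid_of,
          DirectSum.toAddMonoid_of]
        exact (y t).nat g a
      | add z z' hz hz' => simp [map_add, Preadditive.comp_add, hz, hz', rs]⟩
    refine ⟨η, funext fun t => Fam.ext (funext fun K => funext fun a => ?_)⟩
    show F K ((e K).symm (a ≫ Sigma.ι X t)) = _
    rw [← he, AddEquiv.symm_apply_apply, DirectSum.toAddMonoid_of]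
    rfl

variable [∀ X : D, Small.{v} (Fam H X)]

/-- The functor of natural families. -/
noncomputable def famFunctor : Dᵒᵖ ⥤ AddCommGrpCat.{v} where
  obj X := AddCommGrpCat.of (Shrink.{v} (Fam H X.unop))
  map {X Y} f := AddCommGrpCat.ofHom <|
    (Shrink.addEquiv.symm.toAddMonoidHom.comp (Fam.pull f.unop)).comp Shrink.addEquiv.toAddMonoidHom
  map_id X := by
    refine AddCommGrpCat.ext fun x => ?_
    refine (congrArg Shrink.addEquiv.symm (Fam.ext (funext fun K => funext fun f => ?_))).trans
      (Shrink.addEquiv.symm_apply_apply x)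
    exact congrArg _ (comp_id f)
  map_comp {X Y Z} f g := by
    refine AddCommGrpCat.ext fun x => ?_
    refine congrArg Shrink.addEquiv.symm (Fam.ext (funext fun K => funext fun h => ?_))
    simp only [AddEquiv.coe_toAddMonoidHom]
    refine Eq.trans ?_ (congrFun (congrFun (congrArg Fam.app
      (congrArg (Fam.pull g.unop) (AddEquiv.apply_symm_apply _ _).symm)) K) h)
    exact congrArg _ (assoc _ _ _).symm

/-- The family underlying an element of `famFunctor`. -/
noncomputable def famOf {X : Dᵒᵖ} (x : (famFunctor H).obj X) : Fam H X.unop :=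
  Shrink.addEquiv x

lemma famOf_map {X Y : Dᵒᵖ} (f : X ⟶ Y) (x : (famFunctor H).obj X) :
    famOf H ((famFunctor H).map f x) = Fam.pull f.unop (famOf H x) :=
  Shrink.addEquiv.apply_symm_apply _

instance : (famFunctor H).PreservesZeroMorphisms where
  map_zero X Y := by
    refine AddCommGrpCat.ext fun x => ?_
    apply (Shrink.addEquiv (α := Fam H _)).injective
    refine (famOf_map H _ x).trans
      ((Fam.ext (funext fun K => funext fun f => ?_)).trans (map_zero _).symm)
    show (famOf H x).app K (f ≫ 0) = 0
    rw [comp_zero]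
    exact ((famOf H x).hom K).map_zero

lemma isHomological_famFunctor [∀ X, Module.Finite k (H.obj X)] (hcoh : IsCohom H) :
    (famFunctor H).IsHomological where
  exact T hT := by
    rw [ShortComplex.ab_exact_iff]
    intro x hx
    obtain ⟨θ, hθ⟩ := Fam.exists_extension hcoh T.mor₁.unop (famOf H x) (fun K b hb => by
      have hT' := unop_distinguished T hT
      obtain ⟨a, ha⟩ := Triangle.coyoneda_exact₂ _ hT' b hb
      rw [ha]
      have := famOf_map H T.mor₂ x
      rw [show (famFunctor H).map T.mor₂ x = 0 from hx] at this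
      exact (congrFun (congrFun (congrArg Fam.app this) K) a).symm.trans
        (congrFun (congrFun (congrArg Fam.app (map_zero (Shrink.addEquiv (α := Fam H _)))) K) a))
    refine ⟨Shrink.addEquiv.symm θ, ?_⟩
    apply (Shrink.addEquiv (α := Fam H _)).injective
    exact (famOf_map H T.mor₁ _).trans ((congrArg _ (AddEquiv.apply_symm_apply _ _)).trans hθ)

lemma preservesLimits_famFunctor (τ : Type v) :
    PreservesLimitsOfShape (Discrete τ) (famFunctor H) := by
  have : PreservesLimitsOfShape (Discrete τ) (famFunctor H ⋙ forget AddCommGrpCat.{v}) := by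
    refine ⟨fun {K} => ?_⟩
    let X : τ → D := fun t => (K.obj ⟨t⟩).unop
    have : PreservesLimit (Discrete.functor (K.obj ∘ Discrete.mk))
        (famFunctor H ⋙ forget AddCommGrpCat.{v}) := by
      refine preservesLimit_of_preserves_limit_cone (Cofan.IsColimit.op (coproductIsCoproduct X))
        ((Types.isLimit_iff _).2 fun y hy => ?_).some
      obtain ⟨η, hη⟩ := (Fam.bijective_coprod H X).2 fun t => Shrink.addEquiv (y ⟨t⟩)
      refine ⟨Shrink.addEquiv.symm η, fun j => ?_, fun x hx => ?_⟩
      · apply (Shrink.addEquiv (α := Fam H _)).injective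
        exact (famOf_map H _ _).trans
          ((congrArg _ (AddEquiv.apply_symm_apply _ _)).trans (congrFun hη j.as))
      · apply (Shrink.addEquiv (α := Fam H _)).injective
        rw [AddEquiv.apply_symm_apply]
        refine (Fam.bijective_coprod H X).1 ((funext fun t => ?_).trans hη.symm)
        exact (famOf_map H (Sigma.ι X t).op x).symm.trans (congrArg Shrink.addEquiv (hx ⟨t⟩))
    exact preservesLimit_of_iso_diagram _ Discrete.natIsoFunctor.symm
  exact preservesLimitsOfShape_of_reflects_of_preserves _ (forget AddCommGrpCat.{v})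

omit [∀ X : D, Small.{v} (Fam H X)] in
/-- On a compact object a family is determined by its value at the identity. -/
lemma Fam.bijective_eval (K : Cpt D) :
    Function.Bijective (fun η : Fam H K.obj => η.app K (𝟙 K.obj)) := by
  constructor
  · intro η θ h
    refine Fam.ext (funext fun L => funext fun f => ?_)
    rw [← comp_id f]
    exact (η.nat (ObjectProperty.homMk f : L ⟶ K) (𝟙 K.obj)).trans
      ((congrArg (rs H _) h).trans (θ.nat (ObjectProperty.homMk f : L ⟶ K) (𝟙 K.obj)).symm)
  · intro y
    exact ⟨⟨fun L f => rs H (ObjectProperty.homMk f : L ⟶ K) y, fun g f => rs_comp H g _ y⟩,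
      rs_id H y⟩

theorem exists_representing_family (hD : CohDer.IsCompactlyGenerated D)
    [∀ X, Module.Finite k (H.obj X)] (hcoh : IsCohom H) :
    ∃ (Y : D) (θ : Fam H Y), ∀ K : Cpt D, Function.Bijective (θ.app K) := by
  have := isHomological_famFunctor H hcoh
  have := preservesLimits_famFunctor H
  obtain ⟨⟨Y, ⟨R⟩⟩⟩ := isRepresentable_of_isCompactlyGenerated hD (famFunctor H)
  let θ : Fam H Y := famOf H (R.homEquiv (𝟙 Y))
  refine ⟨Y, θ, fun K => ?_⟩
  have h : θ.app K = fun f => (famOf H (R.homEquiv f : (famFunctor H).obj (op K.obj))).app K (𝟙 _) := by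
    funext f
    rw [show R.homEquiv f = (famFunctor H).map f.op (R.homEquiv (𝟙 Y)) by
      simpa using R.homEquiv_comp f (𝟙 Y), famOf_map]
    exact congrArg _ (id_comp f).symm
  rw [h]
  exact (Fam.bijective_eval H K).comp ((Shrink.addEquiv (α := Fam H K.obj)).bijective.comp
    R.homEquiv.bijective)

end Groth.Agent.DEqLib.Sib
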