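import Groth.Agent.DEqLib.Sib.SmallModel
import Groth.Agent.S6709
import Mathlib.Algebra.Module.Shrink
import Mathlib.CategoryTheory.Linear.Yoneda
import Groth.Prelude.Def_SGA6

/-!
# Finite-dimensional cohomological functors on perfect complexes are represented by quasi-coherent complexes
-/

universe u

open CategoryTheory Category Limits Pretriangulated AlgebraicGeometry Opposite

attribute [local instance] HasDerivedCategory.standard

set_option backward.isDefEq.respectTransparency false

namespace Groth.Agent.DEqLib.Sib.BvdBRep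

open SmallModel

variable (k : Type u) [Field k] (X : Scheme.{u}) [X.Over (Spec (CommRingCat.of k))]
  [CompactSpace X] [QuasiSeparatedSpace X]

/-- Compact objects of the small model to perfect objects. -/
noncomputable def toPerf :
    ObjectProperty.FullSubcategory (fun K : Q₁ X => CohDer.IsCompactObject K) ⥤
      (SGA6.perfP X).FullSubcategory :=
  ObjectProperty.lift _ (ObjectProperty.ι _ ⋙ toD X)
    fun K => (isCompactObject_iff_isPerfect X K.obj).1 K.property

instance : (toPerf X).Faithful := inferInstanceAs (ObjectProperty.lift _ _ _).Faithful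

instance : (toPerf X).Full := inferInstanceAs (ObjectProperty.lift _ _ _).Full

instance : (toPerf X).EssSurj where
  mem_essImage E := by
    obtain ⟨K, ⟨e⟩⟩ := exists_toD_iso X E.obj (PerfD40.isQCohD_of_isPerfect E.property)
    exact ⟨⟨K, (isCompactObject_iff_isPerfect X K).2 (PerfD40.isPerfect_of_iso' e.symm E.property)⟩,
      ⟨ObjectProperty.isoMk _ e⟩⟩

instance : (toPerf X).IsEquivalence where

instance : (toPerf X).Additive where
  map_add {_ _ f g} := ObjectProperty.hom_ext _ ((toD X).map_add (f := f.hom) (g := g.hom))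

variable {X}

/-- The functor on compact objects with values in small vector spaces. -/
noncomputable def shrunk (H : ((SGA6.perfP X).FullSubcategory)ᵒᵖ ⥤ ModuleCat.{u + 1} k)
    [∀ E, Small.{u} (H.obj E)] :
    (ObjectProperty.FullSubcategory (fun K : Q₁ X => CohDer.IsCompactObject K))ᵒᵖ ⥤ ModuleCat.{u} k where
  obj K := ModuleCat.of k (Shrink.{u} (H.obj ((toPerf X).op.obj K)))
  map {K L} f := ModuleCat.ofHom ((Shrink.linearEquiv.{u} k _).symm.toLinearMap ∘ₗ
    (H.map ((toPerf X).op.map f)).hom ∘ₗ (Shrink.linearEquiv.{u} k _).toLinearMap)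
  map_id K := by
    apply ModuleCat.hom_ext
    ext a
    simp
  map_comp f g := by
    apply ModuleCat.hom_ext
    ext a
    simp

variable (H : ((SGA6.perfP X).FullSubcategory)ᵒᵖ ⥤ ModuleCat.{u + 1} k) [H.Additive]

lemma small_of_finite (E : ((SGA6.perfP X).FullSubcategory)ᵒᵖ) [Module.Finite k (H.obj E)] :
    Small.{u} (H.obj E) := by
  obtain ⟨n, f, hf⟩ := Module.Finite.exists_fin' k (H.obj E)
  exact small_of_surjective hf

/-- Representability in `D_QCoh(X)`. -/
theorem exists_representing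
    (hlin : ∀ (A B : (SGA6.perfP X).FullSubcategory) (r : k) (f : A ⟶ B), H.map (r • f).op = r • H.map f.op)
    (hcoh : ∀ T ∈ distTriang (DCoh.D X), ∀ (h₁ : DCoh.IsPerfect T.obj₁)
      (h₂ : DCoh.IsPerfect T.obj₂) (h₃ : DCoh.IsPerfect T.obj₃)
      (y : H.obj (op ⟨T.obj₂, h₂⟩)),
      H.map (ObjectProperty.homMk T.mor₁ : (⟨T.obj₁, h₁⟩ : (SGA6.perfP X).FullSubcategory) ⟶ ⟨T.obj₂, h₂⟩).op y = 0 →
        ∃ z : H.obj (op ⟨T.obj₃, h₃⟩),
          H.map (ObjectProperty.homMk T.mor₂ : (⟨T.obj₂, h₂⟩ : (SGA6.perfP X).FullSubcategory) ⟶ ⟨T.obj₃, h₃⟩).op z = y)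
    (hfin : ∀ E, Module.Finite k (H.obj (op E))) :
    ∃ Y : DCoh.D X, DCoh.IsQCohD Y ∧
      Nonempty (H ≅ (ObjectProperty.ι (SGA6.perfP X)).op ⋙ (linearYoneda k (DCoh.D X)).obj Y) := by
  haveI : ∀ E, Small.{u} (H.obj E) := fun E => haveI := hfin E.unop; small_of_finite k H E
  let H₁ := shrunk k H
  haveI : H₁.Additive := ⟨fun {K L f g} => by
    apply ModuleCat.hom_ext
    ext a
    simp [H₁, shrunk]⟩
  obtain ⟨Y, ⟨i⟩⟩ := Groth.Agent.S6709.result (isCompactlyGenerated X) H₁
    (fun K L r f => by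
      have h : (toPerf X).map (r • f) = r • (toPerf X).map f :=
        ObjectProperty.hom_ext _ ((toD X).map_smul (r := r) (f := f.hom))
      apply ModuleCat.hom_ext
      ext a
      simp [H₁, shrunk, h, hlin])
    (fun T hT h₁ h₂ h₃ y hy => by
      have hT' := (toD X).map_distinguished T hT
      have hy' : H.map ((toPerf X).map (ObjectProperty.homMk T.mor₁ :
          (⟨T.obj₁, h₁⟩ : ObjectProperty.FullSubcategory _) ⟶ ⟨T.obj₂, h₂⟩)).op
          (Shrink.linearEquiv.{u} k _ y) = 0 := (Shrink.linearEquiv.{u} k _).symm.injective (by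
        rw [map_zero]; exact hy)
      obtain ⟨z, hz⟩ := hcoh _ hT' ((isCompactObject_iff_isPerfect X _).1 h₁)
        ((isCompactObject_iff_isPerfect X _).1 h₂) ((isCompactObject_iff_isPerfect X _).1 h₃) _ hy'
      refine ⟨(Shrink.linearEquiv.{u} k _).symm z, ?_⟩
      show (Shrink.linearEquiv.{u} k _).symm (H.map _ (Shrink.linearEquiv.{u} k _
        ((Shrink.linearEquiv.{u} k _).symm z))) = y
      rw [LinearEquiv.apply_symm_apply]
      exact (congrArg _ hz).trans (LinearEquiv.symm_apply_apply _ y))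
    (fun K => haveI := hfin ((toPerf X).obj K.unop)
      Module.Finite.equiv (Shrink.linearEquiv.{u} k (H.obj (op ((toPerf X).obj K.unop)))).symm)
  let G := (ObjectProperty.ι (SGA6.perfP X)).op ⋙ (linearYoneda k (DCoh.D X)).obj ((toD X).obj Y)
  let e : ∀ K : (ObjectProperty.FullSubcategory (fun K : Q₁ X => CohDer.IsCompactObject K))ᵒᵖ,
      H.obj ((toPerf X).op.obj K) ≃ₗ[k] G.obj ((toPerf X).op.obj K) := fun K =>
    ((Shrink.linearEquiv.{u} k _).symm.trans (i.app K).toLinearEquiv).trans
      { toFun := fun f => (toD X).map f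
        map_add' := fun _ _ => (toD X).map_add
        map_smul' := fun r f => (toD X).map_smul (r := r) (f := f)
        invFun := (toD X).preimage
        left_inv := fun f => (toD X).preimage_map f
        right_inv := fun f => (toD X).map_preimage f }
  let j : (toPerf X).op ⋙ H ≅ (toPerf X).op ⋙ G := NatIso.ofComponents (fun K => (e K).toModuleIso) (fun {K L} f => by
    apply ModuleCat.hom_ext
    ext a
    have hn := congrArg (fun φ => φ.hom ((Shrink.linearEquiv.{u} k _).symm a)) (i.hom.naturality f)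
    simp [H₁, shrunk] at hn
    show (toD X).map _ = ((toPerf X).map f.unop).hom ≫ (toD X).map _
    erw [← (toD X).map_comp]
    exact congrArg (toD X).map hn)
  exact ⟨(toD X).obj Y, toD_qcoh X Y,
    ⟨(((Functor.whiskeringLeft _ _ (ModuleCat.{u + 1} k)).obj (toPerf X).op)).preimageIso j⟩⟩

omit [CompactSpace X] [QuasiSeparatedSpace X] [H.Additive] in
/-- A representing object inherits the finiteness of the functor. -/
theorem finite_hom_of_iso [(SGA6.perfP X).IsStableUnderShift ℤ]
    (hfin : ∀ E : (SGA6.perfP X).FullSubcategory,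
      (∀ n : ℤ, Module.Finite k (H.obj (op ((shiftFunctor ((SGA6.perfP X).FullSubcategory) n).obj E)))) ∧
      Set.Finite {n : ℤ | Nontrivial (H.obj (op ((shiftFunctor ((SGA6.perfP X).FullSubcategory) n).obj E)))})
    (Y : DCoh.D X) (i : H ≅ (ObjectProperty.ι (SGA6.perfP X)).op ⋙ (linearYoneda k (DCoh.D X)).obj Y)
    (E : DCoh.D X) (hE : DCoh.IsPerfect E) :
    (∀ n : ℤ, Module.Finite k (E ⟶ (shiftFunctor (DCoh.D X) n).obj Y)) ∧
      Set.Finite {n : ℤ | Nontrivial (E ⟶ (shiftFunctor (DCoh.D X) n).obj Y)} := by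
  let P : (SGA6.perfP X).FullSubcategory := ⟨E, hE⟩
  have he : ∀ n : ℤ, Nonempty
      (H.obj (op ((shiftFunctor ((SGA6.perfP X).FullSubcategory) (-n)).obj P)) ≃ₗ[k]
        (E ⟶ (shiftFunctor (DCoh.D X) n).obj Y)) := fun n => by
    let a : ((shiftFunctor ((SGA6.perfP X).FullSubcategory) (-n)).obj P).obj ≅ E⟦-n⟧ :=
      ((ObjectProperty.ι (SGA6.perfP X)).commShiftIso (-n)).app P
    let b : E ≅ (E⟦-n⟧)⟦n⟧ := ((shiftFunctorCompIsoId (DCoh.D X) (-n) n (by simp)).app E).symm
    let l : (E⟦-n⟧ ⟶ Y) ≃ₗ[k] ((E⟦-n⟧)⟦n⟧ ⟶ Y⟦n⟧) :=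
      { (Functor.FullyFaithful.ofFullyFaithful (shiftFunctor (DCoh.D X) n)).homEquiv with
        map_add' := fun f g => (shiftFunctor (DCoh.D X) n).map_add
        map_smul' := fun r f => (shiftFunctor (DCoh.D X) n).map_smul (r := r) (f := f) }
    exact ⟨(i.app _).toLinearEquiv.trans (((Linear.homCongr k a (Iso.refl Y)).trans l).trans
      (Linear.homCongr k b.symm (Iso.refl _)))⟩
  refine ⟨fun n => ?_, ?_⟩
  · haveI := (hfin P).1 (-n)
    exact Module.Finite.equiv (he n).some
  · refine (((hfin P).2.image fun n => -n)).subset fun n hn => ⟨-n, ?_, neg_neg n⟩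
    haveI : Nontrivial (E ⟶ (shiftFunctor (DCoh.D X) n).obj Y) := hn
    exact (he n).some.toEquiv.nontrivial

omit [CompactSpace X] [QuasiSeparatedSpace X] [H.Additive] in
/-- The values of the functor are finite dimensional. -/
theorem finite_obj [(SGA6.perfP X).IsStableUnderShift ℤ]
    (hfin : ∀ E : (SGA6.perfP X).FullSubcategory,
      (∀ n : ℤ, Module.Finite k (H.obj (op ((shiftFunctor ((SGA6.perfP X).FullSubcategory) n).obj E)))) ∧
      Set.Finite {n : ℤ | Nontrivial (H.obj (op ((shiftFunctor ((SGA6.perfP X).FullSubcategory) n).obj E)))})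
    (E : (SGA6.perfP X).FullSubcategory) : Module.Finite k (H.obj (op E)) :=
  haveI := (hfin E).1 0
  Module.Finite.equiv (H.mapIso ((shiftFunctorZero _ ℤ).app E).op).toLinearEquiv.symm

end Groth.Agent.DEqLib.Sib.BvdBRep
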