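import Groth.Agent.DEqLib.Sib.StrongGen
import Groth.Agent.KFlatLib.PsiC
import Groth.Agent.KFlatLib.Scheme.LpullLE
import Groth.Agent.AmpleVan.Vanish
import Groth.Agent.S0999

/-! Amplitude and coherence under flat pullback, tensor products with locally free modules, and pushforward. -/

universe u

open CategoryTheory CategoryTheory.Limits CategoryTheory.Pretriangulated AlgebraicGeometry

set_option backward.isDefEq.respectTransparency false
set_option linter.style.haveILetI false

attribute [local instance] HasDerivedCategory.standard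

noncomputable section

namespace Groth.Agent.DEqLib.Sib.CohAmp

open Groth.Agent Groth.Agent.KFlatLib

variable {X Y : Scheme.{u}}

/-- The upper vanishing bound of `Rf_*` in all degrees. -/
theorem exists_rpush_bound (f : X ⟶ Y) [QuasiCompact f] [QuasiSeparated f] [CompactSpace Y]
    [DCoh.HasRpush f] :
    ∃ d : ℕ, ∀ (E : DCoh.D X) (c m : ℤ), DCoh.IsQCohD E → E.IsLE c → c + d ≤ m →
      IsZero (DCoh.HD ((DCoh.Rpush f).obj E) m) := by
  obtain ⟨d, hd⟩ := S0999.result f
  refine ⟨d.toNat, fun E c m hq hle hm => ?_⟩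
  haveI := hle
  haveI : (E⟦c⟧).IsLE 0 := DerivedCategory.TStructure.t.isLE_shift E c c 0 (by omega)
  obtain ⟨e⟩ := nonempty_rpush_shift f E c
  exact (hd (E⟦c⟧) (isQCohD_shift hq c) inferInstance (m - c) (by omega)).of_iso
    ((((DerivedCategory.homologyFunctor Y.Modules 0).shiftIso c (m - c) m (by omega)).app _).symm ≪≫
      (DerivedCategory.homologyFunctor Y.Modules (m - c)).mapIso e.symm)

/-- `H^q (L ⊗ G) = H^q L ⊗ G` for locally free `G`. -/
theorem nonempty_hd_ltensor {G : X.Modules} (hG : FlatMod.IsFinLocFree G)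
    [DCoh.HasLTensorCx ((HomologicalComplex.single X.Modules (ComplexShape.up ℤ) 0).obj G)]
    (L : DCoh.D X) (q : ℤ) :
    Nonempty (DCoh.HD ((DCoh.LTensorCx ((HomologicalComplex.single X.Modules (ComplexShape.up ℤ) 0).obj G)).obj L) q ≅
      CohB1.tensorMod (DCoh.HD L q) G) := by
  let N := DerivedCategory.Q.objPreimage L
  let eN : DCoh.toD X N ≅ L := DerivedCategory.Q.objObjPreimageIso L
  obtain ⟨e⟩ := nonempty_homology_tensor_flat (isFlat_of_isFinLocFree hG) N q
  exact ⟨(DerivedCategory.homologyFunctor X.Modules q).mapIso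
      ((DCoh.LTensorCx _).mapIso eN.symm ≪≫ StrongGen.ltcApp _ (StrongGen.single_facts hG).1 N) ≪≫
    (DerivedCategory.homologyFunctorFactors X.Modules q).app _ ≪≫ e ≪≫
    ((DCoh.tensorBi.flip.obj G)).mapIso (((DerivedCategory.homologyFunctorFactors X.Modules q).app N).symm ≪≫
      (DerivedCategory.homologyFunctor X.Modules q).mapIso eN)⟩

theorem isZero_hd_ltensor {G : X.Modules} (hG : FlatMod.IsFinLocFree G)
    [DCoh.HasLTensorCx ((HomologicalComplex.single X.Modules (ComplexShape.up ℤ) 0).obj G)]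
    {L : DCoh.D X} {q : ℤ} (h : IsZero (DCoh.HD L q)) :
    IsZero (DCoh.HD ((DCoh.LTensorCx ((HomologicalComplex.single X.Modules (ComplexShape.up ℤ) 0).obj G)).obj L) q) :=
  ((DCoh.tensorBi.flip.obj G).map_isZero h).of_iso (nonempty_hd_ltensor hG L q).some

theorem isCohD_ltensor [IsLocallyNoetherian X] {G : X.Modules} (hG : FlatMod.IsFinLocFree G)
    [DCoh.HasLTensorCx ((HomologicalComplex.single X.Modules (ComplexShape.up ℤ) 0).obj G)]
    {L : DCoh.D X} (h : DCoh.IsCohD L) :
    DCoh.IsCohD ((DCoh.LTensorCx ((HomologicalComplex.single X.Modules (ComplexShape.up ℤ) 0).obj G)).obj L) :=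
  fun q => isCoh_of_iso (nonempty_hd_ltensor hG L q).some.symm
    (AmpleVan.isCoh_tensor (h q) (QCoh.isCoh_iff_isFP.2 (QCoh.isFP_of_isFinLocFree hG)))

variable (f : X ⟶ Y) [Flat f] [DCoh.HasLpull f]

/-- `H^q (Lf^* L) = f^* H^q L` for flat `f`. -/
theorem nonempty_hd_lpull (L : DCoh.D Y) (q : ℤ) :
    Nonempty (DCoh.HD ((DCoh.Lpull f).obj L) q ≅ (Scheme.Modules.pullback f).obj (DCoh.HD L q)) := by
  haveI := preservesHomology_pullback f
  haveI : PreservesFiniteLimits (Scheme.Modules.pullback f) :=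
    (Scheme.Modules.pullback f).preservesFiniteLimits_of_preservesHomology
  haveI : PreservesFiniteColimits (Scheme.Modules.pullback f) :=
    (Scheme.Modules.pullback f).preservesFiniteColimits_of_preservesHomology
  obtain ⟨N⟩ := RelPC13.BC.nonempty_lpull_iso_pullD f
  exact ⟨(DerivedCategory.homologyFunctor X.Modules q).mapIso (N.app L) ≪≫
    (mapDCHomologyIso (Scheme.Modules.pullback f) q).app L⟩

theorem isZero_hd_lpull {L : DCoh.D Y} {q : ℤ} (h : IsZero (DCoh.HD L q)) :
    IsZero (DCoh.HD ((DCoh.Lpull f).obj L) q) :=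
  ((Scheme.Modules.pullback f).map_isZero h).of_iso (nonempty_hd_lpull f L q).some

end Groth.Agent.DEqLib.Sib.CohAmp
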