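import Groth.Agent.H9Misc.BrownGroth
import Groth.Agent.H9Misc.TFactor
import Mathlib.Algebra.Homology.DerivedCategory.SingleTriangle
import Mathlib.Algebra.Homology.DerivedCategory.ShortExact
import Mathlib.Algebra.Module.Injective
import Mathlib.Algebra.Homology.ShortComplex.ModuleCat
import Mathlib.Algebra.Category.ModuleCat.Products
import Mathlib.Algebra.Category.ModuleCat.EnoughInjectives
import Mathlib.RingTheory.Noetherian.Basic

/-! Compact objects of the derived category of modules over an arbitrary ring. -/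

universe u

open CategoryTheory Category Limits Opposite Pretriangulated DerivedCategory

attribute [local instance] HasDerivedCategory.standard

set_option backward.isDefEq.respectTransparency false
set_option linter.style.haveILetI false

namespace Groth.Agent.DEqLib.Sib.CMod

variable {R : Type u} [Ring R]


/-- Maps into small coproducts factor through finitely many summands. -/
def FinFac (M : DerivedCategory (ModuleCat.{u} R)) : Prop :=
  ∀ (J : Type u) (Y : J → DerivedCategory (ModuleCat.{u} R)) (c : Cofan Y), IsColimit c → ∀ f : M ⟶ c.pt,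
    ∃ (s : Finset J) (a : ∀ j, M ⟶ Y j), f = ∑ j ∈ s, a j ≫ c.inj j

lemma FinFac.of_iso {M M' : DerivedCategory (ModuleCat.{u} R)} (e : M ≅ M') (h : FinFac M) : FinFac M' := by
  intro J Y c hc f
  obtain ⟨s, a, ha⟩ := h J Y c hc (e.hom ≫ f)
  refine ⟨s, fun j => e.inv ≫ a j, ?_⟩
  simp only [assoc, ← Preadditive.comp_sum, ← ha, Iso.inv_hom_id_assoc]

lemma FinFac.of_isZero {M : DerivedCategory (ModuleCat.{u} R)} (h : IsZero M) : FinFac M :=
  fun J Y c hc f => ⟨∅, fun _ => 0, by simp [h.eq_of_src f 0]⟩

open Classical in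
/-- Projection of a coproduct on a summand. -/
noncomputable def prj {C : Type*} [Category C] [HasZeroMorphisms C] {J : Type*} {Y : J → C}
    {c : Cofan Y} (hc : IsColimit c) (j : J) : c.pt ⟶ Y j :=
  Cofan.IsColimit.desc hc fun i => if h : i = j then eqToHom (congrArg Y h) else 0

lemma inj_prj_self {C : Type*} [Category C] [HasZeroMorphisms C] {J : Type*} {Y : J → C}
    {c : Cofan Y} (hc : IsColimit c) (j : J) : c.inj j ≫ prj hc j = 𝟙 _ := by
  simp [prj]

lemma inj_prj_ne {C : Type*} [Category C] [HasZeroMorphisms C] {J : Type*} {Y : J → C}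
    {c : Cofan Y} (hc : IsColimit c) {i j : J} (h : i ≠ j) : c.inj i ≫ prj hc j = 0 := by
  simp [prj, h]

lemma sum_comp_prj {C : Type*} [Category C] [Preadditive C] {J : Type*} [DecidableEq J] {Y : J → C}
    {c : Cofan Y} (hc : IsColimit c) {M : C} (s : Finset J) (a : ∀ j, M ⟶ Y j) (j : J) :
    (∑ i ∈ s, a i ≫ c.inj i) ≫ prj hc j = if j ∈ s then a j else 0 := by
  rw [Preadditive.sum_comp]
  split_ifs with h
  · rw [Finset.sum_eq_single j (fun i _ hi => by rw [assoc, inj_prj_ne hc hi, comp_zero])
      (fun h' => absurd h h'), assoc, inj_prj_self, comp_id]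
  · refine Finset.sum_eq_zero fun i hi => ?_
    rw [assoc, inj_prj_ne hc (fun e => h (by rwa [← e])), comp_zero]

lemma FinFac.ext₂ (T : Triangle (DerivedCategory (ModuleCat.{u} R))) (hT : T ∈ distTriang _) (h₁ : FinFac T.obj₁)
    (h₃ : FinFac T.obj₃) : FinFac T.obj₂ := by
  classical
  intro J Y c hc f
  obtain ⟨s, a, ha⟩ := h₁ J Y c hc (T.mor₁ ≫ f)
  let f' := f - ∑ j ∈ s, (f ≫ prj hc j) ≫ c.inj j
  have hf' : T.mor₁ ≫ f' = 0 := by
    simp only [f', Preadditive.comp_sub, Preadditive.comp_sum, ← assoc]
    rw [sub_eq_zero]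
    refine ha.trans (Finset.sum_congr rfl fun j hj => ?_)
    have := sum_comp_prj hc s a j
    rw [← ha, if_pos hj] at this
    rw [this]
  obtain ⟨g, hg⟩ := Triangle.yoneda_exact₂ _ hT f' hf'
  obtain ⟨t, b, hb⟩ := h₃ J Y c hc g
  refine ⟨s ∪ t, fun j => (if j ∈ s then f ≫ prj hc j else 0) + (if j ∈ t then T.mor₂ ≫ b j else 0), ?_⟩
  have : f = (∑ j ∈ s, (f ≫ prj hc j) ≫ c.inj j) + ∑ j ∈ t, (T.mor₂ ≫ b j) ≫ c.inj j := by
    simp only [assoc (T.mor₂), ← Preadditive.comp_sum, ← hb, ← hg, f', add_sub_cancel]
  refine this.trans ?_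
  simp only [Preadditive.add_comp, Finset.sum_add_distrib]
  congr 1
  · rw [← Finset.sum_subset (Finset.subset_union_left (s₁ := s) (s₂ := t))]
    · exact Finset.sum_congr rfl fun j hj => by rw [if_pos hj]
    · intro j _ hj; simp [hj]
  · rw [← Finset.sum_subset (Finset.subset_union_right (s₁ := s) (s₂ := t))]
    · exact Finset.sum_congr rfl fun j hj => by rw [if_pos hj]
    · intro j _ hj; simp [hj]

/-- The elements of a coproduct of modules. -/
lemma exists_finset_sum {J : Type u} (M : J → (ModuleCat.{u} R)) (x : (∐ M : (ModuleCat.{u} R))) :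
    ∃ (s : Finset J) (y : ∀ j, M j), x = ∑ j ∈ s, (Sigma.ι M j).hom (y j) := by
  classical
  let e := ModuleCat.coprodIsoDirectSum M
  let z : DirectSum J (fun j => M j) := e.hom.hom x
  refine ⟨DFinsupp.support z, fun j => z j, ?_⟩
  refine Eq.trans (b := e.inv.hom z) (ConcreteCategory.congr_hom e.hom_inv_id x).symm ?_
  conv_lhs => rw [← DirectSum.sum_support_of z]
  rw [map_sum]
  exact Finset.sum_congr rfl fun j _ =>
    ConcreteCategory.congr_hom (ModuleCat.lof_coprodIsoDirectSum_inv M j) (z j)

/-- (ModuleCat.{u} R) finite projective module in one degree is compact. -/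
lemma finFac_single (P : (ModuleCat.{u} R)) [Module.Finite R P] [Module.Projective R P] (n : ℤ) :
    FinFac ((DerivedCategory.singleFunctor (ModuleCat.{u} R) n).obj P) := by
  classical
  refine FinFac.of_iso ((singleFunctorIsoCompQ (ModuleCat.{u} R) n).app P).symm ?_
  intro J Y c hc f
  let S : CochainComplex (ModuleCat.{u} R) ℤ := (HomologicalComplex.single (ModuleCat.{u} R) (ComplexShape.up ℤ) n).obj P
  change (DerivedCategory.Q (C := ModuleCat.{u} R)).obj S ⟶ c.pt at f
  let K := fun j => (DerivedCategory.Q (C := ModuleCat.{u} R)).objPreimage (Y j)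
  let e : ∀ j, (DerivedCategory.Q (C := ModuleCat.{u} R)).obj (K j) ≅ Y j := fun j => (DerivedCategory.Q (C := ModuleCat.{u} R)).objObjPreimageIso (Y j)
  have := H9Misc.BrownGroth.preservesColimit_Q K
  let hQ := isColimitCofanMkObjOfIsColimit (DerivedCategory.Q (C := ModuleCat.{u} R)) K (fun j => Sigma.ι K j) (coproductIsCoproduct K)
  let φ : (DerivedCategory.Q (C := ModuleCat.{u} R)).obj (∐ K) ⟶ c.pt := Cofan.IsColimit.desc hQ fun j => (e j).hom ≫ c.inj j
  let ψ : c.pt ⟶ (DerivedCategory.Q (C := ModuleCat.{u} R)).obj (∐ K) := Cofan.IsColimit.desc hc fun j => (e j).inv ≫ (DerivedCategory.Q (C := ModuleCat.{u} R)).map (Sigma.ι K j)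
  have hφ : ∀ j, (DerivedCategory.Q (C := ModuleCat.{u} R)).map (Sigma.ι K j) ≫ φ = (e j).hom ≫ c.inj j := fun j =>
    Cofan.IsColimit.fac hQ _ j
  have hψφ : ψ ≫ φ = 𝟙 _ := Cofan.IsColimit.hom_ext hc _ _ fun j => by
    simp only [ψ]
    rw [Cofan.IsColimit.fac_assoc, assoc, hφ, Iso.inv_hom_id_assoc, comp_id]
  haveI : Projective P := (IsProjective.iff_projective _).1 inferInstance
  haveI : ∀ i, Projective (S.X i) := fun i => by
    by_cases h : i = n
    · subst h
      exact Projective.of_iso (HomologicalComplex.singleObjXSelf (ComplexShape.up ℤ) i P).symm inferInstance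
    · exact (HomologicalComplex.isZero_single_obj_X (ComplexShape.up ℤ) n P i h).projective
  haveI : S.IsStrictlyLE n := (CochainComplex.isStrictlyLE_iff _ _).2 fun i hi =>
    HomologicalComplex.isZero_single_obj_X (ComplexShape.up ℤ) n P i (by omega)
  haveI : S.IsKProjective := CochainComplex.isKProjective_of_projective S n
  obtain ⟨g', hg'⟩ := (CochainComplex.IsKProjective.Qh_map_bijective S
    ((HomotopyCategory.quotient _ _).obj (∐ K))).2
      ((quotientCompQhIso _).hom.app S ≫ (f ≫ ψ) ≫ (quotientCompQhIso _).inv.app _)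
  obtain ⟨g, rfl⟩ := (HomotopyCategory.quotient _ _).map_surjective g'
  have hf : (DerivedCategory.Q (C := ModuleCat.{u} R)).map g = f ≫ ψ := by
    rw [← cancel_epi ((quotientCompQhIso (ModuleCat.{u} R)).hom.app S)]
    refine ((quotientCompQhIso _).hom.naturality g).symm.trans ?_
    refine (congrArg (· ≫ (quotientCompQhIso _).hom.app _) hg').trans ?_
    simp only [assoc]
    exact congrArg _ (congrArg (f ≫ ·) (congrArg (ψ ≫ ·)
      ((quotientCompQhIso _).inv_hom_id_app _))) |>.trans (by erw [comp_id])
  let E := HomologicalComplex.eval (ModuleCat.{u} R) (ComplexShape.up ℤ) n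
  let cE := PreservesCoproduct.iso E K
  let eP := HomologicalComplex.singleObjXSelf (ComplexShape.up ℤ) n P
  obtain ⟨T, hT⟩ := Module.Finite.fg_top (R := R) (M := P)
  choose s y hy using fun p : P =>
    exists_finset_sum (fun j => E.obj (K j)) (cE.hom.hom ((eP.inv ≫ g.f n).hom p))
  let u := T.biUnion s
  have hg : g = ∑ j ∈ u, (g ≫ Sigma.desc (fun i => if h : i = j then eqToHom (congrArg K h) else 0))
      ≫ Sigma.ι K j := by
    refine HomologicalComplex.from_single_hom_ext ?_
    rw [← cancel_epi eP.inv]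
    refine ModuleCat.hom_ext (LinearMap.ext_on hT fun p hp => ?_)
    simp only [assoc, ← Preadditive.comp_sum, HomologicalComplex.comp_f]
    set x := (eP.inv ≫ g.f n).hom p with hx₀
    change x = ((∑ j ∈ u, Sigma.desc _ ≫ Sigma.ι K j : (∐ K) ⟶ (∐ K)).f n).hom x
    have hx : x = ∑ j ∈ s p, ((Sigma.ι K j).f n).hom (y p j) := by
      have h₁ : x = cE.inv.hom (cE.hom.hom x) := (ConcreteCategory.congr_hom cE.hom_inv_id x).symm
      rw [h₁, hx₀, hy p, map_sum]
      refine Finset.sum_congr rfl fun j _ => ?_
      exact ConcreteCategory.congr_hom (ι_comp_sigmaComparison (G := E) (f := K) j) (y p j)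
    rw [hx, map_sum]
    refine Finset.sum_congr rfl fun j hj => ?_
    change _ = ((Sigma.ι K j ≫ ∑ i ∈ u, _ ≫ Sigma.ι K i).f n).hom (y p j)
    rw [Preadditive.comp_sum, Finset.sum_eq_single j (fun i _ hi => by
      rw [Sigma.ι_desc_assoc, dif_neg (Ne.symm hi), zero_comp])
      (fun h => absurd (Finset.mem_biUnion.2 ⟨p, hp, hj⟩) h),
      Sigma.ι_desc_assoc, dif_pos rfl, eqToHom_refl, id_comp]
  refine ⟨u, fun j => (DerivedCategory.Q (C := ModuleCat.{u} R)).map (g ≫ Sigma.desc (fun i => if h : i = j then eqToHom (congrArg K h) else 0))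
    ≫ (e j).hom, ?_⟩
  calc f = (DerivedCategory.Q (C := ModuleCat.{u} R)).map g ≫ φ := by rw [hf]; erw [assoc, hψφ, comp_id]
    _ = _ := by
      conv_lhs => rw [hg, Functor.map_sum, Preadditive.sum_comp]
      refine Finset.sum_congr rfl fun j _ => ?_
      rw [Functor.map_comp (f := g ≫ _), assoc, hφ, assoc]

lemma preserves_of_finFac {K : DerivedCategory (ModuleCat.{u} R)} (h : FinFac K) (J : Type u) :
    PreservesColimitsOfShape (Discrete J) (preadditiveCoyoneda.obj (op K)) := by
  classical
  haveI : HasColimitsOfShape (Discrete J) (DerivedCategory (ModuleCat.{u} R)) :=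
    Groth.Agent.TriCat.hasColimitsOfShape_derivedCategory
  suffices ∀ Y : J → DerivedCategory (ModuleCat.{u} R),
      PreservesColimit (Discrete.functor Y) (preadditiveCoyoneda.obj (op K)) by
    refine ⟨fun {F} => ?_⟩
    haveI : PreservesColimit (Discrete.functor (F.obj ∘ Discrete.mk))
      (preadditiveCoyoneda.obj (op K)) := this _
    exact preservesColimit_of_iso_diagram _ Discrete.natIsoFunctor.symm
  intro Y
  let c : Cofan Y := Cofan.mk (∐ Y) (Sigma.ι Y)
  have hc : IsColimit c := coproductIsCoproduct Y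
  refine preservesColimit_of_preserves_colimit_cocone hc
    ((IsColimit.equivOfNatIsoOfIso (Iso.refl _) _ _ (Cocone.ext (Iso.refl _) (by simp))).1
      (?_ : IsColimit ((preadditiveCoyoneda.obj (op K)).mapCocone c)))
  let τ : ∀ (t : Cocone (Discrete.functor Y ⋙ preadditiveCoyoneda.obj (op K))) (j : J),
      (K ⟶ Y j) →+ ↑t.pt := fun t j => (t.ι.app ⟨j⟩).hom
  have hfin : ∀ (t : Cocone (Discrete.functor Y ⋙ preadditiveCoyoneda.obj (op K)))
      (f : K ⟶ c.pt), (Function.support fun j => τ t j (f ≫ prj hc j)).Finite := by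
    intro t f
    obtain ⟨s, a, rfl⟩ := h J Y c hc f
    refine s.finite_toSet.subset fun j hj => ?_
    by_contra hs
    refine hj ?_
    show τ t j _ = 0
    rw [sum_comp_prj hc s a j, if_neg fun h => hs (Finset.mem_coe.2 h)]
    exact map_zero _
  refine ⟨fun t => AddCommGrpCat.ofHom (AddMonoidHom.mk'
      (fun f : K ⟶ c.pt => ∑ᶠ j, τ t j (f ≫ prj hc j)) fun f f' => ?_), fun t => ?_,
    fun t m hm => ?_⟩
  · rw [← finsum_add_distrib (hfin t f) (hfin t f')]
    exact finsum_congr fun j => by rw [Preadditive.add_comp]; exact map_add _ _ _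
  · rintro ⟨i⟩
    refine AddCommGrpCat.ext fun (a : K ⟶ Y i) => ?_
    show (∑ᶠ j, τ t j ((a ≫ c.inj i) ≫ prj hc j)) = τ t i a
    rw [finsum_eq_single _ i fun j hj => by
      rw [assoc, inj_prj_ne hc hj.symm, comp_zero]; exact map_zero _]
    rw [assoc, inj_prj_self, comp_id]
  · refine AddCommGrpCat.ext fun (f : K ⟶ c.pt) => ?_
    show m f = ∑ᶠ j, τ t j (f ≫ prj hc j)
    have hm' : ∀ j (a : K ⟶ Y j), m (a ≫ c.inj j) = τ t j a := fun j a =>
      ConcreteCategory.congr_hom (hm ⟨j⟩) a
    obtain ⟨s, a, rfl⟩ := h J Y c hc f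
    rw [finsum_eq_sum_of_support_subset (s := s) _ fun j hj => by
      by_contra hs
      refine hj ?_
      show τ t j _ = 0
      rw [sum_comp_prj hc s a j, if_neg fun h => hs (Finset.mem_coe.2 h)]
      exact map_zero _]
    refine (map_sum m.hom _ _).trans (Finset.sum_congr rfl fun j hj => ?_)
    rw [sum_comp_prj hc s a j, if_pos hj]
    exact hm' j (a j)

lemma finFac_of_preserves {K : DerivedCategory (ModuleCat.{u} R)}
    (h : ∀ J : Type u, PreservesColimitsOfShape (Discrete J) (preadditiveCoyoneda.obj (op K))) :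
    FinFac K := by
  classical
  intro J Y c hc f
  haveI := h J
  let G := preadditiveCoyoneda.obj (op K)
  let Φ : DirectSum J (fun j => K ⟶ Y j) →+ (K ⟶ c.pt) :=
    DirectSum.toAddMonoid fun j => Preadditive.rightComp K (c.inj j)
  have hΦ : Function.Surjective Φ := by
    have hG := isColimitOfPreserves G hc
    let q : G.obj c.pt ⟶ AddCommGrpCat.of ((K ⟶ c.pt) ⧸ Φ.range) :=
      AddCommGrpCat.ofHom (QuotientAddGroup.mk' Φ.range)
    have hq : q = 0 := hG.hom_ext fun ⟨j⟩ => AddCommGrpCat.ext fun (a : K ⟶ Y j) =>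
      (QuotientAddGroup.eq_zero_iff _).2 ⟨DirectSum.of _ j a, (DirectSum.toAddMonoid_of (fun j => Preadditive.rightComp K (c.inj j)) j a :)⟩
    exact fun x => AddMonoidHom.mem_range.1
      ((QuotientAddGroup.eq_zero_iff x).1 (ConcreteCategory.congr_hom hq x))
  obtain ⟨z, rfl⟩ := hΦ f
  refine ⟨DFinsupp.support z, fun j => z j, ?_⟩
  conv_lhs => rw [← DirectSum.sum_support_of z, map_sum]
  exact Finset.sum_congr rfl fun j _ => (DirectSum.toAddMonoid_of (fun j => Preadditive.rightComp K (c.inj j)) j (z j) :)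

lemma finFac_single_of_surjective {P M : ModuleCat.{u} R} (f : P →ₗ[R] M) (hf : Function.Surjective f)
    [Module.Finite R P] [Module.Projective R P] (n : ℤ)
    (hK : FinFac ((DerivedCategory.singleFunctor (ModuleCat.{u} R) (n - 1)).obj
      (ModuleCat.of R (LinearMap.ker f)))) :
    FinFac ((DerivedCategory.singleFunctor (ModuleCat.{u} R) n).obj M) := by
  let S : ShortComplex (ModuleCat.{u} R) := ShortComplex.mk
    (ModuleCat.ofHom (LinearMap.ker f).subtype) (ModuleCat.ofHom f)
    (ModuleCat.hom_ext (LinearMap.ext fun x => x.2))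
  have hS : S.ShortExact :=
    { exact := (ShortComplex.ShortExact.moduleCat_exact_iff_function_exact S).2
        (LinearMap.exact_subtype_ker_map f)
      mono_f := (ModuleCat.mono_iff_injective _).2 (Submodule.injective_subtype _)
      epi_g := (ModuleCat.epi_iff_surjective _).2 hf }
  let SF := HomologicalComplex.single (ModuleCat.{u} R) (ComplexShape.up ℤ) n
  have hT := DerivedCategory.triangleOfSES_distinguished (hS.map_of_exact SF)
  let e : ∀ N : ModuleCat.{u} R, (DerivedCategory.singleFunctor (ModuleCat.{u} R) n).obj N ≅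
      DerivedCategory.Q.obj (SF.obj N) := fun N => (singleFunctorIsoCompQ _ n).app N
  refine FinFac.of_iso (e M).symm (FinFac.ext₂ _ (rot_of_distTriang _ hT) ?_ ?_)
  · exact FinFac.of_iso (e P) (finFac_single P n)
  · refine FinFac.of_iso ?_ hK
    exact ((DerivedCategory.singleFunctors (ModuleCat.{u} R)).shiftIso 1 (n - 1) n (by omega)).symm.app
      (ModuleCat.of R (LinearMap.ker f)) ≪≫ (shiftFunctor _ (1 : ℤ)).mapIso (e _)

local notation "tS" => DerivedCategory.TStructure.t

/-- Dévissage along the truncations. -/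
lemma finFac_of_bounded
    (hM : ∀ (M : ModuleCat.{u} R), Module.Finite R M → ∀ n : ℤ,
      FinFac ((DerivedCategory.singleFunctor (ModuleCat.{u} R) n).obj M)) :
    ∀ (m : ℕ) (a b : ℤ) (K : DerivedCategory (ModuleCat.{u} R)), b - a < m → K.IsGE a → K.IsLE b →
      (∀ i, Module.Finite R ((DerivedCategory.homologyFunctor (ModuleCat.{u} R) i).obj K)) →
      FinFac K := by
  intro m
  induction m with
  | zero =>
    intro a b K hab hge hle _
    refine FinFac.of_isZero ((IsZero.iff_id_eq_zero K).2 ?_)
    exact (DerivedCategory.TStructure.t (C := ModuleCat.{u} R)).zero_of_isLE_of_isGE (𝟙 K) b a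
      (by omega) hle hge
  | succ m ih =>
    intro a b K hab hge hle hfin
    let t := DerivedCategory.TStructure.t (C := ModuleCat.{u} R)
    have hT := t.triangleLTGE_distinguished b K
    refine FinFac.ext₂ _ hT ?_ ?_
    · have h1 : ((t.truncLT b).obj K).IsLE (b - 1) := t.isLE_truncLT_obj ..
      have h2 : ((t.truncLT b).obj K).IsGE a := inferInstance
      refine ih a (b - 1) _ (by omega) h2 h1 fun i => ?_
      by_cases hi : i < b
      · have := H9Misc.isIso_map_truncLTι b i hi K
        exact @Module.Finite.equiv _ _ _ _ _ _ _ _ (hfin i)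
          (asIso ((DerivedCategory.homologyFunctor _ i).map ((t.truncLTι b).app K))).symm.toLinearEquiv
      · exact @Module.Finite.of_finite _ _ _ _ _ (@Finite.of_subsingleton _ (ModuleCat.subsingleton_of_isZero
          (DerivedCategory.isZero_of_isLE ((t.truncLT b).obj K) (b - 1) i (by omega))))
    · have h1 : ((t.truncGE b).obj K).IsGE b := t.isGE_truncGE_obj ..
      have h2 : ((t.truncGE b).obj K).IsLE b := inferInstance
      obtain ⟨X, ⟨e⟩⟩ := ((t.truncGE b).obj K).exists_iso_singleFunctor_obj_of_isGE_of_isLE b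
      refine FinFac.of_iso e.symm (hM X ?_ b)
      have := H9Misc.isIso_map_truncGEπ b b le_rfl K
      exact @Module.Finite.equiv _ _ _ _ _ _ _ _ (hfin b)
        ((asIso ((DerivedCategory.homologyFunctor _ b).map ((t.truncGEπ b).app K))) ≪≫
          (DerivedCategory.homologyFunctor _ b).mapIso e ≪≫
          (DerivedCategory.singleFunctorCompHomologyFunctorIso _ b).app X).toLinearEquiv

/-- A map from a complex to an injective in one degree extending a given map on homology. -/
lemma mk_apply_of_support {J : Type u} [DecidableEq J] {I : J → Type u} [∀ j, AddCommGroup (I j)]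
    (v : ∀ j, I j) (hv : {j | v j ≠ 0}.Finite) (j : J) :
    DirectSum.mk I hv.toFinset (fun m => v m.1) j = v j := by
  by_cases hj : j ∈ hv.toFinset
  · exact DirectSum.mk_apply_of_mem hj
  · rw [DirectSum.mk_apply_of_notMem hj]
    rw [Set.Finite.mem_toFinset, Set.mem_ofPred_eq, not_not] at hj
    exact hj.symm

/-- A map from a complex to an injective in one degree extending a given map on homology. -/
lemma exists_to_single (K : CochainComplex (ModuleCat.{u} R) ℤ) (i : ℤ) {I : ModuleCat.{u} R}
    [Injective I] (h : K.homology i ⟶ I) :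
    ∃ (φ : K.X i ⟶ I) (hφ : ∀ j, (ComplexShape.up ℤ).Rel j i → K.d j i ≫ φ = 0),
      ∀ (I' : ModuleCat.{u} R) (p : I ⟶ I'),
        DerivedCategory.Q.map (HomologicalComplex.mkHomToSingle φ hφ ≫
          (HomologicalComplex.single _ (ComplexShape.up ℤ) i).map p) = 0 → h ≫ p = 0 := by
  let ext := Injective.factorThru h (K.homologyι i)
  have hext : K.homologyι i ≫ ext = h := Injective.comp_factorThru _ _
  refine ⟨K.pOpcycles i ≫ ext, fun j _ => by rw [← assoc, K.d_pOpcycles, zero_comp], fun I' p hp => ?_⟩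
  let SF := HomologicalComplex.single (ModuleCat.{u} R) (ComplexShape.up ℤ) i
  let g := HomologicalComplex.mkHomToSingle (K.pOpcycles i ≫ ext)
    (fun j _ => by rw [← assoc, K.d_pOpcycles, zero_comp]) ≫ SF.map p
  have hg : HomologicalComplex.homologyMap g i = 0 := by
    have h1 := (DerivedCategory.homologyFunctorFactors (ModuleCat.{u} R) i).hom.naturality g
    rw [← cancel_epi ((DerivedCategory.homologyFunctorFactors (ModuleCat.{u} R) i).hom.app K)]
    refine h1.symm.trans ?_
    show (DerivedCategory.homologyFunctor _ i).map (DerivedCategory.Q.map g) ≫ _ = _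
    rw [hp, Functor.map_zero, zero_comp, comp_zero]
  let T := SF.obj I'
  let et : T.opcycles i ≅ I' :=
    HomologicalComplex.singleObjOpcyclesSelfIso (ComplexShape.up ℤ) i I' |>.symm
  have key : HomologicalComplex.opcyclesMap g i ≫ et.hom = ext ≫ p := by
    rw [← cancel_epi (K.pOpcycles i), HomologicalComplex.p_opcyclesMap_assoc]
    simp [g, et, T, SF, HomologicalComplex.single_map_f_self]
  rw [← hext, assoc, ← key, ← assoc, ← HomologicalComplex.homologyι_naturality, hg]
  simp

/-- A coproduct of injective modules over a noetherian ring is injective. -/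
lemma injective_directSum [IsNoetherianRing R] {J : Type u} (I : J → Type u)
    [∀ j, AddCommGroup (I j)] [∀ j, Module R (I j)] (hI : ∀ j, Module.Injective R (I j)) :
    Module.Injective R (DirectSum J I) := by
  classical
  refine Module.Baer.injective fun J' g => ?_
  obtain ⟨T, hT⟩ := (IsNoetherian.noetherian (R := R) J')
  let gen : J' → Finset J := fun x => DFinsupp.support (g x)
  have hmem : ∀ x ∈ T, (x : R) ∈ J' := fun x hx => hT ▸ Submodule.subset_span hx
  let s := T.attach.biUnion fun x => gen ⟨x.1, hmem x.1 x.2⟩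
  have h := fun j => Module.Baer.of_injective (hI j) J' ((DirectSum.component R J I j).comp g)
  choose F hF using h
  refine ⟨∑ j ∈ s, (DirectSum.lof R J I j).comp (F j), fun x hx => ?_⟩
  rw [LinearMap.sum_apply]
  refine DFinsupp.ext fun j => ?_
  rw [DFinsupp.finsetSum_apply]
  by_cases hj : j ∈ s
  · rw [Finset.sum_eq_single j (fun i _ hi => by
      rw [LinearMap.comp_apply, DirectSum.lof_eq_of]; exact DirectSum.of_eq_of_ne _ _ _ hi.symm)
      (fun h => absurd hj h), LinearMap.comp_apply, DirectSum.lof_eq_of, DirectSum.of_eq_same, hF]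
    rfl
  · rw [Finset.sum_eq_zero fun i hi => by
      rw [LinearMap.comp_apply, DirectSum.lof_eq_of]
      exact DirectSum.of_eq_of_ne _ _ _ (fun e => hj (e ▸ hi))]
    have : (DirectSum.component R J I j).comp g = 0 := by
      have hspan : Submodule.span R {y : J' | (y : R) ∈ T} = ⊤ := by
        refine Submodule.map_injective_of_injective J'.injective_subtype ?_
        rw [Submodule.map_span, Submodule.map_subtype_top]
        refine Eq.trans (congrArg _ ?_) hT
        ext y
        exact ⟨fun ⟨z, hz, e⟩ => e ▸ hz, fun hy => ⟨⟨y, hmem y hy⟩, hy, rfl⟩⟩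
      refine LinearMap.ext_on hspan fun y hy => ?_
      by_contra hne
      exact hj (Finset.mem_biUnion.2 ⟨⟨y, hy⟩, Finset.mem_attach _ _, DFinsupp.mem_support_iff.2 hne⟩)
    exact (LinearMap.congr_fun this ⟨x, hx⟩).symm

lemma finite_of_finFac [IsNoetherianRing R] {M : DerivedCategory (ModuleCat.{u} R)} (h : FinFac M)
    (i : ℤ) : Module.Finite R ((DerivedCategory.homologyFunctor (ModuleCat.{u} R) i).obj M) := by
  classical
  let K := DerivedCategory.Q.objPreimage M
  let eK : DerivedCategory.Q.obj K ≅ M := DerivedCategory.Q.objObjPreimageIso M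
  let eH : K.homology i ≅ (DerivedCategory.homologyFunctor (ModuleCat.{u} R) i).obj M :=
    ((DerivedCategory.homologyFunctorFactors _ i).app K).symm ≪≫
      (DerivedCategory.homologyFunctor (ModuleCat.{u} R) i).mapIso eK
  suffices Module.Finite R (K.homology i) from Module.Finite.equiv eH.toLinearEquiv
  by_contra hfin
  let H := K.homology i
  have hgt : ∀ s : Finset H, ∃ x : H, x ∉ Submodule.span R (s : Set H) := by
    intro s
    by_contra! hs
    exact hfin ⟨⟨s, eq_top_iff.2 fun x _ => hs x⟩⟩
  choose x hx using hgt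
  let T : ℕ → Finset ↑H := fun m => Nat.rec ∅ (fun _ s => insert (x s) s) m
  have hTsucc : ∀ m, T (m + 1) = insert (x (T m)) (T m) := fun m => rfl
  have hTmono : Monotone T := monotone_nat_of_le_succ fun m => by rw [hTsucc]; exact Finset.subset_insert _ _
  let N : ULift.{u} ℕ → Submodule R H := fun m => Submodule.span R {y : H | y ∈ T m.down}
  let I : ULift.{u} ℕ → ModuleCat.{u} R := fun m => Injective.under (ModuleCat.of R (H ⧸ N m))
  let q : ∀ m, H →ₗ[R] I m := fun m => (Injective.ι (ModuleCat.of R (H ⧸ N m))).hom.comp (N m).mkQ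
  have hq : ∀ m (y : H), y ∈ N m → q m y = 0 := fun m y hy => by
    show (Injective.ι (ModuleCat.of R (H ⧸ N m))).hom ((N m).mkQ y) = 0
    rw [show (N m).mkQ y = 0 from (Submodule.Quotient.mk_eq_zero _).2 hy, map_zero]
  have hqx : ∀ m, q m (x (T m.down)) ≠ 0 := fun m e => hx (T m.down) ((Submodule.Quotient.mk_eq_zero (N m)).1
    ((ModuleCat.mono_iff_injective (Injective.ι (ModuleCat.of R (H ⧸ N m)))).1 inferInstance
      (e.trans (map_zero _).symm)))
  let U : Submodule R H := ⨆ m, N m
  have hdir : Directed (· ≤ ·) N := fun a b => ⟨⟨max a.down b.down⟩,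
    Submodule.span_mono (fun y hy => hTmono (le_max_left a.down b.down) hy),
    Submodule.span_mono (fun y hy => hTmono (le_max_right a.down b.down) hy)⟩
  have hbd : ∀ y : U, {m | q m y.1 ≠ 0}.Finite := fun y => by
    obtain ⟨m, hm⟩ := (Submodule.mem_iSup_of_directed N hdir).1 y.2
    refine ((Set.finite_Iio m.down).preimage ULift.down_injective.injOn).subset fun m' hm' => ?_
    by_contra hlt
    exact hm' (hq m' _ (Submodule.span_mono (fun y hy => hTmono (not_lt.1 hlt) hy) hm))
  let φ : U →ₗ[R] DirectSum (ULift.{u} ℕ) (fun m => I m) :=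
    { toFun := fun y => DirectSum.mk (fun m => I m) (hbd y).toFinset fun m => q m.1 y.1
      map_add' := fun y z => DFinsupp.ext fun m => by
        rw [DirectSum.add_apply, mk_apply_of_support _ (hbd _), mk_apply_of_support _ (hbd _),
          mk_apply_of_support _ (hbd _)]
        exact map_add (q m) y.1 z.1
      map_smul' := fun r y => DFinsupp.ext fun m => by
        rw [RingHom.id_apply, DFinsupp.smul_apply, mk_apply_of_support _ (hbd _),
          mk_apply_of_support _ (hbd _)]
        exact map_smul (q m) r y.1 }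
  have hinj := injective_directSum (fun m => (I m : Type u))
    fun m => by
      haveI : Injective (ModuleCat.of R (I m)) :=
        (inferInstance : Injective (Injective.under (ModuleCat.of R (H ⧸ N m))))
      exact Module.injective_module_of_injective_object R (I m)
  obtain ⟨Φ, hΦ⟩ := hinj.out U.subtype U.injective_subtype φ
  haveI : Injective (ModuleCat.of R (DirectSum (ULift.{u} ℕ) fun m => I m)) :=
    Module.injective_object_of_injective_module R _ (inj := hinj)
  let eI := ModuleCat.coprodIsoDirectSum I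
  haveI : Injective (∐ I : ModuleCat.{u} R) := Injective.of_iso eI.symm inferInstance
  obtain ⟨g, hg, htest⟩ := exists_to_single K i (I := (∐ I : ModuleCat.{u} R))
    (h := ModuleCat.ofHom Φ ≫ eI.inv)
  let SF := HomologicalComplex.single (ModuleCat.{u} R) (ComplexShape.up ℤ) i
  let c := Cofan.mk (SF.obj (∐ I)) fun m => SF.map (Sigma.ι I m)
  have hc : IsColimit c := isColimitCofanMkObjOfIsColimit SF I _ (coproductIsCoproduct I)
  haveI := H9Misc.BrownGroth.preservesColimit_Q (A := ModuleCat.{u} R) fun m => SF.obj (I m)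
  have hc' := isColimitCofanMkObjOfIsColimit DerivedCategory.Q (fun m => SF.obj (I m)) _ hc
  obtain ⟨s, a, ha⟩ := (h.of_iso eK.symm) _ _ _ hc'
    (DerivedCategory.Q.map (HomologicalComplex.mkHomToSingle g hg))
  obtain ⟨m, hm⟩ := Infinite.exists_notMem_finset s
  let p : (∐ I : ModuleCat.{u} R) ⟶ I m :=
    Sigma.desc fun l => if hl : l = m then eqToHom (congrArg I hl) else 0
  have hp : ∀ l, l ≠ m → Sigma.ι I l ≫ p = 0 := fun l hl => by simp [p, hl]
  have h0 := htest (I m) p (by
    rw [Functor.map_comp, ha, Preadditive.sum_comp]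
    refine Finset.sum_eq_zero fun l hl => ?_
    rw [assoc]
    show a l ≫ DerivedCategory.Q.map (SF.map (Sigma.ι I l)) ≫ _ = 0
    rw [← Functor.map_comp, ← Functor.map_comp, hp l (fun e => hm (e ▸ hl))]
    simp)
  have hpe : eI.inv ≫ p = ModuleCat.ofHom (DirectSum.component R _ (fun m => I m) m) := by
    refine ModuleCat.hom_ext (DirectSum.linearMap_ext R fun l => LinearMap.ext fun y => ?_)
    change p.hom (eI.inv.hom (DirectSum.lof R _ (fun m => I m) l y)) = _
    have e1 : eI.inv.hom (DirectSum.lof R _ (fun m => I m) l y) = (Sigma.ι I l).hom y :=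
      ConcreteCategory.congr_hom (ModuleCat.lof_coprodIsoDirectSum_inv I l) y
    refine (congrArg p.hom e1).trans ?_
    refine (ConcreteCategory.congr_hom (Sigma.ι_desc _ l) y).trans ?_
    show _ = DirectSum.component R _ (fun m => I m) m (DirectSum.lof R _ (fun m => I m) l y)
    by_cases hl : l = m
    · subst hl; simp
    · simp [hl, DirectSum.component.of, Ne.symm hl]
  rw [assoc, hpe] at h0
  let y : U := ⟨x (T m.down), Submodule.mem_iSup_of_mem ⟨m.down + 1⟩
    (Submodule.subset_span (show x (T m.down) ∈ T (m.down + 1) from (hTsucc m.down).symm ▸ Finset.mem_insert_self _ _))⟩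
  have := ConcreteCategory.congr_hom h0 (x (T m.down))
  refine hqx m ?_
  have e2 : Φ y.1 = φ y := hΦ y
  refine Eq.trans ?_ this
  show _ = DirectSum.component R _ (fun m => I m) m (Φ y.1)
  rw [e2]
  exact (mk_apply_of_support (fun m => q m y.1) (hbd y) m).symm

lemma finite_support_of_finFac {M : DerivedCategory (ModuleCat.{u} R)} (h : FinFac M) :
    Set.Finite {i : ℤ | Nontrivial ((DerivedCategory.homologyFunctor (ModuleCat.{u} R) i).obj M)} := by
  classical
  let K := DerivedCategory.Q.objPreimage M
  let eK : DerivedCategory.Q.obj K ≅ M := DerivedCategory.Q.objObjPreimageIso M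
  let I : ℤ → ModuleCat.{u} R := fun i => Injective.under (K.homology i)
  choose g hg htest using fun i => exists_to_single K i (Injective.ι (K.homology i))
  let T : CochainComplex (ModuleCat.{u} R) ℤ := CochainComplex.of I (fun _ => 0) (fun _ => zero_comp)
  have hTd : ∀ i j, T.d i j = 0 := fun i j => by
    by_cases hij : i + 1 = j
    · subst hij; simp [T]
    · exact T.shape i j hij
  let SF := fun i : ULift.{u} ℤ => (HomologicalComplex.single (ModuleCat.{u} R) (ComplexShape.up ℤ) i.down).obj (I i.down)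
  let ι : ∀ i, SF i ⟶ T := fun i => HomologicalComplex.mkHomFromSingle (𝟙 (I i.down))
    fun j _ => (id_comp _).trans (hTd _ _)
  let c := Cofan.mk T ι
  have hc : IsColimit c := Cofan.IsColimit.mk c
    (fun Z => { f := fun i => (HomologicalComplex.singleObjXSelf (ComplexShape.up ℤ) i (I i)).inv ≫
                  (Z.inj ⟨i⟩).f i
                comm' := fun i j _ => by
                  rw [show c.pt.d i j = 0 from hTd i j, zero_comp, assoc, HomologicalComplex.Hom.comm,
                    HomologicalComplex.single_obj_d, zero_comp, comp_zero] })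
    (fun Z i => HomologicalComplex.from_single_hom_ext (by simp [c, ι]))
    (fun Z m hm => by
      ext i : 1
      show _ = (HomologicalComplex.singleObjXSelf (ComplexShape.up ℤ) i (I i)).inv ≫ (Z.inj ⟨i⟩).f i
      rw [← hm ⟨i⟩]
      simp [c, ι])
  let f : K ⟶ T :=
    { f := fun i => g i
      comm' := fun i j hij => by rw [hTd, comp_zero, hg j i hij] }
  haveI := H9Misc.BrownGroth.preservesColimit_Q (A := ModuleCat.{u} R) SF
  have hc' := isColimitCofanMkObjOfIsColimit DerivedCategory.Q SF _ hc
  obtain ⟨s, a, ha⟩ := (h.of_iso eK.symm) _ _ _ hc' (DerivedCategory.Q.map f)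
  refine (s.finite_toSet.image ULift.down).subset fun i hi => ?_
  by_contra hs
  let p : T ⟶ SF ⟨i⟩ := HomologicalComplex.mkHomToSingle (𝟙 (I i))
    fun j _ => (comp_id _).trans (hTd _ _)
  have hfp : HomologicalComplex.mkHomToSingle (g i) (hg i) = f ≫ p :=
    HomologicalComplex.to_single_hom_ext (by simp [f, p]; rfl)
  have hp : ∀ l : ULift.{u} ℤ, l.down ≠ i → ι l ≫ p = 0 := fun l hl =>
    HomologicalComplex.to_single_hom_ext
      ((HomologicalComplex.isZero_single_obj_X (ComplexShape.up ℤ) l.down (I l.down) i (Ne.symm hl)).eq_of_src _ _)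
  have h0 := htest i (I i) (𝟙 _) (by
    rw [CategoryTheory.Functor.map_id, comp_id, hfp, Functor.map_comp, ha, Preadditive.sum_comp]
    refine Finset.sum_eq_zero fun l hl => ?_
    rw [assoc]
    show a l ≫ DerivedCategory.Q.map (ι l) ≫ _ = 0
    rw [← Functor.map_comp, hp l (fun e => hs ⟨l, hl, e⟩), Functor.map_zero, comp_zero])
  rw [comp_id] at h0
  have hz : IsZero (K.homology i) := (IsZero.iff_id_eq_zero _).2
    ((cancel_mono (Injective.ι (K.homology i))).1 (by rw [id_comp, h0, zero_comp]))
  have := ModuleCat.subsingleton_of_isZero (hz.of_iso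
    (((DerivedCategory.homologyFunctorFactors _ i).app K).symm ≪≫
      (DerivedCategory.homologyFunctor (ModuleCat.{u} R) i).mapIso eK).symm)
  exact not_nontrivial _ hi

end Groth.Agent.DEqLib.Sib.CMod
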