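import Groth.Agent.TriCat.CompactFactor
import Groth.Agent.TriCat.CellResolution

/-! The compact objects of a compactly generated triangulated category form an essentially small
property of objects. -/

universe w v u

open CategoryTheory Category Limits Pretriangulated ZeroObject
open Groth.Agent.TriCat

namespace Groth.Agent.DEqLib.Sib

variable {D : Type u} [Category.{v} D] [Preadditive D] [HasZeroObject D] [HasShift D ℤ]
  [∀ n : ℤ, (shiftFunctor D n).Additive] [Pretriangulated D]

lemma essentiallySmall_extensionProduct (P Q : ObjectProperty D)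
    [ObjectProperty.EssentiallySmall.{v} P] [ObjectProperty.EssentiallySmall.{v} Q] :
    ObjectProperty.EssentiallySmall.{v} (P.extensionProduct Q) := by
  obtain ⟨P₀, _, -, hP⟩ := ObjectProperty.EssentiallySmall.exists_small_le.{v} P
  obtain ⟨Q₀, _, -, hQ⟩ := ObjectProperty.EssentiallySmall.exists_small_le.{v} Q
  refine ⟨ObjectProperty.ofObj (fun a : Σ (Y : Subtype P₀) (Z : Subtype Q₀),
      (Z.1 ⟶ Y.1⟦(1 : ℤ)⟧) => (distinguished_cocone_triangle₂ a.2.2).choose), inferInstance, ?_⟩
  refine ((ObjectProperty.monotone_extensionProduct_left Q hP).trans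
    (ObjectProperty.monotone_extensionProduct_right _ hQ)).trans ?_
  rw [ObjectProperty.extensionProduct_isoClosure_left,
    ObjectProperty.extensionProduct_isoClosure_right]
  rintro X ⟨Y, Z, f, g, h, hT, hY, hZ⟩
  let a : Σ (Y : Subtype P₀) (Z : Subtype Q₀), (Z.1 ⟶ Y.1⟦(1 : ℤ)⟧) := ⟨⟨Y, hY⟩, ⟨Z, hZ⟩, h⟩
  refine ⟨_, ⟨a⟩, ?_⟩
  obtain ⟨f', g', hT'⟩ := (distinguished_cocone_triangle₂ a.2.2).choose_spec
  obtain ⟨e, -⟩ := exists_iso_of_arrow_iso _ _ (rot_of_distTriang _ (rot_of_distTriang _ hT))
    (rot_of_distTriang _ (rot_of_distTriang _ hT')) (Iso.refl (Arrow.mk h))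
  exact ⟨(shiftFunctor D (1 : ℤ)).preimageIso (Triangle.π₃.mapIso e)⟩

lemma essentiallySmall_shiftClosure (P : ObjectProperty D)
    [ObjectProperty.EssentiallySmall.{v} P] :
    ObjectProperty.EssentiallySmall.{v} (P.shiftClosure ℤ) := by
  obtain ⟨P₀, _, -, hP⟩ := ObjectProperty.EssentiallySmall.exists_small_le.{v} P
  refine ⟨ObjectProperty.ofObj (fun a : Subtype P₀ × ℤ => a.1.1⟦a.2⟧), inferInstance, ?_⟩
  rintro X ⟨Y, n, e, hY⟩
  obtain ⟨Y', hY', ⟨e'⟩⟩ := hP Y hY
  exact ⟨_, ⟨(⟨Y', hY'⟩, n)⟩, ⟨e ≪≫ (shiftFunctor D n).mapIso e'⟩⟩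

lemma essentiallySmall_triangEnvelope (P : ObjectProperty D)
    [ObjectProperty.EssentiallySmall.{v} P] :
    ObjectProperty.EssentiallySmall.{v} P.triangEnvelope := by
  have := essentiallySmall_shiftClosure P
  let Q := (P.shiftClosure ℤ).binaryProductsClosure.retractClosure
  have h : ∀ n, ObjectProperty.EssentiallySmall.{v} (P.triangEnvelopeIter n) := by
    intro n
    induction n with
    | zero =>
      rw [ObjectProperty.triangEnvelopeIter_zero]
      infer_instance
    | succ n ih =>
      rw [ObjectProperty.triangEnvelopeIter_succ]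
      have := essentiallySmall_extensionProduct Q (P.triangEnvelopeIter n)
      infer_instance
  rw [ObjectProperty.triangEnvelope]
  infer_instance

variable [IsTriangulated D] [HasCoproducts.{v} D]

/-- Compact objects form an essentially small property of objects. -/
theorem essentiallySmall_compact (hD : CohDer.IsCompactlyGenerated D) :
    ObjectProperty.EssentiallySmall.{v} (fun K : D => CohDer.IsCompactObject K) := by
  classical
  have : HasColimitsOfShape (Discrete ℕ) D :=
    hasColimitsOfShape_of_equivalence (Discrete.equivalence (Equiv.ulift.{v} (α := ℕ)))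
  obtain ⟨κ, E₀, hc₀, hg₀⟩ := hD
  let E : Option κ → D := fun o => o.elim 0 E₀
  have hc : ∀ o, CohDer.IsCompactObject (E o)
    | none => isCompactObject_of_isZero (isZero_zero D)
    | some i => hc₀ i
  have hg : CohDer.Generates E := fun K h => hg₀ K fun i n f => h (some i) n f
  have := essentiallySmall_triangEnvelope (ObjectProperty.ofObj E)
  refine ObjectProperty.EssentiallySmall.of_le
    (Q := (ObjectProperty.ofObj E).triangEnvelope) fun X hX => ?_
  obtain ⟨F, inc, hL, ⟨κ', a, ⟨e⟩⟩, ht⟩ := exists_cell_resolution (Groth.Agent.TriCat.shiftClosure E)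
    (countPerfect_shiftClosure (countPerfect_of_compact hc)) (shiftClosure_stable E)
    (isZero_of_generates hg) X
  obtain ⟨n, g, hg'⟩ := IsHocolim.exists_factor hL hX (𝟙 X)
  obtain ⟨s, -, E₁, g₁, h₁, hE₁, hgh⟩ := envFactors_of_cell E hc F.obj
    (fun n => F.map (homOfLE (Nat.le_succ n))) ⟨κ', fun k => (a k).1, fun k => (a k).2, ⟨e⟩⟩
    (fun n => by
      obtain ⟨κ'', a', y, z, h⟩ := ht n
      exact ⟨κ'', fun k => (a' k).1, fun k => (a' k).2, y, z, h⟩) n X hX g
  have hE₂ : (ObjectProperty.ofObj E).triangEnvelope E₁ :=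
    ObjectProperty.monotone_triangEnvelope (fun Y ⟨i, _, h⟩ => h ▸ ⟨i⟩) _ hE₁
  exact ObjectProperty.prop_of_retract _
    { i := g₁, r := h₁ ≫ inc n, retract := by rw [← assoc, hgh, hg'] } hE₂

end Groth.Agent.DEqLib.Sib
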