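import Groth.Agent.DEqLib.Sib.HomTest
import Groth.Agent.AlgStLib.OnePointSt
import Groth.Agent.PerfD40.TensorPC
import Groth.Prelude.Def_SGA6
import Mathlib.CategoryTheory.Functor.Derived.LeftDerived

/-! Bounded coherent objects are detected by morphisms out of perfect objects. -/

universe u

open CategoryTheory CategoryTheory.Limits CategoryTheory.Pretriangulated AlgebraicGeometry

set_option backward.isDefEq.respectTransparency false
set_option linter.style.haveILetI false
set_option linter.unusedSectionVars false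

attribute [local instance] HasDerivedCategory.standard

noncomputable section

namespace Groth.Agent.DEqLib.Sib.DbCohTest

open Groth.Agent Groth.Agent.KFlatLib

/-- A retract of a coherent module. -/
theorem isCoh_of_retract {Y : Scheme.{u}} [IsLocallyNoetherian Y] {A B : Y.Modules} (r : Retract A B) (hB : Coh.IsCoh B) : Coh.IsCoh A :=
  isCoh_of_iso
    { hom := kernel.ι (𝟙 B - r.r ≫ r.i) ≫ r.r
      inv := kernel.lift _ r.i (by rw [Preadditive.comp_sub, Category.comp_id, r.retract_assoc, sub_self])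
      hom_inv_id := by
        have := kernel.condition (𝟙 B - r.r ≫ r.i)
        rw [Preadditive.comp_sub, Category.comp_id, sub_eq_zero] at this
        rw [← cancel_mono (kernel.ι (𝟙 B - r.r ≫ r.i))]
        simp only [Category.assoc, kernel.lift_ι, Category.id_comp]
        exact this.symm
      inv_hom_id := by rw [kernel.lift_ι_assoc, r.retract] }
    (QCoh.isCoh_kernel hB hB _)

variable (k : Type u) [Field k] {X : Scheme.{u}} [X.Over (Spec (.of k))] [IsProper (X ↘ Spec (.of k))]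

/-- A finite approximation of the diagonal by box products. -/
theorem exists_diag_approx (hX : PerfAux.HasResolutionProperty X) (N : ℕ) :
    ∃ (E G : X.Modules) (R : (pullback (X ↘ Spec (.of k)) (X ↘ Spec (.of k))).Modules),
      FlatMod.IsFinLocFree E ∧ FlatMod.IsFinLocFree G ∧ Coh.IsCoh R ∧
      ∃ (P : DCoh.D (pullback (X ↘ Spec (.of k)) (X ↘ Spec (.of k))))
        (h : (DCoh.inD _ R)⟦(N : ℤ)⟧⟦(-1 : ℤ)⟧ ⟶ P) (f : P ⟶ FMK.diagO (X ↘ Spec (.of k)))
        (g : FMK.diagO (X ↘ Spec (.of k)) ⟶ ((DCoh.inD _ R)⟦(N : ℤ)⟧⟦(-1 : ℤ)⟧)⟦(1 : ℤ)⟧),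
        Triangle.mk h f g ∈ distTriang _ ∧
        ObjectProperty.triangEnvelope
          (ObjectProperty.ofObj (fun _ : PUnit.{u + 1} => DCoh.inD (pullback (X ↘ Spec (.of k)) (X ↘ Spec (.of k)))
            (CohB1.tensorMod ((Scheme.Modules.pullback (pullback.fst (X ↘ Spec (.of k)) (X ↘ Spec (.of k)))).obj E)
              ((Scheme.Modules.pullback (pullback.snd (X ↘ Spec (.of k)) (X ↘ Spec (.of k)))).obj G)))) P := by
  let s := X ↘ Spec (.of k)
  let Z := pullback s s
  haveI : X.IsSeparated := ⟨by rw [← terminal.comp_from s]; infer_instance⟩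
  haveI : CompactSpace X := (quasiCompact_iff_compactSpace s).1 inferInstance
  haveI : IsLocallyNoetherian X := LocallyOfFiniteType.isLocallyNoetherian s
  haveI : IsLocallyNoetherian Z := LocallyOfFiniteType.isLocallyNoetherian (pullback.fst s s ≫ s)
  haveI : CompactSpace Z := (quasiCompact_iff_compactSpace (pullback.fst s s ≫ s)).1 inferInstance
  haveI : IsNoetherian Z := {}
  haveI : QuasiSeparatedSpace X := inferInstance
  have haff : ∀ W : X.Opens, IsAffineOpen W →
      IsAffineHom ((pullback.fst s s ⁻¹ᵁ W).ι ≫ pullback.snd s s) := fun W hW => by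
    have h1 : IsPullback ((pullback.fst s s ⁻¹ᵁ W).ι ≫ pullback.snd s s) (pullback.fst s s ∣_ W) s
        (W.ι ≫ s) :=
      (isPullback_morphismRestrict (pullback.fst s s) W).flip.paste_horiz (IsPullback.of_hasPullback _ _).flip
    haveI : IsAffine (W : Scheme.{u}) := hW
    exact MorphismProperty.of_isPullback h1.flip inferInstance
  have hD : Coh.IsCoh ((Coh.push (pullback.diagonal s)).obj (Coh.structureModule X)) :=
    QCoh.isCoh_pushforward_finite _ QCoh.isCoh_structureModule'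
  obtain ⟨E, G, R, hE, hG, hR, δ, hδ⟩ := DiagEnv.exists_chain (pullback.fst s s) (pullback.snd s s)
    (fun F hF => ResProp.exists_box_surjection hX hX haff hF.1 hF.2) _ hD N
  obtain ⟨C, g, t, hT, hC⟩ := hδ
  refine ⟨E, G, R, hE, hG, hR, C⟦(-1 : ℤ)⟧, ?_⟩
  have h1 := inv_rot_of_distTriang _ (inv_rot_of_distTriang _ hT)
  let P₀ : ObjectProperty (DCoh.D Z) := ObjectProperty.ofObj (fun _ : PUnit.{u + 1} => DCoh.inD Z
    (CohB1.tensorMod ((Scheme.Modules.pullback (pullback.fst s s)).obj E) ((Scheme.Modules.pullback (pullback.snd s s)).obj G)))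
  haveI : P₀.triangEnvelope.IsStableUnderShift ℤ := inferInstance
  exact ⟨_, _, _, h1, P₀.triangEnvelope.le_shift (-1 : ℤ) _ hC⟩

variable {k} in
/-- Objects with bounded coherent image. -/
def CohbIm {Z : Scheme.{u}} (F : DCoh.D Z ⥤ DCoh.D X) : ObjectProperty (DCoh.D Z) := fun L =>
  DCoh.IsCohD (F.obj L) ∧ ∃ T : ℕ, ∀ i : ℤ, (T : ℤ) < i.natAbs → IsZero (DCoh.HD (F.obj L) i)

theorem cohb_of_envelope [IsLocallyNoetherian X] {Z : Scheme.{u}} (F : DCoh.D Z ⥤ DCoh.D X) [F.Additive]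
    (hS : EnvImage.MapsShifts F) (hT : EnvImage.MapsTriangles F) {B : DCoh.D Z}
    (hB : CohbIm F B) {L : DCoh.D Z}
    (hL : (ObjectProperty.ofObj fun _ : PUnit.{u + 1} => B).triangEnvelope L) : CohbIm F L := by
  let H := fun i => DerivedCategory.homologyFunctor X.Modules i
  haveI : (CohbIm F).IsStableUnderRetracts := ⟨fun {A A'} r ⟨hc, T, hT'⟩ => by
    have hz : ∀ i, IsZero (DCoh.HD (F.obj A') i) → IsZero (DCoh.HD (F.obj A) i) := fun i hi => by
      rw [IsZero.iff_id_eq_zero, ← ((r.map F).map (H i)).retract]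
      rw [hi.eq_of_src ((r.map F).map (H i)).r 0, comp_zero]
    exact ⟨fun i => isCoh_of_retract ((r.map F).map (H i)) (hc i), T, fun i hi => hz i (hT' i hi)⟩⟩
  haveI : (CohbIm F).IsTriangulated :=
    { exists_zero := ⟨_, isZero_zero _, fun i => isCoh_of_isZero ((H i).map_isZero (F.map_isZero (isZero_zero _))),
        0, fun i _ => (H i).map_isZero (F.map_isZero (isZero_zero _))⟩
      isStableUnderShiftBy := fun a => ⟨fun A hA => by
        obtain ⟨hc, T, hT'⟩ := hA
        obtain ⟨e⟩ := hS A a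
        refine ⟨isCohD_of_iso e.symm (isCohD_shift hc a), T + a.natAbs, fun i hi => ?_⟩
        exact (hT' (a + i) (by omega)).of_iso ((H i).mapIso e ≪≫
          ((DerivedCategory.homologyFunctor X.Modules 0).shiftIso a i (a + i) rfl).app _)⟩
      toIsTriangulatedClosed₂ := ObjectProperty.IsTriangulatedClosed₂.mk' fun S hS' ⟨h₁, T₁, z₁⟩ ⟨h₃, T₃, z₃⟩ => by
        obtain ⟨f, g, δ, hd⟩ := hT S hS'
        refine ⟨isCohD_obj₂ hd h₁ h₃, max T₁ T₃, fun i hi => ?_⟩
        exact (DerivedCategory.HomologySequence.exact₂ _ hd i).isZero_of_both_zeros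
          ((z₁ i (by omega)).eq_of_src _ _) ((z₃ i (by omega)).eq_of_tgt _ _) }
  refine (ObjectProperty.triangEnvelope_le_iff (Q := CohbIm F) _).2 (fun A hA => ?_) L hL
  obtain ⟨_⟩ := hA
  exact hB

variable {k} in
/-- Vanishing of a piece of a kernel on objects bounded above. -/
theorem isZero_hd_kernel {Z : Scheme.{u}} (p q : Z ⟶ X) [DCoh.HasRpush q] [DCoh.HasLpull p] (d : ℕ)
    (hd : ∀ (E : DCoh.D Z) (c m : ℤ), DCoh.IsQCohD E → E.IsLE c → c + d ≤ m →
      IsZero (DCoh.HD ((DCoh.Rpush q).obj E) m))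
    (R : Z.Modules) (hR : Coh.IsQCoh R) (C : CochainComplex X.Modules ℤ) (hC : DCoh.IsKFlat C)
    (hCq : DCoh.IsQCohD (DCoh.toD X C)) (c : ℤ) [(DCoh.toD X C).IsLE c]
    [DCoh.HasLTensorCx ((pullCx p).obj C)]
    (n : ℤ) (m : ℤ) (hm : c - n + d ≤ m) :
    IsZero (DCoh.HD ((DCoh.LTensorCx ((pullCx p).obj C) ⋙ DCoh.Rpush q).obj ((DCoh.inD Z R)⟦n⟧)) m) := by
  let C' := (pullCx p).obj C
  have hC' : DCoh.IsKFlat C' := isKFlat_pullback p hC
  haveI : ((DCoh.Lpull p).obj (DCoh.toD X C)).IsLE c := isLE_lpull p _ c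
  haveI hC'le : (DCoh.toD Z C').IsLE c := DerivedCategory.TStructure.t.isLE_of_iso (lpullIso p hC) c
  haveI : C'.IsLE c := (DerivedCategory.isLE_Q_obj_iff _ _).1 hC'le
  let R₀ : CochainComplex Z.Modules ℤ := (HomologicalComplex.single Z.Modules (ComplexShape.up ℤ) 0).obj R
  haveI : R₀.IsLE 0 := (DerivedCategory.isLE_Q_obj_iff _ _).1
    (DerivedCategory.TStructure.t.isLE_of_iso (StrongGen.inDIso R) 0)
  let L := (DCoh.LTensorCx C').obj (DCoh.inD Z R)
  let eL : L ≅ DCoh.toD Z ((DCoh.tensorCx.obj R₀).obj C') :=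
    (DCoh.LTensorCx C').mapIso (StrongGen.inDIso R) ≪≫ StrongGen.ltcApp C' hC' R₀
  haveI hLle : L.IsLE c := by
    suffices h : (DCoh.toD Z ((DCoh.tensorCx.obj R₀).obj C')).IsLE c by
      haveI := h
      exact DerivedCategory.TStructure.t.isLE_of_iso eL.symm c
    refine (DerivedCategory.isLE_iff _ c).2 fun i hi => ?_
    exact ((PerfD40.isZero_homology_tensor_of_isLE hC' (K := R₀) (a := c) (b := 0) i (by omega)).of_iso
      ((DerivedCategory.homologyFunctorFactors Z.Modules i).app _ ≪≫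
        (HomologicalComplex.homologyFunctor _ _ i).mapIso (Exchange.commCx R₀ C')))
  have hLq : DCoh.IsQCohD L := isQCohD_ltensor C'
    (isQCohD_of_iso (lpullIso p hC) (isQCohD_lpull p hCq)) (isQCohD_of_iso (Iso.refl _) fun i => by
      by_cases h : i = 0
      · subst h
        exact isQCoh_of_iso ((DerivedCategory.singleFunctorCompHomologyFunctorIso Z.Modules 0).app R).symm hR
      · rcases lt_or_gt_of_ne h with h | h
        · exact QCoh.isQCoh_of_isZero ((DCoh.inD Z R).isZero_of_isGE 0 i h)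
        · exact QCoh.isQCoh_of_isZero ((DCoh.inD Z R).isZero_of_isLE 0 i h))
  obtain ⟨e⟩ := ((StrongGen.mapsShifts_ltensor C' hC').comp (G := DCoh.Rpush q)
    fun L a => nonempty_rpush_shift q L a) (DCoh.inD Z R) n
  exact (hd L c (n + m) hLq hLle (by omega)).of_iso ((DerivedCategory.homologyFunctor X.Modules m).mapIso e ≪≫
    ((DerivedCategory.homologyFunctor X.Modules 0).shiftIso n m (n + m) rfl).app _)

/-- Both boundedness and coherence. -/
theorem cohb_of_hom_finite (hX : PerfAux.HasResolutionProperty X) (K : DCoh.D X) (hK : DCoh.IsQCohD K)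
    (hfin : ∀ E : DCoh.D X, DCoh.IsPerfect E →
      (∀ i : ℤ, Module.Finite k (E ⟶ (shiftFunctor (DCoh.D X) i).obj K)) ∧
      Set.Finite {i : ℤ | Nontrivial (E ⟶ (shiftFunctor (DCoh.D X) i).obj K)}) :
    SGA6.cohbP X K := by
  let s := X ↘ Spec (.of k)
  let p := pullback.fst s s
  let q := pullback.snd s s
  haveI : Flat s := AlgStLib.OnePt.flat_of_field s
  haveI : CompactSpace X := (quasiCompact_iff_compactSpace s).1 inferInstance
  haveI : IsLocallyNoetherian X := LocallyOfFiniteType.isLocallyNoetherian s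
  haveI : IsNoetherian X := {}
  haveI := hasLpull p
  haveI := DiagKernel.hasRpush q
  haveI := DiagKernel.hasRpush s
  haveI := hasLpull s
  let H := fun i => DerivedCategory.homologyFunctor X.Modules i
  obtain ⟨d, hd⟩ := CohAmp.exists_rpush_bound q
  -- the image of a piece built from boxes
  have main : ∀ (N : ℕ), ∃ (A B : CochainComplex (pullback s s).Modules ℤ) (φ : A ⟶ B)
      (_ : Nonempty (DCoh.toD _ (CochainComplex.mappingCone φ) ≅ FMK.diagO s))
      (R : (pullback s s).Modules) (_ : Coh.IsQCoh R)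
      (_ : Nonempty (DCoh.toD _ A ≅ (DCoh.inD _ R)⟦(N : ℤ)⟧⟦(-1 : ℤ)⟧)),
      ∀ (C : CochainComplex X.Modules ℤ) [DCoh.HasLTensorCx ((pullCx p).obj C)], DCoh.IsKFlat C →
        Nonempty (DCoh.toD X C ≅ K) →
        CohbIm (DCoh.LTensorCx ((pullCx p).obj C) ⋙ DCoh.Rpush q) (DCoh.toD _ B) := by
    intro N
    obtain ⟨E, G, R, hE, hG, hR, P, h, f, g, hT, hP⟩ := exists_diag_approx k hX N
    obtain ⟨A, B, φ, ⟨eT⟩⟩ := (DerivedCategory.mem_distTriang_iff _).1 hT
    refine ⟨A, B, φ, ⟨(Triangle.π₃.mapIso eT).symm⟩, R, hR.1, ⟨(Triangle.π₁.mapIso eT).symm⟩,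
      fun C _ hC ⟨eC⟩ => ?_⟩
    let F := DCoh.LTensorCx ((pullCx p).obj C) ⋙ DCoh.Rpush q
    have hC' : DCoh.IsKFlat ((pullCx p).obj C) := isKFlat_pullback p hC
    haveI : F.Additive := by
      haveI := StrongGen.additive_ltensor ((pullCx p).obj C)
      haveI := StrongGen.additive_rpush q
      dsimp [F]; infer_instance
    have hFS : EnvImage.MapsShifts F :=
      (StrongGen.mapsShifts_ltensor _ hC').comp fun L a => nonempty_rpush_shift q L a
    have hFT : EnvImage.MapsTriangles F := (StrongGen.mapsTriangles_ltensor _ hC').comp fun S hS => by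
      obtain ⟨c, hc⟩ := exists_rpush_triangle q S hS
      exact ⟨_, _, c, hc⟩
    haveI := hasLTensorCx ((HomologicalComplex.single X.Modules (ComplexShape.up ℤ) 0).obj G)
    haveI := hasLTensorCx ((HomologicalComplex.single X.Modules (ComplexShape.up ℤ) 0).obj E)
    obtain ⟨M, -, ⟨eM⟩, ⟨eB⟩⟩ := StrongGen.nonempty_box_image' k E G hE hG C hC
      (isQCohD_of_iso eC.symm hK)
    let eMK : M ≅ (DCoh.LTensorCx ((HomologicalComplex.single X.Modules (ComplexShape.up ℤ) 0).obj E)).obj K :=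
      eM.symm ≪≫ (ltensorCxIso _ hC).symm ≪≫ (DCoh.LTensorCx _).mapIso eC
    obtain ⟨hRc, T, hRT⟩ := HomTest.rpush_tensor_cohb k K hfin hE
    have hL : DCoh.IsCohD ((DCoh.Lpull s).obj ((DCoh.Rpush s).obj M)) := fun i => by
      obtain ⟨e⟩ := CohAmp.nonempty_hd_lpull s ((DCoh.Rpush s).obj M) i
      obtain ⟨m, ⟨r⟩⟩ := PointSplit.fd_of_isCoh k
        (isCoh_of_iso ((DerivedCategory.homologyFunctor _ i).mapIso ((DCoh.Rpush s).mapIso eMK).symm) (hRc i))
      have hlf : FlatMod.IsFinLocFree ((tilde.functor (CommRingCat.of k)).obj (ModuleCat.of k (Fin m → k))) :=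
        (QCoh.isFinLocFree_tilde_iff (R := CommRingCat.of k) _).2
          ⟨inferInstanceAs (Module.Finite k (Fin m → k)), inferInstanceAs (Module.Projective k (Fin m → k))⟩
      have hc : Coh.IsCoh ((Scheme.Modules.pullback s).obj _) :=
        QCoh.isCoh_iff_isFP.2 (QCoh.isFP_of_isFinLocFree (isFinLocFree_pullback s hlf))
      exact isCoh_of_iso e.symm (isCoh_of_retract (r.map (Scheme.Modules.pullback s)) hc)
    refine cohb_of_envelope F hFS hFT ⟨isCohD_of_iso eB.symm (CohAmp.isCohD_ltensor hG hL), T, fun i hi => ?_⟩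
      ((ObjectProperty.triangEnvelope _).prop_of_iso (Triangle.π₂.mapIso eT) hP)
    exact ((CohAmp.isZero_hd_ltensor hG (CohAmp.isZero_hd_lpull s
      ((hRT i hi).of_iso ((DerivedCategory.homologyFunctor _ i).mapIso ((DCoh.Rpush s).mapIso eMK)))))).of_iso
        ((H i).mapIso eB)
  -- the approximation in degree `m`, for complexes bounded above
  have approx : ∀ (N : ℕ), ∃ (A B : CochainComplex (pullback s s).Modules ℤ) (φ : A ⟶ B)
      (_ : DCoh.HasLTensorCx B) (_ : DCoh.HasLTensorCx (CochainComplex.mappingCone φ)),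
      (CohbIm (X := X) (𝟭 _) ((FMK.phi s s B).obj K)) ∧
      Nonempty (FMK.phi s s (CochainComplex.mappingCone φ) ≅ 𝟭 (DCoh.D X)) ∧
      ∃ η : FMK.phi s s B ⟶ FMK.phi s s (CochainComplex.mappingCone φ),
        ∀ (L : DCoh.D X) (c : ℤ), DCoh.IsQCohD L → L.IsLE c → ∀ m, c - N + d ≤ m →
          Epi ((H m).map (η.app L)) ∧ (c - N + d < m → IsIso ((H m).map (η.app L))) := by
    intro N
    obtain ⟨A, B, φ, ⟨eΔ⟩, R, hR, ⟨eA⟩, hB⟩ := main N
    let Cn := CochainComplex.mappingCone φ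
    haveI := hasLTensorCx B
    haveI := hasLTensorCx Cn
    obtain ⟨e₁⟩ := DiagKernel.phi_diag s Cn ⟨eΔ⟩
    let ι : B ⟶ Cn := (coneSeq φ).f
    let α₁ := (DCoh.tensorCxQ B).totalLeftDerivedCounit DerivedCategory.Q (qisX (pullback s s))
    let α₂ := (DCoh.tensorCxQ Cn).totalLeftDerivedCounit DerivedCategory.Q (qisX (pullback s s))
    let τ : DCoh.tensorCxQ B ⟶ DCoh.tensorCxQ Cn :=
      Functor.whiskerRight ((DCoh.tensorCx (X := pullback s s)).flip.map ι) DerivedCategory.Q
    let ν : DCoh.LTensorCx B ⟶ DCoh.LTensorCx Cn :=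
      Functor.leftDerivedNatTrans (DCoh.LTensorCx B) (DCoh.LTensorCx Cn) α₁ α₂ (qisX (pullback s s)) τ
    refine ⟨A, B, φ, inferInstance, inferInstance, ?_, ⟨e₁⟩,
      Functor.whiskerLeft (DCoh.Lpull p) (Functor.whiskerRight ν (DCoh.Rpush q)), fun L c hLq hLle m hm => ?_⟩
    · let C := (kRes X).obj (DerivedCategory.Q.objPreimage K)
      have hC : DCoh.IsKFlat C := isKFlat_kRes _
      let eC : DCoh.toD X C ≅ K := (resQIso X).app _ ≪≫ DerivedCategory.Q.objObjPreimageIso K
      haveI := hasLTensorCx ((pullCx p).obj C)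
      obtain ⟨hc, T, hT⟩ := hB C hC ⟨eC⟩
      let e : (FMK.phi s s B).obj K ≅
          (DCoh.LTensorCx ((pullCx p).obj C) ⋙ DCoh.Rpush q).obj (DCoh.toD _ B) :=
        (DCoh.Rpush q).mapIso ((DCoh.LTensorCx B).mapIso ((DCoh.Lpull p).mapIso eC.symm ≪≫ lpullIso p hC) ≪≫
          ltensorCxIso B (isKFlat_pullback p hC) ≪≫ DerivedCategory.Q.mapIso (Exchange.commCx _ B) ≪≫
          (StrongGen.ltcApp _ (isKFlat_pullback p hC) B).symm)
      exact ⟨isCohD_of_iso e.symm hc, T, fun i hi => (hT i hi).of_iso ((H i).mapIso e)⟩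
    let C := (kRes X).obj (DerivedCategory.Q.objPreimage L)
    have hC : DCoh.IsKFlat C := isKFlat_kRes _
    let eC : DCoh.toD X C ≅ L := (resQIso X).app _ ≪≫ DerivedCategory.Q.objObjPreimageIso L
    let C' := (pullCx p).obj C
    have hC' : DCoh.IsKFlat C' := isKFlat_pullback p hC
    haveI := hasLTensorCx C'
    haveI := hLle
    haveI : (DCoh.toD X C).IsLE c := DerivedCategory.TStructure.t.isLE_of_iso eC.symm c
    let S := (coneSeq φ).map (DCoh.tensorCx.obj C')
    have hS : S.ShortExact := shortExact₂_of_splitting (T := DCoh.tensorBi) C' (coneSeq φ)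
      fun n => ⟨coneSeqSplitting φ n⟩
    obtain ⟨δ, hδ⟩ := exists_rpush_triangle q _ (DerivedCategory.triangleOfSES_distinguished hS)
    let eX₃ : DCoh.toD _ S.X₃ ≅ (DCoh.LTensorCx C').obj ((DCoh.inD _ R)⟦(N : ℤ)⟧) :=
      DerivedCategory.Q.mapIso (Exchange.commCx C' _) ≪≫ (StrongGen.ltcApp C' hC' _).symm ≪≫
        (DCoh.LTensorCx C').mapIso ((DerivedCategory.Q.commShiftIso (1 : ℤ)).app A ≪≫
          (shiftFunctor _ (1 : ℤ)).mapIso eA ≪≫ (shiftFunctorCompIsoId _ (-1 : ℤ) 1 (by omega)).app _)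
    have hz : ∀ j, c - N + d ≤ j → IsZero (DCoh.HD ((DCoh.Rpush q).obj (DCoh.toD _ S.X₃)) j) := fun j hj =>
      (isZero_hd_kernel p q d hd R hR C hC (isQCohD_of_iso eC.symm hLq) c N j hj).of_iso
        ((H j).mapIso ((DCoh.Rpush q).mapIso eX₃))
    haveI hepi : Epi ((H m).map ((DCoh.Rpush q).map (DerivedCategory.Q.map S.f))) :=
      (DerivedCategory.HomologySequence.exact₂ _ hδ m).epi_f ((hz m hm).eq_of_tgt _ _)
    let e₁' : ((DCoh.Lpull p) ⋙ DCoh.LTensorCx B).obj L ≅ DCoh.toD _ S.X₁ :=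
      (DCoh.LTensorCx B).mapIso ((DCoh.Lpull p).mapIso eC.symm ≪≫ lpullIso p hC) ≪≫ ltensorCxIso B hC'
    let e₂' : ((DCoh.Lpull p) ⋙ DCoh.LTensorCx Cn).obj L ≅ DCoh.toD _ S.X₂ :=
      (DCoh.LTensorCx Cn).mapIso ((DCoh.Lpull p).mapIso eC.symm ≪≫ lpullIso p hC) ≪≫ ltensorCxIso Cn hC'
    have sq : ν.app ((DCoh.Lpull p).obj L) ≫ e₂'.hom = e₁'.hom ≫ DerivedCategory.Q.map S.f := by
      have n1 := ν.naturality ((DCoh.Lpull p).mapIso eC.symm ≪≫ lpullIso p hC).hom
      have n2 : ν.app (DerivedCategory.Q.obj C') ≫ α₂.app C' = α₁.app C' ≫ τ.app C' :=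
        Functor.leftDerivedNatTrans_app _ _ α₁ α₂ _ τ C'
      let u := ((DCoh.Lpull p).mapIso eC.symm ≪≫ lpullIso p hC).hom
      show ν.app _ ≫ (DCoh.LTensorCx Cn).map u ≫ (ltensorCxIso Cn hC').hom =
        ((DCoh.LTensorCx B).map u ≫ (ltensorCxIso B hC').hom) ≫ DerivedCategory.Q.map S.f
      rw [Category.assoc, ← Category.assoc, ← n1, Category.assoc]
      exact congrArg (_ ≫ ·) n2
    have arr : Arrow.mk ((H m).map ((DCoh.Rpush q).map (ν.app ((DCoh.Lpull p).obj L)))) ≅
        Arrow.mk ((H m).map ((DCoh.Rpush q).map (DerivedCategory.Q.map S.f))) :=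
      Arrow.isoMk ((DCoh.Rpush q ⋙ H m).mapIso e₁') ((DCoh.Rpush q ⋙ H m).mapIso e₂') (by
        dsimp; rw [← Functor.map_comp, ← Functor.map_comp, ← Functor.map_comp, ← Functor.map_comp, sq])
    refine ⟨((MorphismProperty.epimorphisms X.Modules).arrow_mk_iso_iff arr).2 hepi, fun hm' => ?_⟩
    haveI : Mono ((H m).map ((DCoh.Rpush q).map (DerivedCategory.Q.map S.f))) :=
      (DerivedCategory.HomologySequence.mono_homologyMap_mor₁_iff _ hδ (m - 1) m (by omega)).2
        ((hz (m - 1) (by omega)).eq_of_src _ _)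
    exact ((MorphismProperty.isomorphisms X.Modules).arrow_mk_iso_iff arr).2
      (isIso_of_mono_of_epi ((H m).map ((DCoh.Rpush q).map (DerivedCategory.Q.map S.f))))
  -- boundedness
  obtain ⟨A, B, φ, hB', hC', ⟨-, T, hT⟩, ⟨e⟩, η, hη⟩ := approx d
  have hbd : ∀ c : ℤ, (T : ℤ) < c.natAbs → IsZero (DCoh.HD K c) := by
    intro c hc
    obtain ⟨L, L', hL, hL', f, g, δ, hT'⟩ := DerivedCategory.TStructure.t.exists_triangle K c (c + 1) rfl
    haveI : L.IsLE c := ⟨hL⟩
    haveI : L'.IsGE (c + 1) := ⟨hL'⟩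
    haveI : Epi ((H c).map f) := (DerivedCategory.HomologySequence.exact₂ _ hT' c).epi_f
      ((L'.isZero_of_isGE (c + 1) c (by omega)).eq_of_tgt _ _)
    have hLq : DCoh.IsQCohD L := fun j => by
      by_cases hj : c < j
      · exact QCoh.isQCoh_of_isZero (L.isZero_of_isLE c j hj)
      · haveI : Epi ((H j).map f) := (DerivedCategory.HomologySequence.exact₂ _ hT' j).epi_f
          ((L'.isZero_of_isGE (c + 1) j (by omega)).eq_of_tgt _ _)
        haveI : Mono ((H j).map f) :=
          (DerivedCategory.HomologySequence.mono_homologyMap_mor₁_iff _ hT' (j - 1) j (by omega)).2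
            ((L'.isZero_of_isGE (c + 1) (j - 1) (by omega)).eq_of_src _ _)
        haveI := isIso_of_mono_of_epi ((H j).map f)
        exact isQCoh_of_iso (asIso ((H j).map f)).symm (hK j)
    haveI := (hη L c hLq inferInstance c (by omega)).1
    have nat := congrArg ((H c).map ·) (η.naturality f)
    simp only [Functor.map_comp] at nat
    have h0 : (H c).map ((FMK.phi s s (CochainComplex.mappingCone φ)).map f) = 0 := by
      rw [← cancel_epi ((H c).map (η.app L)), comp_zero, ← nat,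
        (hT c hc).eq_of_tgt ((H c).map ((FMK.phi s s B).map f)) 0, zero_comp]
    have h1 : (H c).map f = 0 := by
      have n := congrArg ((H c).map ·) (e.hom.naturality f)
      simp only [Functor.map_comp, Functor.id_map] at n
      rw [h0, zero_comp] at n
      haveI : IsIso ((H c).map (e.hom.app L)) := inferInstance
      exact (cancel_epi ((H c).map (e.hom.app L))).1 (n.symm.trans comp_zero.symm)
    rw [IsZero.iff_id_eq_zero, ← cancel_epi ((H c).map f), comp_zero, h1, zero_comp]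
  haveI hle : K.IsLE (T : ℤ) := (DerivedCategory.isLE_iff _ _).2 fun i hi => hbd i (by omega)
  haveI hge : K.IsGE (-(T : ℤ)) := (DerivedCategory.isGE_iff _ _).2 fun i hi => hbd i (by omega)
  refine ⟨fun i => ?_, -(T : ℤ), T, hge, hle⟩
  by_cases hi : (T : ℤ) < i.natAbs
  · exact isCoh_of_isZero (hbd i hi)
  obtain ⟨A', B', φ', hB'', hC'', ⟨hc, -⟩, ⟨e'⟩, η', hη'⟩ := approx (2 * T + d + 1)
  haveI := (hη' K T hK hle i (by omega)).2 (by push_cast; omega)
  exact isCoh_of_iso (asIso ((H i).map (η'.app K)) ≪≫ (H i).mapIso (e'.app K)) (hc i)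

end Groth.Agent.DEqLib.Sib.DbCohTest
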