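import Groth.Agent.DEqLib.Sib.DualFunctor
import Groth.Agent.S6746

/-!
# Corepresentability of homological functors on perfect objects
-/

universe u

open CategoryTheory Category Limits Pretriangulated AlgebraicGeometry Opposite

attribute [local instance] HasDerivedCategory.standard

set_option backward.isDefEq.respectTransparency false

noncomputable section

namespace Groth.Agent.DEqLib.Sib.Corep

variable (k : Type u) [Field k] (X : Scheme.{u}) [X.Over (Spec (CommRingCat.of k))]
  [(SGA6.perfP X).IsTriangulated]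

/-- The dual on perfect objects. -/
def dualP : ((SGA6.perfP X).FullSubcategory)ᵒᵖ ⥤ (SGA6.perfP X).FullSubcategory :=
  ObjectProperty.lift _ ((ObjectProperty.ι (SGA6.perfP X)).op ⋙ Dual.dual X)
    fun E => Dual.isPerfect_dual E.unop.property

instance : (dualP X).Additive where
  map_add {_ _ f g} := ObjectProperty.hom_ext _ (Dual.dual_map_add f.unop.hom g.unop.hom)

variable [IsProper (X ↘ Spec (CommRingCat.of k))]

theorem exists_corepresenting (hreg : Models.IsRegularScheme X)
    (G : (SGA6.perfP X).FullSubcategory ⥤ ModuleCat.{u + 1} k) [G.Additive] [G.Linear k] [G.IsHomological]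
    (hfin : ∀ E : (SGA6.perfP X).FullSubcategory,
      (∀ n : ℤ, Module.Finite k (G.obj ((shiftFunctor ((SGA6.perfP X).FullSubcategory) n).obj E))) ∧
      Set.Finite {n : ℤ | Nontrivial (G.obj ((shiftFunctor ((SGA6.perfP X).FullSubcategory) n).obj E))}) :
    ∃ K : (SGA6.perfP X).FullSubcategory,
      Nonempty (G ≅ (linearCoyoneda k ((SGA6.perfP X).FullSubcategory)).obj (op K)) := by
  let P := SGA6.perfP X
  let H := dualP X ⋙ G
  have hsh : ∀ (E : P.FullSubcategory) (n : ℤ), Nonempty (H.obj (op ((shiftFunctor P.FullSubcategory n).obj E)) ≅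
      G.obj ((shiftFunctor P.FullSubcategory (-n)).obj ((dualP X).obj (op E)))) := fun E n => by
    obtain ⟨e⟩ := Dual.nonempty_dual_shift E.obj n
    exact ⟨G.mapIso (ObjectProperty.isoMk _ ((Dual.dual X).mapIso ((P.ι.commShiftIso n).app E).symm.op ≪≫ e ≪≫
      ((P.ι.commShiftIso (-n)).app ((dualP X).obj (op E))).symm))⟩
  obtain ⟨K, hK, ⟨i⟩⟩ := Groth.Agent.S6746.result k X hreg H
    (fun A B r f => by
      show G.map ((dualP X).map (r • f).op) = r • G.map ((dualP X).map f.op)
      rw [← G.map_smul]
      exact congrArg G.map (ObjectProperty.hom_ext _ (Dual.dual_map_smul k r f.hom)))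
    (fun T hT h₁ h₂ h₃ y hy => by
      obtain ⟨δ, hδ⟩ := Dual.exists_dual_triangle X T hT
      let A₁ : P.FullSubcategory := (dualP X).obj (op ⟨T.obj₃, h₃⟩)
      let A₂ : P.FullSubcategory := (dualP X).obj (op ⟨T.obj₂, h₂⟩)
      let A₃ : P.FullSubcategory := (dualP X).obj (op ⟨T.obj₁, h₁⟩)
      let a : A₁ ⟶ A₂ := (dualP X).map (ObjectProperty.homMk T.mor₂ :
        (⟨T.obj₂, h₂⟩ : P.FullSubcategory) ⟶ ⟨T.obj₃, h₃⟩).op
      let b : A₂ ⟶ A₃ := (dualP X).map (ObjectProperty.homMk T.mor₁ :
        (⟨T.obj₁, h₁⟩ : P.FullSubcategory) ⟶ ⟨T.obj₂, h₂⟩).op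
      let d : A₃ ⟶ A₁⟦(1 : ℤ)⟧ := P.fullyFaithfulι.preimage (δ ≫ (P.ι.commShiftIso (1 : ℤ)).inv.app A₁)
      have hd : Triangle.mk a b d ∈ distTriang P.FullSubcategory :=
        isomorphic_distinguished _ hδ _ (Triangle.isoMk _ _ (Iso.refl _) (Iso.refl _) (Iso.refl _)
          ((Category.comp_id _).trans (Category.id_comp _).symm)
          ((Category.comp_id _).trans (Category.id_comp _).symm)
          (by simp [d]; exact (Category.assoc _ _ _).trans ((congrArg (δ ≫ ·) (Iso.inv_hom_id_app (P.ι.commShiftIso (1 : ℤ)) A₁)).trans (Category.comp_id _))))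
      exact (ShortComplex.moduleCat_exact_iff ((shortComplexOfDistTriangle (Triangle.mk a b d) hd).map G)).1 (G.map_distinguished_exact _ hd) y hy)
    (fun E => ⟨fun n => by
        haveI := (hfin ((dualP X).obj (op E))).1 (-n)
        exact Module.Finite.equiv (hsh E n).some.toLinearEquiv.symm, by
        refine ((hfin ((dualP X).obj (op E))).2.image fun n => -n).subset fun n hn => ⟨-n, ?_, neg_neg n⟩
        haveI : Nontrivial (H.obj (op ((shiftFunctor P.FullSubcategory n).obj E))) := hn
        exact (hsh E n).some.toLinearEquiv.symm.toEquiv.nontrivial⟩)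
  obtain ⟨e, he⟩ := Dual.exists_bidual (X := X)
  refine ⟨(dualP X).obj (op ⟨K, hK⟩), ⟨NatIso.ofComponents (fun E => ?_) ?_⟩⟩
  · exact G.mapIso (ObjectProperty.isoMk _ (e E.obj E.property) :
        E ≅ (dualP X).obj (op ((dualP X).obj (op E)))) ≪≫ i.app (op ((dualP X).obj (op E))) ≪≫
      (LinearEquiv.ofBijective
        ({ toFun := fun f => ObjectProperty.homMk ((Dual.dual X).map f.op ≫ (e E.obj E.property).inv)
           map_add' := fun f g => ObjectProperty.hom_ext _ (by
             show (Dual.dual X).map (f + g).op ≫ _ = (Dual.dual X).map f.op ≫ _ + (Dual.dual X).map g.op ≫ _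
             rw [Dual.dual_map_add, Preadditive.add_comp])
           map_smul' := fun r f => ObjectProperty.hom_ext _ (by
             show (Dual.dual X).map (r • f).op ≫ _ = r • ((Dual.dual X).map f.op ≫ _)
             rw [Dual.dual_map_smul k, Linear.smul_comp]) } :
          ((Dual.dual X).obj (op E.obj) ⟶ K) →ₗ[k] ((dualP X).obj (op ⟨K, hK⟩) ⟶ E))
        ⟨fun f g h => Dual.dual_map_injective (Dual.isPerfect_dual E.property) hK
          ((cancel_mono (e E.obj E.property).inv).1 (congrArg (fun z => z.hom) h)),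
         fun g => by
          obtain ⟨f, hf⟩ := Dual.dual_map_surjective (Dual.isPerfect_dual E.property) hK
            (g.hom ≫ (e E.obj E.property).hom)
          exact ⟨f, ObjectProperty.hom_ext _ (by
            show (Dual.dual X).map f.op ≫ _ = g.hom
            rw [show (Dual.dual X).map f.op = _ from hf, Category.assoc, Iso.hom_inv_id, Category.comp_id])⟩⟩).toModuleIso
  · intro E E' f
    apply ModuleCat.hom_ext
    apply LinearMap.ext
    intro x
    have hn := congrArg (fun φ => φ.hom (G.map (ObjectProperty.homMk (e E.obj E.property).hom :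
        E ⟶ (dualP X).obj (op ((dualP X).obj (op E)))) x))
      (i.hom.naturality ((dualP X).map f.op).op)
    have hg : G.map f ≫ G.map (ObjectProperty.homMk (e E'.obj E'.property).hom :
        E' ⟶ (dualP X).obj (op ((dualP X).obj (op E')))) =
      G.map (ObjectProperty.homMk (e E.obj E.property).hom :
        E ⟶ (dualP X).obj (op ((dualP X).obj (op E)))) ≫ H.map ((dualP X).map f.op).op := by
      show _ = _ ≫ G.map _
      rw [← G.map_comp, ← G.map_comp]
      exact congrArg G.map (ObjectProperty.hom_ext _ (he E.obj E'.obj E.property E'.property f.hom))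
    apply ObjectProperty.hom_ext
    show (Dual.dual X).map ((i.hom.app _).hom ((G.map f ≫ G.map _).hom x)).op ≫ _ =
      ((Dual.dual X).map ((i.hom.app _).hom _).op ≫ _) ≫ f.hom
    refine (congrArg (fun z => (Dual.dual X).map ((i.hom.app (op ((dualP X).obj (op E')))).hom (z.hom x)).op ≫
      (e E'.obj E'.property).inv) hg).trans ?_
    refine (congrArg (fun z => (Dual.dual X).map z.op ≫ (e E'.obj E'.property).inv) hn).trans ?_
    show (Dual.dual X).map (((Dual.dual X).map f.hom.op) ≫ _).op ≫ _ = _
    rw [op_comp, Functor.map_comp, Category.assoc, Category.assoc]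
    congr 1
    rw [Iso.comp_inv_eq, Category.assoc, he _ _ E.property E'.property f.hom, Iso.inv_hom_id_assoc]

end Groth.Agent.DEqLib.Sib.Corep
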