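import Mathlib.Algebra.Homology.DerivedCategory.Fractions
import Mathlib.Algebra.Homology.DerivedCategory.TStructure
import Mathlib.Data.Countable.Basic
import Mathlib.Data.Int.Interval

/-! The bounded derived category of a countable abelian category is countable. -/

universe w v u

open CategoryTheory CategoryTheory.Limits

set_option backward.isDefEq.respectTransparency false

namespace Groth.Agent.DEqLib.Sib.Cnt

variable {A : Type u} [Category.{v} A] [Abelian A]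

abbrev Str (m n : ℤ) := {K : CochainComplex A ℤ // K.IsStrictlyGE m ∧ K.IsStrictlyLE n}

lemma isZero_X {m n : ℤ} (K : Str (A := A) m n) (i : ℤ) (h : i ∉ Finset.Icc m n) : IsZero (K.1.X i) := by
  haveI := K.2.1; haveI := K.2.2
  rw [Finset.mem_Icc, not_and_or, not_le, not_le] at h
  rcases h with h | h
  · exact K.1.isZero_of_isStrictlyGE m i h
  · exact K.1.isZero_of_isStrictlyLE n i h

lemma countable_hom (hhom : ∀ X Y : A, Countable (X ⟶ Y)) {m n : ℤ} (K L : Str (A := A) m n) :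
    Countable (K.1 ⟶ L.1) := by
  haveI := hhom
  refine Function.Injective.countable (f := fun φ : K.1 ⟶ L.1 => fun i : Finset.Icc m n => φ.f i.1)
    fun φ ψ h => ?_
  ext i
  by_cases hi : i ∈ Finset.Icc m n
  · exact congrFun h ⟨i, hi⟩
  · exact (isZero_X K i hi).eq_of_src _ _

/-- Countably many strictly bounded complexes up to isomorphism. -/
lemma exists_countable_reps (hhom : ∀ X Y : A, Countable (X ⟶ Y))
    (hiso : ∃ e : ℕ → A, ∀ X : A, ∃ n : ℕ, Nonempty (X ≅ e n)) (m n : ℤ) :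
    ∃ S : Set (Str (A := A) m n), S.Countable ∧ ∀ K : Str (A := A) m n, ∃ L ∈ S, Nonempty (K.1 ≅ L.1) := by
  classical
  haveI := hhom
  obtain ⟨e, he⟩ := hiso
  let I := {i // i ∈ Finset.Icc m n}
  let Code := Σ f : I → ℕ, ∀ p : I × I, e (f p.1) ⟶ e (f p.2)
  haveI : Countable Code := inferInstance
  let Rep : Str (A := A) m n → Code → Prop := fun K c => ∃ α : ∀ i : I, K.1.X i.1 ≅ e (c.1 i),
    ∀ i j : I, K.1.d i.1 j.1 ≫ (α j).hom = (α i).hom ≫ c.2 (i, j)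
  have hex : ∀ K, ∃ c, Rep K c := fun K => by
    choose f hf using fun i : I => he (K.1.X i.1)
    let α := fun i => (hf i).some
    exact ⟨⟨f, fun p => (α p.1).inv ≫ K.1.d p.1.1 p.2.1 ≫ (α p.2).hom⟩, α, fun i j => by simp⟩
  have hiso' : ∀ K L c, Rep K c → Rep L c → Nonempty (K.1 ≅ L.1) := by
    rintro K L c ⟨α, hα⟩ ⟨β, hβ⟩
    let γ : ∀ i, K.1.X i ≅ L.1.X i := fun i =>
      if h : i ∈ Finset.Icc m n then α ⟨i, h⟩ ≪≫ (β ⟨i, h⟩).symm
      else (isZero_X K i h).iso (isZero_X L i h)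
    refine ⟨HomologicalComplex.Hom.isoOfComponents γ fun i j hij => ?_⟩
    by_cases hi : i ∈ Finset.Icc m n
    · by_cases hj : j ∈ Finset.Icc m n
      · simp only [γ, dif_pos hi, dif_pos hj, Iso.trans_hom, Iso.symm_hom]
        rw [← cancel_mono (β ⟨j, hj⟩).hom, Category.assoc, Category.assoc, hβ ⟨i, hi⟩ ⟨j, hj⟩,
          Iso.inv_hom_id_assoc, Category.assoc, Category.assoc, Iso.inv_hom_id, Category.comp_id,
          hα ⟨i, hi⟩ ⟨j, hj⟩]
      · exact (isZero_X L j hj).eq_of_tgt _ _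
    · exact (isZero_X K i hi).eq_of_src _ _
  let g : {c : Code // ∃ K, Rep K c} → Str (A := A) m n := fun c => c.2.choose
  refine ⟨Set.range g, Set.countable_range g, fun K => ?_⟩
  obtain ⟨c, hc⟩ := hex K
  have hP : ∃ K, Rep K c := ⟨K, hc⟩
  exact ⟨g ⟨c, hP⟩, ⟨_, rfl⟩, hiso' K _ c hc hP.choose_spec⟩

variable [HasDerivedCategory.{w} A]

open DerivedCategory

lemma countable_hom_Q (hhom : ∀ X Y : A, Countable (X ⟶ Y))
    (hiso : ∃ e : ℕ → A, ∀ X : A, ∃ n : ℕ, Nonempty (X ≅ e n)) {m n : ℤ} (K L : Str (A := A) m n) :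
    Countable (Q.obj K.1 ⟶ Q.obj L.1) := by
  classical
  obtain ⟨S, hS, hrep⟩ := exists_countable_reps hhom hiso m n
  haveI := hS.to_subtype
  haveI : ∀ Y : S, Countable (K.1 ⟶ Y.1.1) := fun Y => countable_hom hhom K Y.1
  haveI : ∀ Y : S, Countable (L.1 ⟶ Y.1.1) := fun Y => countable_hom hhom L Y.1
  let F : (Σ Y : S, (K.1 ⟶ Y.1.1) × (L.1 ⟶ Y.1.1)) → (Q.obj K.1 ⟶ Q.obj L.1) := fun p =>
    if h : IsIso (Q.map p.2.2) then Q.map p.2.1 ≫ @inv _ _ _ _ (Q.map p.2.2) h else 0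
  refine Function.Surjective.countable (f := F) fun φ => ?_
  haveI := K.2.2; haveI := L.2.1; haveI := L.2.2
  obtain ⟨Y, hY, hY', g, s, hs, hφ⟩ := left_fac_of_isStrictlyLE_of_isStrictlyGE m n φ
  obtain ⟨Y', hY'S, ⟨i⟩⟩ := hrep ⟨Y, hY, hY'⟩
  have hs' : IsIso (Q.map (s ≫ i.hom)) := by rw [Functor.map_comp]; infer_instance
  refine ⟨⟨⟨Y', hY'S⟩, g ≫ i.hom, s ≫ i.hom⟩, ?_⟩
  simp only [F, dif_pos hs']
  rw [hφ, ← cancel_mono (Q.map (s ≫ i.hom)), Category.assoc, IsIso.inv_hom_id, Category.comp_id,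
    Functor.map_comp, Functor.map_comp, Category.assoc, IsIso.inv_hom_id_assoc]

lemma exists_str (K : DerivedCategory.Bounded A) :
    ∃ m n : ℤ, ∃ L : Str (A := A) m n, Nonempty (K.obj ≅ Q.obj L.1) := by
  obtain ⟨⟨a, ha⟩, ⟨b, hb⟩⟩ := K.property
  haveI : K.obj.IsGE a := ha
  haveI : K.obj.IsLE b := hb
  obtain ⟨L, h1, h2, e⟩ := exists_iso_Q_obj_of_isGE_of_isLE K.obj a b
  exact ⟨a, b, ⟨L, h1, h2⟩, e⟩

theorem bounded_countable (hhom : ∀ X Y : A, Countable (X ⟶ Y))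
    (hiso : ∃ e : ℕ → A, ∀ X : A, ∃ n : ℕ, Nonempty (X ≅ e n)) :
    (∀ K L : DerivedCategory.Bounded A, Countable (K ⟶ L)) ∧
      ∃ e : ℕ → DerivedCategory.Bounded A, ∀ K : DerivedCategory.Bounded A,
        ∃ n : ℕ, Nonempty (K ≅ e n) := by
  classical
  constructor
  · intro K L
    obtain ⟨m, n, K', ⟨eK⟩⟩ := exists_str K
    obtain ⟨m', n', L', ⟨eL⟩⟩ := exists_str L
    have hK := K'.2; have hL := L'.2
    haveI := hK.1; haveI := hK.2; haveI := hL.1; haveI := hL.2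
    haveI := countable_hom_Q hhom hiso (m := min m m') (n := max n n')
      ⟨K'.1, K'.1.isStrictlyGE_of_ge _ m (min_le_left _ _), K'.1.isStrictlyLE_of_le n _ (le_max_left _ _)⟩
      ⟨L'.1, L'.1.isStrictlyGE_of_ge _ m' (min_le_right _ _), L'.1.isStrictlyLE_of_le n' _ (le_max_right _ _)⟩
    refine Function.Injective.countable (f := fun φ : K ⟶ L => eK.inv ≫ φ.hom ≫ eL.hom) fun φ ψ h => ?_
    exact InducedCategory.hom_ext ((cancel_mono eL.hom).1 ((cancel_epi eK.inv).1 h))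
  · choose S hS hrep using fun p : ℤ × ℤ => exists_countable_reps hhom hiso p.1 p.2
    let mk : ∀ {m n : ℤ}, Str (A := A) m n → DerivedCategory.Bounded A := fun {m n} L =>
      haveI := L.2.1; haveI := L.2.2
      ⟨Q.obj L.1, ⟨m, (isGE_Q_obj_iff _ _).2 inferInstance⟩, ⟨n, (isLE_Q_obj_iff _ _).2 inferInstance⟩⟩
    haveI := fun p => (hS p).to_subtype
    let F : (Σ p : ℤ × ℤ, S p) → DerivedCategory.Bounded A := fun x => mk x.2.1
    haveI : Nonempty (Σ p : ℤ × ℤ, S p) := by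
      obtain ⟨L, hL, -⟩ := hrep (0, 0) ⟨(HomologicalComplex.zero : CochainComplex A ℤ),
        (CochainComplex.isStrictlyGE_iff _ _).2 fun i _ => (isZero_zero A),
        (CochainComplex.isStrictlyLE_iff _ _).2 fun i _ => (isZero_zero A)⟩
      exact ⟨⟨(0, 0), L, hL⟩⟩
    obtain ⟨c, hc⟩ := exists_surjective_nat (Σ p : ℤ × ℤ, S p)
    refine ⟨F ∘ c, fun K => ?_⟩
    obtain ⟨m, n, L, ⟨eK⟩⟩ := exists_str K
    obtain ⟨L', hL', ⟨i⟩⟩ := hrep (m, n) L
    obtain ⟨k, hk⟩ := hc ⟨(m, n), L', hL'⟩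
    refine ⟨k, ⟨?_⟩⟩
    show K ≅ F (c k)
    rw [hk]
    exact ObjectProperty.isoMk _ (eK ≪≫ Q.mapIso i)

end Groth.Agent.DEqLib.Sib.Cnt
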