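import Groth.Agent.DEqLib.Sib.Siblings
import Groth.Agent.KFlatLib.SpanningClass

/-!
# Full faithfulness of a sibling of a fully faithful functor
-/

set_option linter.style.haveILetI false
set_option linter.unusedSectionVars false
set_option backward.isDefEq.respectTransparency false

universe w v v' u u'

open CategoryTheory Category Limits Pretriangulated

namespace Groth.Agent.DEqLib.Sib

section General

variable {C : Type u} [Category.{v} C] [Preadditive C] [HasZeroObject C] [HasShift C ℤ]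
  [∀ n : ℤ, (shiftFunctor C n).Additive] [Pretriangulated C]
  {D : Type u'} [Category.{v'} D] [Preadditive D] [HasZeroObject D] [HasShift D ℤ]
  [∀ n : ℤ, (shiftFunctor D n).Additive] [Pretriangulated D]
  (G : C ⥤ D)

/-- `G` is bijective on morphisms from `P` to `Q`. -/
def Bij (P Q : C) : Prop := Function.Bijective (fun f : P ⟶ Q => G.map f)

lemma Bij.congr {P Q P' Q' : C} (h : Bij G P Q) (a : P ≅ P') (b : Q ≅ Q') : Bij G P' Q' := by
  have key : (fun f : P' ⟶ Q' => G.map f) =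
      Iso.homCongr (G.mapIso a) (G.mapIso b) ∘ (fun f : P ⟶ Q => G.map f) ∘ (Iso.homCongr a b).symm := by
    funext f
    simp [← Functor.map_comp]
  unfold Bij
  rw [key]
  exact (Equiv.bijective _).comp (Function.Bijective.comp h (Equiv.bijective _))

variable {G} [G.CommShift ℤ] [G.IsTriangulated]

lemma bij_obj₃_right {T : Triangle C} (hT : T ∈ distTriang C) {P : C}
    (h1 : Bij G P T.obj₁) (h2 : Bij G P T.obj₂) (h1' : Bij G P (T.obj₁⟦(1 : ℤ)⟧))
    (h2' : Bij G P (T.obj₂⟦(1 : ℤ)⟧)) : Bij G P T.obj₃ := by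
  have hT' := G.map_distinguished T hT
  constructor
  · intro ξ ξ' hξ
    rw [← sub_eq_zero]
    have h0 : G.map (ξ - ξ') = 0 := by rw [G.map_sub, sub_eq_zero]; exact hξ
    have hc : (ξ - ξ') ≫ T.mor₃ = 0 := h1'.1 (by change G.map _ = G.map _; rw [G.map_comp, h0, zero_comp, G.map_zero])
    obtain ⟨χ, hχ⟩ := Triangle.coyoneda_exact₃ _ hT _ hc
    obtain ⟨ω, hω⟩ := Triangle.coyoneda_exact₂ _ hT' (G.map χ) (by
      change G.map χ ≫ G.map T.mor₂ = 0
      rw [← G.map_comp, ← hχ, h0])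
    obtain ⟨ω₀, rfl⟩ := h1.2 ω
    have : χ = ω₀ ≫ T.mor₁ := h2.1 (hω.trans (G.map_comp _ _).symm)
    rw [hχ, this, assoc, comp_distTriang_mor_zero₁₂ _ hT, comp_zero]
  · intro φ
    obtain ⟨ψ, hψ⟩ := h1'.2 (φ ≫ G.map T.mor₃)
    change G.map ψ = _ at hψ
    have hψ0 : ψ ≫ T.mor₁⟦(1 : ℤ)⟧' = 0 := h2'.1 (by
      change G.map _ = G.map _
      rw [G.map_comp, hψ, assoc, ← G.map_comp, comp_distTriang_mor_zero₃₁ _ hT, G.map_zero,
        G.map_zero, comp_zero])
    obtain ⟨ξ, hξ⟩ := Triangle.coyoneda_exact₁ _ hT ψ hψ0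
    obtain ⟨χ, hχ⟩ := Triangle.coyoneda_exact₃ _ hT' (φ - G.map ξ) (by
      change (φ - G.map ξ) ≫ G.map T.mor₃ ≫ (G.commShiftIso (1 : ℤ)).hom.app _ = 0
      rw [← assoc, Preadditive.sub_comp, ← G.map_comp, ← hξ, hψ, sub_self, zero_comp])
    obtain ⟨χ₀, rfl⟩ := h2.2 χ
    refine ⟨ξ + χ₀ ≫ T.mor₂, ?_⟩
    change G.map _ = φ
    rw [G.map_add, G.map_comp]
    exact (congrArg (G.map ξ + ·) hχ.symm).trans (add_sub_cancel _ _)

lemma bij_obj₃_left {T : Triangle C} (hT : T ∈ distTriang C) {Q : C}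
    (h1 : Bij G T.obj₁ Q) (h2 : Bij G T.obj₂ Q) (h1' : Bij G (T.obj₁⟦(1 : ℤ)⟧) Q)
    (h2' : Bij G (T.obj₂⟦(1 : ℤ)⟧) Q) : Bij G T.obj₃ Q := by
  have hT' := G.map_distinguished T hT
  constructor
  · intro ξ ξ' hξ
    rw [← sub_eq_zero]
    have h0 : G.map (ξ - ξ') = 0 := by rw [G.map_sub, sub_eq_zero]; exact hξ
    have hb : T.mor₂ ≫ (ξ - ξ') = 0 := h2.1 (by change G.map _ = G.map _; rw [G.map_comp, h0, comp_zero, G.map_zero])
    obtain ⟨χ, hχ⟩ := Triangle.yoneda_exact₃ _ hT _ hb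
    obtain ⟨ω, hω⟩ := Triangle.yoneda_exact₃ _ (rot_of_distTriang _ hT')
      ((G.commShiftIso (1 : ℤ)).inv.app _ ≫ G.map χ) (by
        change (G.map T.mor₃ ≫ (G.commShiftIso (1 : ℤ)).hom.app _) ≫ _ ≫ _ = 0
        rw [assoc, Iso.hom_inv_id_app_assoc, ← G.map_comp, ← hχ, h0])
    obtain ⟨ω₀, hω₀⟩ := h2'.2 ((G.commShiftIso (1 : ℤ)).hom.app _ ≫ ω)
    change G.map ω₀ = _ at hω₀
    have : χ = -(T.mor₁⟦(1 : ℤ)⟧' ≫ ω₀) := h1'.1 (by
      change G.map χ = G.map _
      rw [G.map_neg, G.map_comp, hω₀, ← cancel_epi ((G.commShiftIso (1 : ℤ)).inv.app _)]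
      refine hω.trans ?_
      change (-((G.map T.mor₁)⟦(1 : ℤ)⟧')) ≫ ω = _
      simp [G.commShiftIso_hom_naturality_assoc])
    rw [hχ, this, Preadditive.comp_neg, comp_distTriang_mor_zero₃₁_assoc _ hT, zero_comp, neg_zero]
  · intro φ
    obtain ⟨ψ, hψ⟩ := h2.2 (G.map T.mor₂ ≫ φ)
    change G.map ψ = _ at hψ
    have hψ0 : T.mor₁ ≫ ψ = 0 := h1.1 (by
      change G.map _ = G.map _
      rw [G.map_comp, hψ, ← assoc, ← G.map_comp, comp_distTriang_mor_zero₁₂ _ hT, G.map_zero,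
        G.map_zero, zero_comp])
    obtain ⟨ξ, hξ⟩ := Triangle.yoneda_exact₂ _ hT ψ hψ0
    obtain ⟨χ, hχ⟩ := Triangle.yoneda_exact₃ _ hT' (φ - G.map ξ) (by
      change G.map T.mor₂ ≫ (φ - G.map ξ) = 0
      rw [Preadditive.comp_sub, ← G.map_comp, ← hξ, hψ, sub_self])
    obtain ⟨χ₀, hχ₀⟩ := h1'.2 ((G.commShiftIso (1 : ℤ)).hom.app _ ≫ χ)
    change G.map χ₀ = _ at hχ₀
    refine ⟨ξ + T.mor₃ ≫ χ₀, ?_⟩
    change G.map _ = φ
    rw [G.map_add, G.map_comp, hχ₀, ← assoc]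
    exact (congrArg (G.map ξ + ·) hχ.symm).trans (add_sub_cancel _ _)

end General

section Bounded

variable {A : Type u} [Category.{v} A] [Abelian A] [HasDerivedCategory.{w} A]
  {D : Type u'} [Category.{v'} D] [Preadditive D] [HasZeroObject D] [HasShift D ℤ]
  [∀ n : ℤ, (shiftFunctor D n).Additive] [Pretriangulated D]
  {F F' : DerivedCategory.Bounded A ⥤ D} [F.CommShift ℤ] [F.IsTriangulated]
  [F'.CommShift ℤ] [F'.IsTriangulated]

lemma Bij.shift_right {P Q : DerivedCategory.Bounded A} {G : DerivedCategory.Bounded A ⥤ D}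
    [G.CommShift ℤ] (j : ℤ) (h : Bij G (P⟦-j⟧) Q) : Bij G P (Q⟦j⟧) :=
  KFlatLib.Spanning.bijective_map_of_shift G (-j)
    (Bij.congr G h (Iso.refl _) ((shiftFunctorCompIsoId _ j (-j) (by omega)).app Q).symm)

lemma Bij.shift_left {P Q : DerivedCategory.Bounded A} {G : DerivedCategory.Bounded A ⥤ D}
    [G.CommShift ℤ] (j : ℤ) (h : Bij G P (Q⟦-j⟧)) : Bij G (P⟦j⟧) Q :=
  KFlatLib.Spanning.bijective_map_of_shift G (-j)
    (Bij.congr G h ((shiftFunctorCompIsoId _ j (-j) (by omega)).app P).symm (Iso.refl _))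

/-- A functor bijective on morphisms between shifts of objects of the heart is fully faithful. -/
theorem fullFaithful_of_bij_heart (G : DerivedCategory.Bounded A ⥤ D) [G.CommShift ℤ]
    [G.IsTriangulated]
    (h : ∀ (X Y : A) (q : ℤ),
      Bij G (((DEquiv.singleB A).obj X)⟦q⟧) ((DEquiv.singleB A).obj Y)) :
    G.Full ∧ G.Faithful := by
  have st₁ : ∀ (ℓ : ℕ) (L : DerivedCategory.Bounded A), Amp ℓ L → ∀ (X : A) (q : ℤ),
      Bij G (((DEquiv.singleB A).obj X)⟦q⟧) L := by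
    intro ℓ
    induction ℓ with
    | zero =>
      intro L hL X q
      obtain ⟨Y, ⟨φ⟩⟩ := exists_iso_single hL
      exact (h X Y q).congr G (Iso.refl _) φ
    | succ ℓ ih =>
      intro L hL X q
      obtain ⟨N, g, hg⟩ := exists_cover L hL.2
      obtain ⟨L', α, β, hT, hL'⟩ := exists_step hL g hg
      refine bij_obj₃_right hT (ih L' hL' X q) (h X N q) ?_ ?_
      · exact Bij.shift_right 1 ((ih L' hL' X (q + -1)).congr G
          ((shiftFunctorAdd' _ q (-1) (q + -1) rfl).app _) (Iso.refl _))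
      · exact Bij.shift_right 1 ((h X N (q + -1)).congr G
          ((shiftFunctorAdd' _ q (-1) (q + -1) rfl).app _) (Iso.refl _))
  have st₁' : ∀ (X : A) (q : ℤ) (L : DerivedCategory.Bounded A),
      Bij G (((DEquiv.singleB A).obj X)⟦q⟧) L := fun X q L => by
    obtain ⟨m, ℓ, hL⟩ := exists_amp_shift L
    exact KFlatLib.Spanning.bijective_map_of_shift G m
      ((st₁ ℓ _ hL X (q + m)).congr G ((shiftFunctorAdd' _ q m (q + m) rfl).app _) (Iso.refl _))
  have st₂ : ∀ (ℓ : ℕ) (K : DerivedCategory.Bounded A), Amp ℓ K → ∀ L, Bij G K L := by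
    intro ℓ
    induction ℓ with
    | zero =>
      intro K hK L
      obtain ⟨X, ⟨φ⟩⟩ := exists_iso_single hK
      exact (st₁' X 0 L).congr G ((shiftFunctorZero _ ℤ).app _ ≪≫ φ) (Iso.refl _)
    | succ ℓ ih =>
      intro K hK L
      obtain ⟨N, g, hg⟩ := exists_cover K hK.2
      obtain ⟨K', α, β, hT, hK'⟩ := exists_step hK g hg
      exact bij_obj₃_left hT (ih K' hK' L)
        ((st₁' N 0 L).congr G ((shiftFunctorZero _ ℤ).app _) (Iso.refl _))
        (Bij.shift_left 1 (ih K' hK' _)) (st₁' N 1 L)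
  have all : ∀ K L, Bij G K L := fun K L => by
    obtain ⟨m, ℓ, hK⟩ := exists_amp_shift K
    exact KFlatLib.Spanning.bijective_map_of_shift G m (st₂ ℓ _ hK _)
  exact ⟨⟨fun {K L} => (all K L).2⟩, ⟨fun {K L} => @(all K L).1⟩⟩

lemma negVanish_of_fullFaithful [F.Full] [F.Faithful] : NegVanish F := fun X Y q hq f => by
  have := single_hom_shift_eq_zero X Y q hq
    (F.preimage (f ≫ (F.commShiftIso q).inv.app _))
  rw [← cancel_mono ((F.commShiftIso q).inv.app ((DEquiv.singleB A).obj Y)), zero_comp,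
    ← F.map_preimage (f ≫ (F.commShiftIso q).inv.app _), this, F.map_zero]

/-- A sibling of a fully faithful functor is fully faithful. -/
theorem fullFaithful_of_sibling [F.Full] [F.Faithful]
    (η : ∀ X : A, F.obj ((DEquiv.singleB A).obj X) ≅ F'.obj ((DEquiv.singleB A).obj X))
    (hη : ∀ {X Y : A} (h : X ⟶ Y), Agr (η X) (η Y) ((DEquiv.singleB A).map h)) :
    F'.Full ∧ F'.Faithful := by
  refine fullFaithful_of_bij_heart F' fun X Y q => ?_
  let e := Iso.homCongr (sh (F := F) (F' := F') q (η X)) (η Y)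
  have key : (fun f : ((DEquiv.singleB A).obj X)⟦q⟧ ⟶ (DEquiv.singleB A).obj Y => F'.map f) =
      e ∘ (fun f => F.map f) := by
    funext f
    have := agr_hom η hη negVanish_of_fullFaithful X Y q f
    change F.map f ≫ (η Y).hom = (sh q (η X)).hom ≫ F'.map f at this
    simp [e, this]
  unfold Bij
  rw [key]
  exact (Equiv.bijective _).comp ⟨fun a b h => F.map_injective h, F.map_surjective⟩

end Bounded

end Groth.Agent.DEqLib.Sib
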