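import Groth.Agent.DEqLib.Sib.ResProp
import Groth.Agent.DEqLib.Sib.ExtendQS
import Groth.Agent.AmpleVan.Tw
import Groth.Agent.Lib.EffCompl
import Groth.Agent.RegUFD.Basic
import Groth.Agent.SurfInt.DivSection
import Groth.Agent.H23.PullPush

/-! The resolution property of regular schemes with affine diagonal. -/

universe u

open CategoryTheory CategoryTheory.Limits AlgebraicGeometry TopologicalSpace Opposite MonoidalCategory
open scoped TensorProduct

set_option backward.isDefEq.respectTransparency false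
set_option backward.isDefEq.respectTransparency.types false
set_option linter.style.haveILetI false

noncomputable section

namespace Groth.Agent.DEqLib.Sib.RegResProp

open Groth.Agent

attribute [local instance] QCoh.hasFiniteBiproducts

variable {X : Scheme.{u}} {M M' N L : X.Modules}

lemma map_tmul_left' (φ : M ⟶ M') {U : X.Opens} (a : Γ(M, U)) (b : Γ(N, U)) :
    ((AmpleVan.tw N).map φ).app U (InvX.tmul a b) = InvX.tmul (φ.app U a) b := by
  have h := KFlatLib.unitShP_naturality (DCoh.toP.map φ ▷ DCoh.toP.obj N)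
  exact congr(($h).app (op U) (KFlatLib.tm a b)).symm

/-- A frame can be cancelled on the right. -/
theorem eq_zero_of_tmul_frame {U : X.Opens} {e : Γ(N, U)} (he : InvX.IsFrame e) {a : Γ(M, U)}
    (h : InvX.tmul a e = 0) : a = 0 := by
  refine AModX.eq_of_locally _ _ fun x hx => ?_
  let P := CohB1.toPMod M
  let Q := CohB1.toPMod N
  let ga : KFlatLib.stalkMod x P := KFlatLib.germP P U hx a
  let gb : KFlatLib.stalkMod x Q := KFlatLib.germP Q U hx e
  let eb := LinearEquiv.ofBijective (LinearMap.toSpanSingleton (X.presheaf.stalk x) (KFlatLib.stalkMod x Q) gb)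
    (he.germ_bijective hx)
  haveI := KFlatLib.isIso_stalk_unitShP (x := x) (P ⊗ Q)
  let u := (KFlatLib.stalkP x).map (KFlatLib.unitShP (P ⊗ Q))
  have hu : Function.Bijective u.hom := ConcreteCategory.bijective_of_isIso u
  have h1 : u.hom (KFlatLib.tensorStalkEquiv P Q (ga ⊗ₜ gb)) = 0 := by
    have hg : KFlatLib.tensorStalkEquiv P Q (ga ⊗ₜ gb) = KFlatLib.germP (P ⊗ Q) U hx (KFlatLib.tm a e) :=
      KFlatLib.ofTensor_germ U hx a e
    rw [hg]
    refine (KFlatLib.stalkModMap_germ _ U hx _).trans ?_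
    show KFlatLib.germP _ U hx (InvX.tmul a e) = 0
    rw [h]
    exact map_zero _
  have h2 : ga ⊗ₜ[X.presheaf.stalk x] gb = 0 :=
    (KFlatLib.tensorStalkEquiv P Q).injective ((hu.1 (h1.trans (map_zero u.hom).symm)).trans (map_zero _).symm)
  let T := (TensorProduct.congr (LinearEquiv.refl (X.presheaf.stalk x) (KFlatLib.stalkMod x P)) eb).symm.trans
    (TensorProduct.rid _ _)
  have h3 : T (ga ⊗ₜ gb) = ga := by
    have hb : eb.symm gb = 1 := eb.injective (by rw [eb.apply_symm_apply]; exact (one_smul (X.presheaf.stalk x) gb).symm)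
    show TensorProduct.rid _ _ ((TensorProduct.congr (LinearEquiv.refl _ _) eb).symm (ga ⊗ₜ gb)) = ga
    rw [TensorProduct.congr_symm_tmul, hb, TensorProduct.rid_tmul, one_smul]
    rfl
  rw [h2, map_zero] at h3
  have h4 : M.presheaf.germ U x hx a = M.presheaf.germ U x hx 0 := by
    rw [map_zero]; exact h3.symm
  obtain ⟨W, hW, i, j, hij⟩ := TopCat.Presheaf.germ_eq (C := AddCommGrpCat.{u}) M.presheaf x hx hx _ _ h4
  exact ⟨W, i.le, hW, hij⟩

/-- Dense affine neighbourhoods. -/
theorem exists_dense_affine [IsNoetherian X] (x : X) :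
    ∃ U : X.Opens, IsAffineOpen U ∧ x ∈ U ∧ Dense (U : Set X) := by
  suffices key : ∀ U : X.Opens, IsAffineOpen U → x ∈ U →
      ∃ V : X.Opens, IsAffineOpen V ∧ x ∈ V ∧ Dense (V : Set X) by
    obtain ⟨_, ⟨U, hU, rfl⟩, hxU, -⟩ :=
      X.isBasis_affineOpens.exists_subset_of_mem_open (Set.mem_univ x) isOpen_univ
    exact key U hU hxU
  intro U
  induction U using WellFoundedGT.induction with
  | _ U ih =>
    intro hU hxU
    by_cases hd : Dense (U : Set X)
    · exact ⟨U, hU, hxU, hd⟩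
    rw [dense_iff_inter_open] at hd
    push Not at hd
    obtain ⟨O, hO, ⟨y, hy⟩, hOU⟩ := hd
    obtain ⟨_, ⟨V, hV, rfl⟩, hyV, hVO⟩ := X.isBasis_affineOpens.exists_subset_of_mem_open hy hO
    have hdisj : Disjoint U V := disjoint_iff.2 (Opens.ext (Set.eq_empty_of_forall_notMem fun z hz =>
      Set.eq_empty_iff_forall_notMem.1 hOU z ⟨hVO hz.2, hz.1⟩))
    refine ih (U ⊔ V) (lt_of_le_of_ne le_sup_left fun h => ?_) (hU.sup_of_disjoint hV hdisj)
      ((le_sup_left : U ≤ U ⊔ V) hxU)
    exact Set.eq_empty_iff_forall_notMem.1 hOU y ⟨hy, h.symm ▸ (le_sup_right : V ≤ U ⊔ V) hyV⟩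

variable (X) in
/-- Twists by boundary divisors give the resolution property. -/
theorem hasResolutionProperty [CompactSpace X] [IsLocallyNoetherian X]
    (hreg : ∀ x : X, IsRegularLocalRing (X.presheaf.stalk x))
    (hdiag : ∀ U V : X.Opens, IsAffineOpen U → IsAffineOpen V → IsAffineOpen (U ⊓ V)) :
    PerfAux.HasResolutionProperty X := by
  classical
  haveI : IsNoetherian X := {}
  have hufd : ∀ x : X, IsDomain (X.presheaf.stalk x) ∧ UniqueFactorizationMonoid (X.presheaf.stalk x) :=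
    fun x => by haveI := hreg x; exact RegUFD.ufd _
  intro M hM hft
  have step : ∀ x : X, ∃ (U : X.Opens) (_ : IsAffineOpen U) (_ : x ∈ U) (E : X.Modules) (ψ : E ⟶ M),
      FlatMod.IsFinLocFree E ∧ ∀ (Q : X.Modules) (g : M ⟶ Q), ψ ≫ g = 0 → ∀ t, g.app U t = 0 := by
    intro x
    obtain ⟨U, hU, hxU, hd⟩ := exists_dense_affine x
    obtain ⟨D, hD, hDU⟩ := EffCompl.exists_effCartier_compl X hdiag U hU hd fun y _ => hufd y
    obtain ⟨L, hL, ⟨e₀⟩⟩ := H23.PicInv.exists_inverse (SurfInt.isInvertible_idealMod hD)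
    obtain ⟨c₀⟩ := H23.PicMul.comm L (ClSub.idealMod D)
    obtain ⟨σ, hσ⟩ := SurfInt.exists_divisor_section D hD hL ⟨c₀ ≪≫ e₀⟩
    let s := InvX.ofSect σ
    have hG : CohB1.genLocus L s = U := by
      rw [AmpleX.genLocus_eq_locus, InvX.one_ofSect]
      refine Opens.ext (Set.ext fun y => (hσ y).trans ?_)
      rw [← SetLike.mem_coe, hDU]
      exact not_not
    subst hG
    let e := AModX.res L (le_top : CohB1.genLocus L s ≤ ⊤) (InvX.one s)
    have he : InvX.IsFrame e := AmpleX.isFrame_res_of_le (InvX.one s) (AmpleX.genLocus_eq_locus s).le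
    haveI := QCoh.finite_of_isFT hM hft hU
    obtain ⟨S, hS⟩ := Module.Finite.fg_top (R := Γ(X, CohB1.genLocus L s)) (M := Γ(M, CohB1.genLocus L s))
    have one : ∀ t : Γ(M, CohB1.genLocus L s), ∃ (E : X.Modules) (ψ : E ⟶ M), FlatMod.IsFinLocFree E ∧
        ∀ (Q : X.Modules) (g : M ⟶ Q), ψ ≫ g = 0 → g.app _ t = 0 := by
      intro t
      obtain ⟨n, hn⟩ := ExtendQS.exists_extend hM hL s t
      obtain ⟨T, hT⟩ := hn n le_rfl
      let P := CohB1.tensorPow L n
      have hP : PicF.IsInvertible P := InvX.isInvertible_tensorPow hL n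
      obtain ⟨D', hD', ⟨φ⟩⟩ := H23.PicInv.exists_inverse hP
      let η : AmpleVan.tw P ⋙ AmpleVan.tw D' ≅ 𝟭 X.Modules :=
        AmpleVan.twComp P D' ≪≫ (DCoh.tensorBi (X := X)).flip.mapIso φ ≪≫ AmpleVan.twUnit
      let T' : Coh.structureModule X ⟶ (AmpleVan.tw P).obj M := InvX.ofSect T
      refine ⟨(AmpleVan.tw D').obj (Coh.structureModule X), (AmpleVan.tw D').map T' ≫ η.hom.app M,
        H23.PullPush.isFinLocFree_of_isInvertible
          (InvX.isInvertible_tensorMod InvX.isInvertible_structureModule hD'), fun Q g hg => ?_⟩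
      haveI := AmpleVan.isEquivalence_tw hD'
      have h1 : T' ≫ (AmpleVan.tw P).map g = 0 := by
        apply (AmpleVan.tw D').map_injective
        rw [Functor.map_comp, Functor.map_zero, ← cancel_mono (η.hom.app Q), zero_comp, Category.assoc]
        exact (congrArg ((AmpleVan.tw D').map T' ≫ ·) (η.hom.naturality g)).trans
          ((Category.assoc _ _ _).symm.trans hg)
      have h2 : ((AmpleVan.tw P).map g).app ⊤ T = 0 := by
        rw [← InvX.one_ofSect T]
        exact congr(($h1).app ⊤ (1 : Γ(X, ⊤)))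
      refine eq_zero_of_tmul_frame (AmpleX.isFrame_powElt he n) ?_
      refine (map_tmul_left' g t _).symm.trans ?_
      refine (congrArg (((AmpleVan.tw P).map g).app _) hT).symm.trans ?_
      refine (AModX.app_res ((AmpleVan.tw P).map g) le_top T).trans ?_
      rw [h2, map_zero]
    choose E ψ hE hψ using one
    have fold : ∀ S : Finset Γ(M, CohB1.genLocus L s), ∃ (E' : X.Modules) (ψ' : E' ⟶ M),
        FlatMod.IsFinLocFree E' ∧ ∀ t ∈ S, ∀ (Q : X.Modules) (g : M ⟶ Q), ψ' ≫ g = 0 → g.app _ t = 0 := by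
      intro S
      induction S using Finset.induction_on with
      | empty => exact ⟨FlatMod.freeMod X 0, 0, ResProp.isFinLocFree_freeMod 0, by simp⟩
      | insert a S _ ih =>
        obtain ⟨E', ψ', hE', h⟩ := ih
        refine ⟨E a ⊞ E', biprod.desc (ψ a) ψ', KFlatLib.isFinLocFree_biprod (hE a) hE', fun t ht Q g hg => ?_⟩
        rcases Finset.mem_insert.1 ht with rfl | ht
        · exact hψ t Q g (by rw [← biprod.inl_desc (ψ t) ψ', Category.assoc, hg, comp_zero])
        · exact h t ht Q g (by rw [← biprod.inr_desc (ψ a) ψ', Category.assoc, hg, comp_zero])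
    obtain ⟨E', ψ', hE', hψ'⟩ := fold S
    refine ⟨_, hU, hxU, E', ψ', hE', fun Q g hg t => ?_⟩
    have ht : t ∈ Submodule.span Γ(X, CohB1.genLocus L s) (S : Set Γ(M, CohB1.genLocus L s)) := by
      rw [hS]; trivial
    induction ht using Submodule.span_induction with
    | mem y hy => exact hψ' y hy Q g hg
    | zero => exact map_zero _
    | add a b _ _ ha hb => rw [map_add, ha, hb, add_zero]
    | smul r a _ ha => rw [Scheme.Modules.Hom.app_smul, ha, smul_zero]
  choose U hU hxU E ψ hE hψ using step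
  obtain ⟨c, hc⟩ := isCompact_univ.elim_finite_subcover (fun x => (U x : Set X)) (fun x => (U x).2)
    (fun x _ => Set.mem_iUnion.2 ⟨x, hxU x⟩)
  have fold : ∀ c : Finset X, ∃ (E' : X.Modules) (ψ' : E' ⟶ M),
      FlatMod.IsFinLocFree E' ∧ ∀ x ∈ c, ∀ (Q : X.Modules) (g : M ⟶ Q), ψ' ≫ g = 0 → ψ x ≫ g = 0 := by
    intro c
    induction c using Finset.induction_on with
    | empty => exact ⟨FlatMod.freeMod X 0, 0, ResProp.isFinLocFree_freeMod 0, by simp⟩
    | insert a S _ ih =>
      obtain ⟨E', ψ', hE', h⟩ := ih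
      refine ⟨E a ⊞ E', biprod.desc (ψ a) ψ', KFlatLib.isFinLocFree_biprod (hE a) hE', fun t ht Q g hg => ?_⟩
      rcases Finset.mem_insert.1 ht with rfl | ht
      · rw [← biprod.inl_desc (ψ t) ψ', Category.assoc, hg, comp_zero]
      · exact h t ht Q g (by rw [← biprod.inr_desc (ψ a) ψ', Category.assoc, hg, comp_zero])
  obtain ⟨E', ψ', hE', hψ'⟩ := fold c
  refine ⟨E', ψ', hE', Preadditive.epi_of_cancel_zero _ fun {Q} g hg => ?_⟩
  refine ResProp.eq_zero_of_affine_cover hM g (fun x : c => U x.1) (fun x => hU _) (fun z => ?_)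
    fun x t => hψ _ Q g (hψ' x.1 x.2 Q g hg) t
  obtain ⟨x, hxc, hz⟩ := Set.mem_iUnion₂.1 (hc (Set.mem_univ z))
  exact ⟨⟨x, hxc⟩, hz⟩

end Groth.Agent.DEqLib.Sib.RegResProp
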