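import Groth.Agent.DEqLib.Sib.ResProp
import Groth.Agent.DEqLib.Sib.RegResProp
import Groth.Agent.S1005
import Groth.Agent.S1011
import Groth.Agent.S1535
import Groth.Agent.QCoh.DevissageP
import Mathlib.CategoryTheory.Triangulated.Generators
import Mathlib.Algebra.Homology.DerivedCategory.SingleTriangle

/-! The diagonal lies in the envelope of a box product. -/

universe u

open CategoryTheory CategoryTheory.Limits CategoryTheory.Pretriangulated AlgebraicGeometry

set_option backward.isDefEq.respectTransparency false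
set_option linter.style.haveILetI false

attribute [local instance] HasDerivedCategory.standard

noncomputable section

namespace Groth.Agent.DEqLib.Sib.DiagEnv

open Groth.Agent

attribute [local instance] QCoh.hasFiniteBiproducts

variable {Z : Scheme.{u}}

/-- The objects up to which finitely many steps of a resolution build `M`. -/
theorem exists_step {𝒯 : ObjectProperty (DCoh.D Z)} [𝒯.IsTriangulated] {S : ShortComplex Z.Modules}
    (hS : S.ShortExact) (hB : 𝒯 (DCoh.inD Z S.X₂)) :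
    ∃ h : DCoh.inD Z S.X₃ ⟶ (DCoh.inD Z S.X₁)⟦(1 : ℤ)⟧, 𝒯.trW h :=
  ⟨hS.singleTriangle.mor₃, ObjectProperty.trW.mk _
    (rot_of_distTriang _ (rot_of_distTriang _ hS.singleTriangle_distinguished))
    (𝒯.le_shift (1 : ℤ) _ hB)⟩

/-- If the composite of the connecting maps vanishes, the first object lies in the subcategory. -/
theorem mem_of_trW_zero {𝒯 : ObjectProperty (DCoh.D Z)} [𝒯.IsTriangulated] [𝒯.IsStableUnderRetracts]
    {A B : DCoh.D Z} (h : 𝒯.trW (0 : A ⟶ B)) : 𝒯 A := by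
  obtain ⟨C, g, t, hT, hC⟩ := h
  haveI : Epi t := Triangle.epi₃ _ hT rfl
  haveI := isSplitEpi_of_epi t
  have h1 : 𝒯 (A⟦(1 : ℤ)⟧) := 𝒯.prop_of_retract ⟨section_ t, t, IsSplitEpi.id t⟩ hC
  exact 𝒯.prop_of_iso ((shiftFunctorCompIsoId (DCoh.D Z) (1 : ℤ) (-1) (by omega)).app A)
    (𝒯.le_shift (-1 : ℤ) _ h1)

/-- Box products of summands are summands of box products. -/
theorem nonempty_retract_box {X : Scheme.{u}} (q₁ q₂ : Z ⟶ X) {E E' G G' : X.Modules}
    (rE : Retract E E') (rG : Retract G G') :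
    Nonempty (Retract (CohB1.tensorMod ((Scheme.Modules.pullback q₁).obj E) ((Scheme.Modules.pullback q₂).obj G))
      (CohB1.tensorMod ((Scheme.Modules.pullback q₁).obj E') ((Scheme.Modules.pullback q₂).obj G'))) :=
  ⟨{ i := ResProp.tm ((Scheme.Modules.pullback q₁).map rE.i) ((Scheme.Modules.pullback q₂).map rG.i)
     r := ResProp.tm ((Scheme.Modules.pullback q₁).map rE.r) ((Scheme.Modules.pullback q₂).map rG.r)
     retract := by
      refine (ResProp.tm_comp _ _ _ _).trans ?_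
      rw [← Functor.map_comp, ← Functor.map_comp, rE.retract, rG.retract, CategoryTheory.Functor.map_id,
        CategoryTheory.Functor.map_id]
      exact ResProp.tm_id _ _ }⟩

/-- Finitely many steps of a resolution by box products. -/
theorem exists_chain {X : Scheme.{u}} [IsNoetherian Z] (q₁ q₂ : Z ⟶ X)
    (hsurj : ∀ F : Z.Modules, Coh.IsCoh F → ∃ (E G : X.Modules), FlatMod.IsFinLocFree E ∧ FlatMod.IsFinLocFree G ∧
      ∃ π : CohB1.tensorMod ((Scheme.Modules.pullback q₁).obj E) ((Scheme.Modules.pullback q₂).obj G) ⟶ F, Epi π)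
    (M : Z.Modules) (hM : Coh.IsCoh M) (N : ℕ) :
    ∃ (E G : X.Modules) (R : Z.Modules), FlatMod.IsFinLocFree E ∧ FlatMod.IsFinLocFree G ∧ Coh.IsCoh R ∧
      ∃ δ : DCoh.inD Z M ⟶ (DCoh.inD Z R)⟦(N : ℤ)⟧,
        (ObjectProperty.ofObj (fun _ : PUnit.{u + 1} => DCoh.inD Z
          (CohB1.tensorMod ((Scheme.Modules.pullback q₁).obj E) ((Scheme.Modules.pullback q₂).obj G)))).triangEnvelope.trW δ := by
  classical
  have hcoh : ∀ {N : Z.Modules}, FlatMod.IsFinLocFree N → Coh.IsCoh N := fun h =>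
    QCoh.isCoh_iff_isFP.2 (QCoh.isFP_of_isFinLocFree h)
  choose Ef Gf hEf hGf π hπ using hsurj
  let K : ℕ → {N : Z.Modules // Coh.IsCoh N} := Nat.rec ⟨M, hM⟩ fun _ N => ⟨kernel (π N.1 N.2),
    QCoh.isCoh_kernel (hcoh (KFlatLib.isFinLocFree_tensor (KFlatLib.isFinLocFree_pullback _ (hEf N.1 N.2))
      (KFlatLib.isFinLocFree_pullback _ (hGf N.1 N.2)))) N.2 (π N.1 N.2)⟩
  have hbig : ∀ n, ∃ (E G : X.Modules), FlatMod.IsFinLocFree E ∧ FlatMod.IsFinLocFree G ∧
      ∀ i < n, Nonempty (Retract (Ef (K i).1 (K i).2) E) ∧ Nonempty (Retract (Gf (K i).1 (K i).2) G) := by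
    intro n
    induction n with
    | zero => exact ⟨FlatMod.freeMod X 0, FlatMod.freeMod X 0, ResProp.isFinLocFree_freeMod 0,
        ResProp.isFinLocFree_freeMod 0, fun i hi => absurd hi (Nat.not_lt_zero i)⟩
    | succ n ih =>
      obtain ⟨E, G, hE, hG, h⟩ := ih
      refine ⟨E ⊞ Ef (K n).1 (K n).2, G ⊞ Gf (K n).1 (K n).2, KFlatLib.isFinLocFree_biprod hE (hEf _ _),
        KFlatLib.isFinLocFree_biprod hG (hGf _ _), fun i hi => ?_⟩
      rcases Nat.lt_succ_iff_lt_or_eq.1 hi with hi | rfl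
      · obtain ⟨⟨r⟩, ⟨r'⟩⟩ := h i hi
        exact ⟨⟨r.trans ⟨biprod.inl, biprod.fst, biprod.inl_fst⟩⟩, ⟨r'.trans ⟨biprod.inl, biprod.fst, biprod.inl_fst⟩⟩⟩
      · exact ⟨⟨⟨biprod.inr, biprod.snd, biprod.inr_snd⟩⟩, ⟨⟨biprod.inr, biprod.snd, biprod.inr_snd⟩⟩⟩
  obtain ⟨E, G, hE, hG, hret⟩ := hbig N
  refine ⟨E, G, (K N).1, hE, hG, (K N).2, ?_⟩
  let P := ObjectProperty.ofObj (fun _ : PUnit.{u + 1} => DCoh.inD Z
        (CohB1.tensorMod ((Scheme.Modules.pullback q₁).obj E) ((Scheme.Modules.pullback q₂).obj G)))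
  haveI : P.Nonempty := ⟨⟨_, ObjectProperty.ofObj_apply (fun _ : PUnit.{u + 1} => _) PUnit.unit⟩⟩
  let 𝒯 := P.triangEnvelope
  have hchain : ∀ n ≤ N, ∃ δ : DCoh.inD Z M ⟶ (DCoh.inD Z (K n).1)⟦(n : ℤ)⟧, 𝒯.trW δ := by
    intro n hn
    induction n with
    | zero => exact ⟨(shiftFunctorZero (DCoh.D Z) ℤ).inv.app _, 𝒯.trW_of_isIso _⟩
    | succ n ih =>
      obtain ⟨δ, hδ⟩ := ih (by omega)
      obtain ⟨⟨r⟩, ⟨r'⟩⟩ := hret n (by omega)
      obtain ⟨R⟩ := nonempty_retract_box q₁ q₂ r r'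
      have hB : 𝒯 (DCoh.inD Z (CohB1.tensorMod ((Scheme.Modules.pullback q₁).obj (Ef (K n).1 (K n).2))
          ((Scheme.Modules.pullback q₂).obj (Gf (K n).1 (K n).2)))) :=
        𝒯.prop_of_retract (R.map (DerivedCategory.singleFunctor Z.Modules 0))
          (P.le_triangEnvelope _ (ObjectProperty.ofObj_apply (fun _ : PUnit.{u + 1} => _) PUnit.unit))
      haveI := hπ (K n).1 (K n).2
      let S : ShortComplex Z.Modules := ShortComplex.mk (kernel.ι (π (K n).1 (K n).2)) (π (K n).1 (K n).2)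
        (kernel.condition _)
      have hS : S.ShortExact :=
        { exact := ShortComplex.exact_of_f_is_kernel _ (kernelIsKernel _)
          mono_f := inferInstanceAs (Mono (kernel.ι _))
          epi_g := hπ _ _ }
      obtain ⟨h, hh⟩ := exists_step (𝒯 := 𝒯) hS hB
      refine ⟨δ ≫ h⟦(n : ℤ)⟧' ≫ ((shiftFunctorAdd' (DCoh.D Z) (1 : ℤ) (n : ℤ) ((n + 1 : ℕ) : ℤ) (by omega)).app
        (DCoh.inD Z (K (n + 1)).1)).inv, 𝒯.trW.comp_mem _ _ hδ (𝒯.trW.comp_mem _ _
          (MorphismProperty.shift _ hh (n : ℤ)) (𝒯.trW_of_isIso _))⟩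
  obtain ⟨δ, hδ⟩ := hchain N le_rfl
  exact ⟨δ, hδ⟩

/-- A perfect coherent module is in the envelope of one box product, given box product surjections. -/
theorem exists_envelope {X : Scheme.{u}} [IsNoetherian Z] (q₁ q₂ : Z ⟶ X)
    (hsurj : ∀ F : Z.Modules, Coh.IsCoh F → ∃ (E G : X.Modules), FlatMod.IsFinLocFree E ∧ FlatMod.IsFinLocFree G ∧
      ∃ π : CohB1.tensorMod ((Scheme.Modules.pullback q₁).obj E) ((Scheme.Modules.pullback q₂).obj G) ⟶ F, Epi π)
    (M : Z.Modules) (hM : Coh.IsCoh M) (hP : DCoh.IsPerfect (DCoh.inD Z M)) :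
    ∃ (E G : X.Modules), FlatMod.IsFinLocFree E ∧ FlatMod.IsFinLocFree G ∧
      ObjectProperty.triangEnvelope (ObjectProperty.ofObj (fun _ : PUnit.{u + 1} => DCoh.inD Z
        (CohB1.tensorMod ((Scheme.Modules.pullback q₁).obj E) ((Scheme.Modules.pullback q₂).obj G))))
        (DCoh.inD Z M) := by
  obtain ⟨a, b, hab, hvan⟩ := (Groth.Agent.S1011.result Z (DCoh.inD Z M) hP).1
  let N : ℕ := (-a).toNat + 1
  obtain ⟨E, G, R, hE, hG, hR, δ, hδ⟩ := exists_chain q₁ q₂ hsurj M hM N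
  refine ⟨E, G, hE, hG, ?_⟩
  have hz : δ = 0 := by
    let L := (DCoh.inD Z R)⟦(N : ℤ)⟧
    have hvanL : ∀ i : ℤ, i ≠ -(N : ℤ) → IsZero (DCoh.HD L i) := fun i hi => by
      refine IsZero.of_iso ?_ (((DerivedCategory.homologyFunctor Z.Modules 0).shiftIso (N : ℤ) i ((N : ℤ) + i) rfl).app
        (DCoh.inD Z R))
      rcases lt_or_gt_of_ne (show (N : ℤ) + i ≠ 0 by omega) with h | h
      · exact (DCoh.inD Z R).isZero_of_isGE 0 _ h
      · exact (DCoh.inD Z R).isZero_of_isLE 0 _ h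
    refine hvan L (fun i => ?_) (fun i hi hi' => hvanL i (by omega)) δ
    by_cases hi : i = -(N : ℤ)
    · exact KFlatLib.isQCoh_of_iso (((DerivedCategory.singleFunctorCompHomologyFunctorIso Z.Modules 0).app R).symm ≪≫
        (((DerivedCategory.homologyFunctor Z.Modules 0).shiftIso (N : ℤ) i 0 (by omega)).app
          (DCoh.inD Z R)).symm) hR.1
    · exact QCoh.isQCoh_of_isZero (hvanL i hi)
  subst hz
  exact mem_of_trW_zero hδ

/-- The diagonal of a smooth separated scheme is in the envelope of a box product. -/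
theorem exists_diag (k : Type u) [Field k] (X : Scheme.{u}) [X.Over (Spec (.of k))] [CompactSpace X]
    [IsSeparated (X ↘ Spec (.of k))] [Smooth (X ↘ Spec (.of k))] :
    ∃ (E G : X.Modules), FlatMod.IsFinLocFree E ∧ FlatMod.IsFinLocFree G ∧
      ObjectProperty.triangEnvelope
        (ObjectProperty.ofObj (fun _ : PUnit.{u + 1} => DCoh.inD (pullback (X ↘ Spec (.of k)) (X ↘ Spec (.of k))) (CohB1.tensorMod ((Scheme.Modules.pullback (pullback.fst (X ↘ Spec (.of k)) (X ↘ Spec (.of k)))).obj E)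
            ((Scheme.Modules.pullback (pullback.snd (X ↘ Spec (.of k)) (X ↘ Spec (.of k)))).obj G))))
        (DCoh.inD (pullback (X ↘ Spec (.of k)) (X ↘ Spec (.of k))) ((Coh.push (pullback.diagonal (X ↘ Spec (.of k)))).obj (Coh.structureModule X))) := by
  let s := X ↘ Spec (.of k)
  let Z := pullback s s
  haveI : X.IsSeparated := ⟨by rw [← terminal.comp_from s]; infer_instance⟩
  haveI : QuasiCompact s := (quasiCompact_iff_compactSpace s).2 ‹_›
  haveI : IsLocallyNoetherian X := LocallyOfFiniteType.isLocallyNoetherian s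
  haveI : IsLocallyNoetherian Z := LocallyOfFiniteType.isLocallyNoetherian (pullback.fst s s ≫ s)
  haveI : CompactSpace Z := (quasiCompact_iff_compactSpace (pullback.fst s s ≫ s)).1 inferInstance
  haveI : IsNoetherian Z := {}
  haveI : QuasiSeparatedSpace X := inferInstance
  have hregX : ∀ x : X, IsRegularLocalRing (X.presheaf.stalk x) := Groth.Agent.S1535.result k X
  letI : Z.Over (Spec (.of k)) := ⟨pullback.fst s s ≫ s⟩
  haveI : Smooth (Z ↘ Spec (.of k)) := inferInstanceAs (Smooth (pullback.fst s s ≫ s))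
  have hregZ : ∀ z : Z, IsRegularLocalRing (Z.presheaf.stalk z) := Groth.Agent.S1535.result k Z
  have hX := RegResProp.hasResolutionProperty X hregX fun U V hU hV => hU.inf hV
  have haff : ∀ W : X.Opens, IsAffineOpen W →
      IsAffineHom ((pullback.fst s s ⁻¹ᵁ W).ι ≫ pullback.snd s s) := fun W hW => by
    have h1 : IsPullback ((pullback.fst s s ⁻¹ᵁ W).ι ≫ pullback.snd s s) (pullback.fst s s ∣_ W) s
        (W.ι ≫ s) :=
      (isPullback_morphismRestrict (pullback.fst s s) W).flip.paste_horiz (IsPullback.of_hasPullback _ _).flip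
    haveI : IsAffine (W : Scheme.{u}) := hW
    exact MorphismProperty.of_isPullback h1.flip inferInstance
  have hD : Coh.IsCoh ((Coh.push (pullback.diagonal s)).obj (Coh.structureModule X)) :=
    QCoh.isCoh_pushforward_finite _ QCoh.isCoh_structureModule'
  refine exists_envelope (pullback.fst s s) (pullback.snd s s)
    (fun F hF => ResProp.exists_box_surjection hX hX haff hF.1 hF.2) _ hD ?_
  refine Groth.Agent.S1005.result Z hregZ _ 0 0 fun i => ?_
  rcases eq_or_ne i 0 with rfl | hi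
  · exact KFlatLib.isCoh_of_iso ((DerivedCategory.singleFunctorCompHomologyFunctorIso Z.Modules 0).app _).symm hD
  · refine KFlatLib.isCoh_of_isZero ?_
    rcases lt_or_gt_of_ne hi with h | h
    · exact (DCoh.inD Z _).isZero_of_isGE 0 i h
    · exact (DCoh.inD Z _).isZero_of_isLE 0 i h

end Groth.Agent.DEqLib.Sib.DiagEnv
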