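import Groth.Agent.KFlatLib.Scheme.ProjClosed
import Groth.Agent.KFlatLib.Scheme.AcyclicPush
import Groth.Agent.KFlatLib.Scheme.Adjoint
import Groth.Agent.KFlatLib.Scheme.LpullComp
import Groth.Agent.KFlatLib.Scheme.TensorAssoc
import Groth.Agent.KFlatLib.Scheme.ProjFormula
import Groth.Agent.KFlatLib.SingleIso
import Groth.Prelude.Def_DualFM

/-! The Fourier–Mukai functor of the diagonal. -/

universe u

open CategoryTheory CategoryTheory.Limits AlgebraicGeometry

set_option backward.isDefEq.respectTransparency false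
set_option linter.style.haveILetI false

attribute [local instance] HasDerivedCategory.standard

namespace Groth.Agent.DEqLib.Sib.DiagKernel

open Groth.Agent.KFlatLib

variable {X Y : Scheme.{u}}

theorem hasRpush (f : X ⟶ Y) : DCoh.HasRpush f := by
  haveI := TriCat.qh_isLeftAdjoint_of_exists_resolution (A := X.Modules) exists_kInjective_res
  let adjQ := Adjunction.ofIsLeftAdjoint (DerivedCategory.Qh (C := X.Modules))
  let W := HomotopyCategory.quasiIso X.Modules (ComplexShape.up ℤ)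
  have hd := TriCat.isRightDerivedFunctor_of_adjunction adjQ W (DCoh.pushKh f)
  exact Functor.HasRightDerivedFunctor.mk' (L := DerivedCategory.Qh)
    (DerivedCategory.Qh.rightAdjoint ⋙ DCoh.pushKh f) (Functor.whiskerRight adjQ.unit (DCoh.pushKh f)) (W := W)

theorem nonempty_iso_of_res {F G : DCoh.D X ⥤ DCoh.D Y}
    {H : CochainComplex X.Modules ℤ ⥤ DCoh.D Y}
    (e₁ : DerivedCategory.Q ⋙ F ≅ H) (e₂ : DerivedCategory.Q ⋙ G ≅ H) : Nonempty (F ≅ G) :=
  ⟨Localization.liftNatIso DerivedCategory.Q (qisX X) (DerivedCategory.Q ⋙ F) (DerivedCategory.Q ⋙ G)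
    _ _ (e₁ ≪≫ e₂.symm)⟩

theorem nonempty_lpull_id [DCoh.HasLpull (𝟙 X)] : Nonempty (DCoh.Lpull (𝟙 X) ≅ 𝟭 (DCoh.D X)) :=
  nonempty_iso_of_res (lpullResIso _ ≪≫ Functor.isoWhiskerLeft (kRes X)
      (Functor.isoWhiskerRight (NatIso.mapHomologicalComplex (Scheme.Modules.pullbackId X) (ComplexShape.up ℤ) ≪≫
        Functor.mapHomologicalComplexIdIso X.Modules (ComplexShape.up ℤ)) _ ≪≫ Functor.leftUnitor _) ≪≫
      resQIso X)
    (Functor.rightUnitor _)

theorem nonempty_rpush_id [DCoh.HasRpush (𝟙 X)] : Nonempty (DCoh.Rpush (𝟙 X) ≅ 𝟭 (DCoh.D X)) := by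
  haveI := hasLpull (𝟙 X)
  obtain ⟨a⟩ := nonempty_lpull_rpush_adj (𝟙 X)
  obtain ⟨e⟩ := nonempty_lpull_id (X := X)
  exact ⟨(a.ofNatIsoLeft e).rightAdjointUniq Adjunction.id⟩

/-- `- ⊗^L E` on a resolution. -/
noncomputable def ltcResIso (E : CochainComplex X.Modules ℤ) [DCoh.HasLTensorCx E] :
    DerivedCategory.Q ⋙ DCoh.LTensorCx E ≅ kRes X ⋙ DCoh.tensorCxQ E :=
  let c := (DCoh.tensorCxQ E).totalLeftDerivedCounit DerivedCategory.Q (qisX X)
  haveI : ∀ K, IsIso ((Functor.whiskerLeft (kRes X) c).app K) :=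
    fun K => isIso_LTensorCx_counit E (isKFlat_kRes K)
  haveI := NatIso.isIso_of_isIso_app (Functor.whiskerLeft (kRes X) c)
  Functor.isoWhiskerRight (resQIso X).symm _ ≪≫ Functor.associator _ _ _ ≪≫
    asIso (Functor.whiskerLeft (kRes X) c)

variable (f : X ⟶ Y) [IsClosedImmersion f]

/-- `f_* O ⊗ N ≅ f_* f^* N` along a closed immersion, in the variable `N`. -/
theorem nonempty_tensor_push_structure :
    Nonempty (DCoh.tensorBi.flip.obj ((Scheme.Modules.pushforward f).obj (Coh.structureModule X)) ≅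
      Scheme.Modules.pullback f ⋙ Scheme.Modules.pushforward f) := by
  let O := Coh.structureModule X
  let A := (Scheme.Modules.pushforward f).obj O
  let η : DCoh.tensorBi.obj A ⟶ Scheme.Modules.pullback f ⋙ DCoh.tensorBi.obj O ⋙ Scheme.Modules.pushforward f :=
    { app := projMod f O, naturality := fun _ _ g => projMod_naturality_right f O g }
  haveI : ∀ N, IsIso (η.app N) := fun N => isIso_projMod_of_isClosedImmersion f O N
  haveI := NatIso.isIso_of_isIso_app η
  exact ⟨(tensorBiFlipIso Y).app A ≪≫ asIso η ≪≫ Functor.isoWhiskerLeft _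
    (Functor.isoWhiskerRight (((tensorBiFlipIso X).app O).symm ≪≫ tensorStructureIso X) _ ≪≫
      Functor.leftUnitor _)⟩

/-- `Rf_*` along a closed immersion, termwise and naturally. -/
theorem isIso_rpushUnit_closed [DCoh.HasRpush f] (C : CochainComplex X.Modules ℤ) :
    IsIso ((rpushUnit f).app C) := by
  haveI : PreservesFiniteColimits (Scheme.Modules.pushforward f) :=
    ⟨fun J _ _ => preservesColimitsOfShape_push f J⟩
  obtain ⟨J, s, hJ, hs⟩ : ∃ (J : CochainComplex X.Modules ℤ) (s : C ⟶ J), J.IsKInjective ∧ QuasiIso s :=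
    exists_kInjective_res C
  haveI := hJ
  haveI := hs
  haveI := isIso_Q_map s hs
  haveI : IsIso (((Scheme.Modules.pushforward f).mapHomologicalComplex (ComplexShape.up ℤ) ⋙
      DerivedCategory.Q).map s) :=
    isIso_Q_map (((Scheme.Modules.pushforward f).mapHomologicalComplex (ComplexShape.up ℤ)).map s) inferInstance
  haveI := isIso_rpushUnit_of_kInjective f J
  haveI : IsIso ((DerivedCategory.Q ⋙ DCoh.Rpush f).map s) :=
    inferInstanceAs (IsIso ((DCoh.Rpush f).map (DerivedCategory.Q.map s)))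
  have w := (rpushUnit f).naturality s
  haveI : IsIso ((rpushUnit f).app C ≫ (DerivedCategory.Q ⋙ DCoh.Rpush f).map s) := by
    rw [← w]; infer_instance
  exact IsIso.of_isIso_comp_right _ ((DerivedCategory.Q ⋙ DCoh.Rpush f).map s)

/-- The projection formula along a closed immersion at the structure module, functorially. -/
theorem nonempty_ltc_push_structure (K : CochainComplex Y.Modules ℤ)
    (hK : Nonempty (DCoh.toD Y K ≅ DCoh.inD Y ((Scheme.Modules.pushforward f).obj (Coh.structureModule X))))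
    [DCoh.HasLTensorCx K] [DCoh.HasLpull f] [DCoh.HasRpush f] :
    Nonempty (DCoh.LTensorCx K ≅ DCoh.Lpull f ⋙ DCoh.Rpush f) := by
  let A := (Scheme.Modules.pushforward f).obj (Coh.structureModule X)
  let E := (HomologicalComplex.single Y.Modules (ComplexShape.up ℤ) 0).obj A
  haveI := hasLTensorCx E
  obtain ⟨e₀⟩ := nonempty_LTensorCx_congr_D (P := K) (E := E) (hK.some ≪≫
    (((SingleFunctors.evaluation _ _ 0).mapIso
      (DerivedCategory.singleFunctorsPostcompQIso Y.Modules)).app A))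
  obtain ⟨t⟩ := nonempty_tensor_push_structure f
  haveI : ∀ C, IsIso ((rpushUnit f).app C) := isIso_rpushUnit_closed f
  haveI := NatIso.isIso_of_isIso_app (rpushUnit f)
  let c : (DCoh.tensorBi.flip.obj A).mapHomologicalComplex (ComplexShape.up ℤ) ≅
      pullCx f ⋙ (Scheme.Modules.pushforward f).mapHomologicalComplex (ComplexShape.up ℤ) :=
    NatIso.mapHomologicalComplex t (ComplexShape.up ℤ) ≪≫
      (Functor.mapHomologicalComplexCompIso (Iso.refl _) (ComplexShape.up ℤ)).symm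
  obtain ⟨e⟩ := nonempty_iso_of_res (F := DCoh.LTensorCx E) (G := DCoh.Lpull f ⋙ DCoh.Rpush f)
    (ltcResIso E ≪≫ Functor.isoWhiskerLeft (kRes Y)
      (Functor.isoWhiskerRight (singleIso DCoh.tensorBi A) DerivedCategory.Q ≪≫
        Functor.isoWhiskerRight c DerivedCategory.Q))
    ((Functor.associator _ _ _).symm ≪≫ Functor.isoWhiskerRight (lpullResIso f) _ ≪≫
      Functor.associator _ _ _ ≪≫ Functor.isoWhiskerLeft _ ((Functor.associator _ _ _) ≪≫
        Functor.isoWhiskerLeft _ (asIso (rpushUnit f)).symm ≪≫ (Functor.associator _ _ _).symm))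
  exact ⟨e₀ ≪≫ e⟩

/-- The kernel `Δ_* O` gives the identity. -/
theorem phi_diag {S : Scheme.{u}} (a : X ⟶ S) [IsSeparated a]
    (K : CochainComplex (Limits.pullback a a).Modules ℤ) (hK : Nonempty (DCoh.toD _ K ≅ FMK.diagO a))
    [DCoh.HasLpull (Limits.pullback.fst a a)] [DCoh.HasLTensorCx K] [DCoh.HasRpush (Limits.pullback.snd a a)] :
    Nonempty (FMK.phi a a K ≅ 𝟭 (DCoh.D X)) := by
  let p := Limits.pullback.fst a a
  let q := Limits.pullback.snd a a
  let Δ := pullback.diagonal a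
  haveI : IsClosedImmersion Δ := inferInstance
  haveI := hasLpull Δ
  haveI := hasRpush Δ
  haveI := hasLpull (𝟙 X)
  haveI := hasRpush (𝟙 X)
  have hp : Δ ≫ p = 𝟙 X := pullback.diagonal_fst a
  have hq : Δ ≫ q = 𝟙 X := pullback.diagonal_snd a
  haveI : DCoh.HasLpull (Δ ≫ p) := hasLpull _
  haveI : DCoh.HasRpush (Δ ≫ q) := hasRpush _
  obtain ⟨e⟩ := nonempty_ltc_push_structure Δ K hK
  obtain ⟨l⟩ := nonempty_lpull_comp Δ p
  obtain ⟨r⟩ := nonempty_rpush_comp Δ q
  obtain ⟨l'⟩ : Nonempty (DCoh.Lpull (Δ ≫ p) ≅ 𝟭 (DCoh.D X)) := by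
    obtain ⟨i⟩ := nonempty_lpull_id (X := X)
    revert l; simp only [hp]
    exact fun _ => ⟨i⟩
  obtain ⟨r'⟩ : Nonempty (DCoh.Rpush (Δ ≫ q) ≅ 𝟭 (DCoh.D X)) := by
    obtain ⟨i⟩ := nonempty_rpush_id (X := X)
    revert r; simp only [hq]
    exact fun _ => ⟨i⟩
  exact ⟨Functor.isoWhiskerLeft _ (Functor.isoWhiskerRight e _ ≪≫ Functor.associator _ _ _ ≪≫
      Functor.isoWhiskerLeft _ (r ≪≫ r') ≪≫ Functor.rightUnitor _) ≪≫ l ≪≫ l'⟩

end Groth.Agent.DEqLib.Sib.DiagKernel
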