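import Groth.Agent.KFlatLib.Scheme.ProjPerfect
import Groth.Agent.KFlatLib.Scheme.RGammaPush
import Groth.Agent.KFlatLib.Scheme.TensorAssoc
import Groth.Agent.KFlatLib.Scheme.PullTensorCx
import Groth.Agent.KFlatLib.Scheme.ProjFormula

/-! Exchange of the two variables in hypercohomology of integral transforms. -/

universe u

open CategoryTheory CategoryTheory.Limits AlgebraicGeometry

set_option backward.isDefEq.respectTransparency false
set_option linter.style.haveILetI false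

attribute [local instance] HasDerivedCategory.standard

namespace Groth.Agent.DEqLib.Sib.Exchange

open Groth.Agent.KFlatLib

variable {X Y Z : Scheme.{u}}

theorem hasRΓ (X : Scheme.{u}) : DCoh.HasRΓ X := by
  haveI := TriCat.qh_isLeftAdjoint_of_exists_resolution (A := X.Modules) exists_kInjective_res
  let adjQ := Adjunction.ofIsLeftAdjoint (DerivedCategory.Qh (C := X.Modules))
  let W := HomotopyCategory.quasiIso X.Modules (ComplexShape.up ℤ)
  have hd := TriCat.isRightDerivedFunctor_of_adjunction adjQ W (DCoh.gammaKh X)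
  exact Functor.HasRightDerivedFunctor.mk' (L := DerivedCategory.Qh)
    (DerivedCategory.Qh.rightAdjoint ⋙ DCoh.gammaKh X) (Functor.whiskerRight adjQ.unit (DCoh.gammaKh X)) (W := W)

noncomputable def commCx (A B : CochainComplex X.Modules ℤ) :
    (DCoh.tensorCx.obj A).obj B ≅ (DCoh.tensorCx.obj B).obj A :=
  (symmIso (tensorBiFlipIso X) B).app A

/-- `(A ⊗ P) ⊗ B ≅ (B ⊗ P) ⊗ A`. -/
noncomputable def swapCx (A P B : CochainComplex X.Modules ℤ) :
    (DCoh.tensorCx.obj ((DCoh.tensorCx.obj A).obj P)).obj B ≅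
      (DCoh.tensorCx.obj ((DCoh.tensorCx.obj B).obj P)).obj A :=
  commCx _ B ≪≫ (tensorCxAssocIso B A P).symm ≪≫
    (DCoh.tensorCx.mapIso (commCx B A)).app P ≪≫ tensorCxAssocIso A B P ≪≫ commCx A _

/-- One half. -/
theorem nonempty_half (p : Z ⟶ X) (q : Z ⟶ Y) (P : CochainComplex Z.Modules ℤ)
    [DCoh.HasLpull q] [DCoh.HasLTensorCx P] [DCoh.HasRpush p] [DCoh.HasRΓ X] [DCoh.HasRΓ Z]
    (E : CochainComplex X.Modules ℤ) (hE : DCoh.IsPerfect (DCoh.toD X E)) [DCoh.HasLTensorCx E]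
    (F : CochainComplex Y.Modules ℤ) :
    Nonempty ((DCoh.RΓ X).obj ((DCoh.LTensorCx E).obj ((DCoh.Rpush p).obj ((DCoh.LTensorCx P).obj
      ((DCoh.Lpull q).obj (DCoh.toD Y F))))) ≅
      (DCoh.RΓ Z).obj (DCoh.toD Z ((DCoh.tensorCx.obj ((DCoh.tensorCx.obj ((pullCx q).obj ((kRes Y).obj F))).obj P)).obj
        ((pullCx p).obj ((kRes X).obj E))))) := by
  let E' := (kRes X).obj E
  let A := (pullCx q).obj ((kRes Y).obj F)
  let B := (pullCx p).obj E'
  have hA : DCoh.IsKFlat A := isKFlat_pullback q (isKFlat_kRes _)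
  have hB : DCoh.IsKFlat B := isKFlat_pullback p (isKFlat_kRes _)
  haveI := hasLTensorCx E'
  haveI := hasLTensorCx B
  let eE : DerivedCategory.Q.obj E' ≅ DerivedCategory.Q.obj E := (resQIso X).app E
  have hE' : DCoh.IsPerfect (DerivedCategory.Q.obj E') := fun x => by
    obtain ⟨V, hx, h⟩ := hE x
    exact ⟨V, hx, fun G hG => h G (hG.map (· ≪≫ eE))⟩
  obtain ⟨c⟩ := nonempty_LTensorCx_congr_D (P := E') (E := E) eE
  obtain ⟨r⟩ := nonempty_rpush_RΓ_iso p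
  haveI := isIso_LTensorCx_counit_of_isKFlat_right B hB ((DCoh.tensorCx.obj A).obj P)
  let g : (DCoh.LTensorCx P).obj ((DCoh.Lpull q).obj (DCoh.toD Y F)) ≅
      DCoh.toD Z ((DCoh.tensorCx.obj A).obj P) :=
    (DCoh.LTensorCx P).mapIso ((DCoh.Lpull q).mapIso ((resQIso Y).app F).symm ≪≫
      lpullIso q (isKFlat_kRes F)) ≪≫ ltensorCxIso P hA
  obtain ⟨pr⟩ := nonempty_projection_perfect p E' (isKFlat_kRes E) hE'
    ((DCoh.LTensorCx P).obj ((DCoh.Lpull q).obj (DCoh.toD Y F)))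
  exact ⟨(DCoh.RΓ X).mapIso (c.symm.app _ ≪≫ pr) ≪≫ r.app _ ≪≫
    (DCoh.RΓ Z).mapIso ((DCoh.LTensorCx B).mapIso g ≪≫
      asIso (((DCoh.tensorCxQ B).totalLeftDerivedCounit DerivedCategory.Q (qisX Z)).app
        ((DCoh.tensorCx.obj A).obj P)))⟩

theorem nonempty_exchange (p : Z ⟶ X) (q : Z ⟶ Y) (P : CochainComplex Z.Modules ℤ)
    [DCoh.HasLpull p] [DCoh.HasLpull q] [DCoh.HasLTensorCx P] [DCoh.HasRpush p] [DCoh.HasRpush q]
    [DCoh.HasRΓ X] [DCoh.HasRΓ Y]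
    (E : CochainComplex X.Modules ℤ) (hE : DCoh.IsPerfect (DCoh.toD X E)) [DCoh.HasLTensorCx E]
    (F : CochainComplex Y.Modules ℤ) (hF : DCoh.IsPerfect (DCoh.toD Y F)) [DCoh.HasLTensorCx F] :
    Nonempty ((DCoh.RΓ X).obj ((DCoh.LTensorCx E).obj ((DCoh.Rpush p).obj ((DCoh.LTensorCx P).obj
      ((DCoh.Lpull q).obj (DCoh.toD Y F))))) ≅
      (DCoh.RΓ Y).obj ((DCoh.LTensorCx F).obj ((DCoh.Rpush q).obj ((DCoh.LTensorCx P).obj
      ((DCoh.Lpull p).obj (DCoh.toD X E)))))) := by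
  haveI := hasRΓ Z
  obtain ⟨e₁⟩ := nonempty_half p q P E hE F
  obtain ⟨e₂⟩ := nonempty_half q p P F hF E
  exact ⟨e₁ ≪≫ (DCoh.RΓ Z).mapIso (DerivedCategory.Q.mapIso (swapCx _ P _)) ≪≫ e₂.symm⟩

end Groth.Agent.DEqLib.Sib.Exchange
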