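import Groth.Agent.TriCat.EnvelopeProducts

/-! Images of the steps of a triangulated envelope under functors which preserve triangles objectwise. -/

universe v v' u u'

open CategoryTheory Category Limits Pretriangulated

set_option backward.isDefEq.respectTransparency false
set_option linter.style.haveILetI false
set_option linter.unusedSectionVars false

noncomputable section

namespace Groth.Agent.DEqLib.Sib.EnvImage

section Closed

variable {C : Type u} [Category.{v} C]

/-- A zero object is a retract of anything. -/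
theorem prop_zero {R : ObjectProperty C} [R.IsStableUnderRetracts] [HasZeroMorphisms C] {A Z : C}
    (hA : R A) (hZ : IsZero Z) : R Z :=
  R.prop_of_retract ⟨0, 0, hZ.eq_of_src _ _⟩ hA

end Closed

variable {C : Type u} [Category.{v} C] [Preadditive C] [HasZeroObject C] [HasShift C ℤ]
  [∀ n : ℤ, (shiftFunctor C n).Additive] [Pretriangulated C]
  {D : Type u'} [Category.{v'} D] [Preadditive D] [HasZeroObject D] [HasShift D ℤ]
  [∀ n : ℤ, (shiftFunctor D n).Additive] [Pretriangulated D]

/-- `F` maps distinguished triangles to distinguished triangles up to the choice of the maps. -/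
def MapsTriangles (F : C ⥤ D) : Prop :=
  ∀ T ∈ distTriang C, ∃ (f : F.obj T.obj₁ ⟶ F.obj T.obj₂) (g : F.obj T.obj₂ ⟶ F.obj T.obj₃)
    (h : F.obj T.obj₃ ⟶ (F.obj T.obj₁)⟦(1 : ℤ)⟧), Triangle.mk f g h ∈ distTriang D

/-- `F` commutes with shifts objectwise. -/
def MapsShifts (F : C ⥤ D) : Prop :=
  ∀ (K : C) (a : ℤ), Nonempty (F.obj (K⟦a⟧) ≅ (F.obj K)⟦a⟧)

theorem MapsTriangles.comp {E : Type*} [Category E] [Preadditive E] [HasZeroObject E] [HasShift E ℤ]
    [∀ n : ℤ, (shiftFunctor E n).Additive] [Pretriangulated E] {F : C ⥤ D} {G : D ⥤ E}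
    (hF : MapsTriangles F) (hG : MapsTriangles G) : MapsTriangles (F ⋙ G) := fun T hT => by
  obtain ⟨f, g, h, hd⟩ := hF T hT
  exact hG _ hd

theorem MapsShifts.comp {E : Type*} [Category E] [Preadditive E] [HasZeroObject E] [HasShift E ℤ]
    [∀ n : ℤ, (shiftFunctor E n).Additive] [Pretriangulated E] {F : C ⥤ D} {G : D ⥤ E}
    (hF : MapsShifts F) (hG : MapsShifts G) : MapsShifts (F ⋙ G) := fun K a => by
  obtain ⟨e⟩ := hF K a
  obtain ⟨e'⟩ := hG (F.obj K) a
  exact ⟨G.mapIso e ≪≫ e'⟩

/-- An additive functor commuting with shifts sends the closure step into any closed property. -/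
theorem base_le (P : ObjectProperty C) (R : ObjectProperty D) [R.IsStableUnderRetracts]
    [R.IsStableUnderShift ℤ] [R.IsClosedUnderBinaryProducts] (F : C ⥤ D) [F.Additive]
    (hS : MapsShifts F) (h : ∀ K, P K → R (F.obj K)) :
    (P.shiftClosure ℤ).binaryProductsClosure.retractClosure ≤ R.inverseImage F := by
  haveI : HasFiniteProducts C := hasFiniteProducts_of_has_binary_and_terminal
  haveI : PreservesFiniteProducts F := inferInstance
  haveI : (R.inverseImage F).IsStableUnderRetracts :=
    ⟨fun r hY => R.prop_of_retract (r.map F) hY⟩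
  haveI : (R.inverseImage F).IsClosedUnderBinaryProducts := ⟨by
    rintro K ⟨p⟩
    exact R.prop_of_isLimit (isLimitOfPreserves F p.isLimit) fun j => p.prop_diag_obj j⟩
  haveI : (R.inverseImage F).IsStableUnderShift ℤ :=
    ⟨fun a => ⟨fun K (hK : R (F.obj K)) => R.prop_of_iso (hS K a).some.symm (R.le_shift a _ hK)⟩⟩
  rw [ObjectProperty.retractClosure_le_iff]
  refine ObjectProperty.limitsClosure_le ?_
  rw [ObjectProperty.shiftClosure_le_iff]
  exact h

/-- The image of step `n` is in a step which does not depend on the functor. -/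
theorem exists_le [IsTriangulated D] (P : ObjectProperty C) (m n : ℕ) :
    ∃ N, ∀ (Q : ObjectProperty D) (F : C ⥤ D), F.Additive → MapsShifts F → MapsTriangles F →
      (∀ K, P K → Q.triangEnvelopeIter m (F.obj K)) →
      ∀ K, P.triangEnvelopeIter n K → Q.triangEnvelopeIter N (F.obj K) := by
  induction n with
  | zero =>
    refine ⟨m, fun Q F hadd hS _ h K hK => ?_⟩
    haveI := hadd
    haveI := TriCat.triangEnvelopeIter_closedUnderBinaryProducts Q m
    exact base_le P (Q.triangEnvelopeIter m) F hS h K (by rwa [ObjectProperty.triangEnvelopeIter_zero] at hK)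
  | succ n ih =>
    obtain ⟨N, hN⟩ := ih
    refine ⟨m + (N + 1), fun Q F hadd hS hT h K hK => ?_⟩
    haveI := hadd
    haveI := TriCat.triangEnvelopeIter_closedUnderBinaryProducts Q m
    rw [ObjectProperty.triangEnvelopeIter_succ] at hK
    obtain ⟨K', ⟨A, B, f, g, δ, hd, hA, hB⟩, ⟨r⟩⟩ := hK
    obtain ⟨f', g', δ', hd'⟩ := hT _ hd
    rw [ObjectProperty.triangEnvelopeIter_add' Q rfl]
    exact ⟨_, ⟨_, _, f', g', δ', hd', base_le P (Q.triangEnvelopeIter m) F hS h A hA,
      hN Q F hadd hS hT h B hB⟩, ⟨r.map F⟩⟩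

end Groth.Agent.DEqLib.Sib.EnvImage
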