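import Groth.Agent.CurveDual15.FieldBase
import Groth.Agent.CurveDual15.SingleHom
import Groth.Agent.QCoh.SpecFT
import Groth.Agent.DEqLib.Sib.EnvImage
import Groth.Agent.KFlatLib.Scheme.CohD
import Mathlib.Algebra.Category.ModuleCat.Biproducts
import Mathlib.Data.Int.Interval
import Mathlib.Order.Interval.Finset.Basic

/-! Coherent complexes on a point are finite sums of shifts of the structure sheaf. -/

universe u

open CategoryTheory CategoryTheory.Limits CategoryTheory.Pretriangulated AlgebraicGeometry ZeroObject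

set_option backward.isDefEq.respectTransparency false
set_option backward.isDefEq.respectTransparency.types false
set_option linter.style.haveILetI false

attribute [local instance] HasDerivedCategory.standard

noncomputable section

namespace Groth.Agent.DEqLib.Sib.PointSplit

open Groth.Agent Groth.Agent.CurveDual15

variable (k : Type u) [Field k]

instance projective_pt (V : (pt k).Modules) : Projective V :=
  Projective.of_iso ((tilde.functor (CommRingCat.of k)).objObjPreimageIso V) <| by
    haveI : Module.Projective k ((tilde.functor (CommRingCat.of k)).objPreimage V) :=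
      Module.Projective.of_free (R := k)
    exact ((tilde.functor (CommRingCat.of k)).asEquivalence.map_projective_iff _).2
      ((IsProjective.iff_projective (R := k) _).1 ‹_›)

instance injective_pt (V : (pt k).Modules) : Injective V :=
  Injective.of_iso ((tilde.functor (CommRingCat.of k)).objObjPreimageIso V) <| by
    exact ((tilde.functor (CommRingCat.of k)).asEquivalence.map_injective_iff _).2
      (@Module.injective_object_of_injective_module k _ _ _ _ (Module.injective_of_isSemisimpleRing k _))

/-- A summand of `O^n`. -/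
def Fd (V : (pt k).Modules) : Prop :=
  ∃ n : ℕ, Nonempty (Retract V ((tilde.functor (CommRingCat.of k)).obj (ModuleCat.of k (Fin n → k))))

theorem fd_of_retract {V W : (pt k).Modules} (r : Retract V W) (h : Fd k W) : Fd k V := by
  obtain ⟨n, ⟨r'⟩⟩ := h
  exact ⟨n, ⟨r.trans r'⟩⟩

theorem fd_of_isCoh {V : (pt k).Modules} (h : Coh.IsCoh V) : Fd k V := by
  let T := tilde.functor (CommRingCat.of k)
  let V' := T.objPreimage V
  have e : T.obj V' ≅ V := T.objObjPreimageIso V
  haveI : Module.Finite k V' := (QCoh.isFT_tilde_iff (R := CommRingCat.of k) V').1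
    (KFlatLib.isCoh_of_iso e.symm h).2
  exact ⟨Module.finrank k V',
    ⟨(Retract.ofIso e.symm).trans (Retract.ofIso (T.mapIso (Module.finBasis k V').equivFun.toModuleIso))⟩⟩

variable {R : ObjectProperty (DCoh.D (pt k))} [R.IsStableUnderRetracts] [R.IsStableUnderShift ℤ]
  [R.IsClosedUnderBinaryProducts]

omit [R.IsStableUnderShift ℤ] in
/-- A finite sum of copies of `O`. -/
theorem mem_fd (hO : R (DCoh.inD (pt k) (OPt k))) {V : (pt k).Modules} (hV : Fd k V) :
    R (DCoh.inD (pt k) V) := by
  obtain ⟨n, ⟨r⟩⟩ := hV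
  let G := tilde.functor (CommRingCat.of k) ⋙ DerivedCategory.singleFunctor (pt k).Modules 0
  suffices ∀ n : ℕ, R (G.obj (ModuleCat.of k (Fin n → k))) from
    R.prop_of_retract (r.map (DerivedCategory.singleFunctor (pt k).Modules 0)) (this n)
  intro n
  induction n with
  | zero => exact EnvImage.prop_zero hO (G.map_isZero (ModuleCat.isZero_of_subsingleton _))
  | succ n ih =>
    haveI : HasBinaryBiproducts (DCoh.D (pt k)) := HasBinaryBiproducts.of_hasBinaryProducts
    haveI : G.Additive := by dsimp [G]; infer_instance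
    haveI : PreservesBinaryBiproducts G := preservesBinaryBiproducts_of_preservesBiproducts G
    have h1 : R (G.obj (ModuleCat.of k k)) := R.prop_of_iso
      ((DerivedCategory.singleFunctor (pt k).Modules 0).mapIso (tildeK k)).symm hO
    let e : G.obj (ModuleCat.of k (Fin (n + 1) → k)) ≅
        G.obj (ModuleCat.of k k) ⊞ G.obj (ModuleCat.of k (Fin n → k)) :=
      G.mapIso ((Fin.consLinearEquiv k fun _ => k).symm.toModuleIso ≪≫
        (ModuleCat.biprodIsoProd (ModuleCat.of k k) (ModuleCat.of k (Fin n → k))).symm) ≪≫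
      G.mapBiprod _ _
    exact R.prop_of_iso e.symm
      (R.prop_of_isLimit (BinaryBiproduct.isLimit _ _) (by rintro ⟨⟨⟩⟩ <;> assumption))

omit [R.IsStableUnderShift ℤ] in
/-- Complexes with coherent cohomology in given degrees. -/
theorem mem_of_finset' (hne : ∃ A, R A) (S : Finset ℤ) :
    (∀ i ∈ S, R ((DCoh.inD (pt k) (OPt k))⟦-i⟧)) →
    ∀ K : DCoh.D (pt k), (∀ i, Fd k (DCoh.HD K i)) → (∀ i ∉ S, IsZero (DCoh.HD K i)) → R K := by
  let H := fun i => DerivedCategory.homologyFunctor (pt k).Modules i
  induction S using Finset.induction_on with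
  | empty =>
    intro _ K _ hz
    haveI : IsIso (0 : K ⟶ 0) := (DerivedCategory.isIso_iff (C := (pt k).Modules) _).2 fun j =>
      ⟨0, (hz j (Finset.notMem_empty j)).eq_of_src _ _, (Functor.map_isZero _ (isZero_zero _)).eq_of_src _ _⟩
    obtain ⟨A, hA⟩ := hne
    exact EnvImage.prop_zero hA ((isZero_zero _).of_iso (asIso (0 : K ⟶ 0)))
  | insert i S hiS ih =>
    intro hO
    intro K hfd hz
    let K' := K⟦i⟧
    let V := (H 0).obj K'
    let eV : V ≅ DCoh.HD K i :=
      ((DerivedCategory.homologyFunctor (pt k).Modules 0).shiftIso i 0 i (add_zero i)).app K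
    obtain ⟨s, hs⟩ := (bijective_fromP V K').2 (𝟙 V)
    obtain ⟨r, hr⟩ := (bijective_toI V K').2 (𝟙 V)
    have hsH : (H 0).map s = (h0 V).hom := by
      rw [← cancel_epi (h0 V).inv, Iso.inv_hom_id]; exact hs
    have hrH : (H 0).map r = (h0 V).inv := by
      rw [← cancel_mono (h0 V).hom, Iso.inv_hom_id]; exact hr
    have hsr : s ≫ r = 𝟙 _ := (bijective_fromP_single V V).1 (by
      simp only [fromP, Functor.map_comp, CategoryTheory.Functor.map_id]
      show (h0 V).inv ≫ (H 0).map s ≫ (H 0).map r = _
      rw [hsH, hrH]; simp)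
    haveI : IsSplitMono s := IsSplitMono.mk' ⟨r, hsr⟩
    haveI : Mono s := inferInstance
    obtain ⟨C, g, δ, hT⟩ := distinguished_cocone_triangle s
    have hδ : δ = 0 := (Triangle.mor₃_eq_zero_iff_mono₁ _ hT).2 ‹Mono s›
    obtain ⟨e, he₁, he₂⟩ := exists_iso_binaryBiproduct_of_distTriang _ hT hδ
    let rC : Retract C K' := ⟨biprod.inr ≫ e.inv, g, by
      show (biprod.inr ≫ e.inv) ≫ (Triangle.mk s g δ).mor₂ = _
      rw [he₂]; simp; rfl⟩
    have hC0 : IsZero ((H 0).obj C) := by
      have hz0 : (H 0).map g = 0 := by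
        haveI : IsIso ((H 0).map s) := by rw [hsH]; infer_instance
        rw [← cancel_epi ((H 0).map s), ← Functor.map_comp, comp_zero]
        have : s ≫ g = 0 := comp_distTriang_mor_zero₁₂ _ hT
        rw [this, Functor.map_zero]
      rw [IsZero.iff_id_eq_zero, ← (rC.map (H 0)).retract]
      show (rC.map (H 0)).i ≫ (H 0).map g = 0
      rw [hz0, comp_zero]
    let C₁ := C⟦-i⟧
    let rC₁ : Retract C₁ K :=
      (rC.map (shiftFunctor (DCoh.D (pt k)) (-i))).trans
        (Retract.ofIso ((shiftFunctorCompIsoId (DCoh.D (pt k)) i (-i) (by omega)).app K))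
    have hC₁ : R C₁ := by
      refine ih (fun j hj => hO j (Finset.mem_insert_of_mem hj)) C₁ (fun j => fd_of_retract k (rC₁.map (H j)) (hfd j)) fun j hj => ?_
      by_cases hji : j = i
      · subst hji
        exact hC0.of_iso (((DerivedCategory.homologyFunctor (pt k).Modules 0).shiftIso (-j) j 0
          (by omega)).app C)
      · have hzj := hz j (by simp [hji, hj])
        rw [IsZero.iff_id_eq_zero, ← (rC₁.map (H j)).retract]
        rw [hzj.eq_of_src (rC₁.map (H j)).r 0, comp_zero]
    let sh := shiftFunctor (DCoh.D (pt k)) (-i)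
    haveI : HasFiniteProducts (DCoh.D (pt k)) := hasFiniteProducts_of_has_binary_and_terminal
    haveI : (R.inverseImage sh).IsStableUnderRetracts := ⟨fun r hY => R.prop_of_retract (r.map sh) hY⟩
    haveI : (R.inverseImage sh).IsClosedUnderBinaryProducts := ⟨by
      rintro L ⟨p⟩
      exact R.prop_of_isLimit (isLimitOfPreserves sh p.isLimit) fun j => p.prop_diag_obj j⟩
    have hA : R (sh.obj (DCoh.inD (pt k) V)) :=
      mem_fd (R := R.inverseImage sh) k (hO i (Finset.mem_insert_self i S))
        (fd_of_retract k (Retract.ofIso eV) (hfd i))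
    have hK' : R.inverseImage sh K' := (R.inverseImage sh).prop_of_iso e.symm
      ((R.inverseImage sh).prop_of_isLimit (BinaryBiproduct.isLimit _ _) (by rintro ⟨⟨⟩⟩ <;> assumption))
    exact R.prop_of_iso ((shiftFunctorCompIsoId (DCoh.D (pt k)) i (-i) (by omega)).app K) hK'

/-- Bounded complexes with coherent cohomology. -/
theorem mem_of_finset (hO : R (DCoh.inD (pt k) (OPt k))) (S : Finset ℤ) :
    ∀ K : DCoh.D (pt k), (∀ i, Fd k (DCoh.HD K i)) → (∀ i ∉ S, IsZero (DCoh.HD K i)) → R K :=
  mem_of_finset' k ⟨_, hO⟩ S fun i _ => R.le_shift (-i) _ hO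

/-- Bounded complexes with coherent cohomology on a point. -/
theorem mem_of_bounded (hO : R (DCoh.inD (pt k) (OPt k))) (K : DCoh.D (pt k)) (hK : DCoh.IsCohD K)
    (a b : ℤ) [K.IsGE a] [K.IsLE b] : R K :=
  mem_of_finset k hO (Finset.Icc a b) K (fun i => fd_of_isCoh k (hK i)) fun i hi => by
    rcases (show i < a ∨ b < i by simp at hi; omega) with h | h
    · exact K.isZero_of_isGE a i h
    · exact K.isZero_of_isLE b i h

end Groth.Agent.DEqLib.Sib.PointSplit
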