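import Groth.Agent.KFlatLib.Scheme.InnerHom
import Groth.Agent.KFlatLib.Scheme.TensorAssoc
import Mathlib.CategoryTheory.Adjunction.PartialAdjoint

/-! Existence of the internal `RHom`. -/

universe u

open CategoryTheory CategoryTheory.Limits AlgebraicGeometry

set_option backward.isDefEq.respectTransparency false
set_option linter.style.haveILetI false

attribute [local instance] HasDerivedCategory.standard

namespace Groth.Agent.DEqLib.Sib.RHomExists

open Groth.Agent.KFlatLib

variable {X : Scheme.{u}}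

theorem hasRSheafHom_of_isKFlat (P : CochainComplex X.Modules ℤ) (hP : DCoh.IsKFlat P)
    [DCoh.HasLTensorCx P] : DCoh.HasRSheafHom P := by
  refine Functor.isLeftAdjoint_of_rightAdjointObjIsDefined_eq_top ?_
  refine eq_top_iff.2 fun L _ => ?_
  obtain ⟨I, hI, hinj, ⟨eL⟩⟩ := exists_kInjective_rep L
  haveI := hI
  haveI := isKInjective_iHom hP I
  let A := (iHom P).obj I
  let c := (DCoh.tensorCxQ P).totalLeftDerivedCounit DerivedCategory.Q (qisX X)
  haveI := fun N => isIso_LTensorCx_counit_of_isKFlat_right P hP N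
  let ε : (DCoh.LTensorCx P).obj (DerivedCategory.Q.obj A) ⟶ L :=
    c.app A ≫ DerivedCategory.Q.map ((iHomAdj P).counit.app I) ≫ eL.inv
  let Φ : ∀ Z : DCoh.D X, (Z ⟶ DerivedCategory.Q.obj A) → ((DCoh.LTensorCx P).obj Z ⟶ L) :=
    fun Z z => (DCoh.LTensorCx P).map z ≫ ε
  have key : ∀ (N : CochainComplex X.Modules ℤ) (g : N ⟶ A),
      Φ _ (DerivedCategory.Q.map g) =
        c.app N ≫ DerivedCategory.Q.map (((iHomAdj P).homEquiv N I).symm g) ≫ eL.inv := fun N g => by
    refine (Category.assoc _ _ _).symm.trans ((congrArg (· ≫ _) (c.naturality g)).trans ?_)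
    refine (Category.assoc _ _ _).trans (congrArg (c.app N ≫ ·) ?_)
    rw [Adjunction.homEquiv_counit, Functor.map_comp DerivedCategory.Q, Category.assoc]
    rfl
  have hbij : ∀ Z, Function.Bijective (Φ Z) := fun Z => by
    obtain ⟨N, hN, ⟨e⟩⟩ := exists_kFlat_rep Z
    suffices h : Function.Bijective (Φ (DerivedCategory.Q.obj N)) by
      refine ⟨fun z z' hz => (cancel_epi e.hom).1 (h.1 ?_), fun y => ?_⟩
      · simp only [Φ, Functor.map_comp, Category.assoc] at hz ⊢
        exact congrArg ((DCoh.LTensorCx P).map e.hom ≫ ·) hz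
      · obtain ⟨z, hz⟩ := h.2 ((DCoh.LTensorCx P).map e.hom ≫ y)
        refine ⟨e.inv ≫ z, ?_⟩
        simp only [Φ, Functor.map_comp, Category.assoc] at hz ⊢
        rw [hz, ← Category.assoc, ← Functor.map_comp, e.inv_hom_id, CategoryTheory.Functor.map_id,
          Category.id_comp]
    refine ⟨fun a a' h => ?_, fun y => ?_⟩
    · obtain ⟨g, rfl⟩ := exists_Q_map a
      obtain ⟨g', rfl⟩ := exists_Q_map a'
      rw [key, key] at h
      obtain ⟨H⟩ := (Inner.nonempty_homotopy_iff (DCoh.tensorBi (X := X)) g g').2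
        (homotopy_of_Q_map_eq _ _ ((cancel_mono eL.inv).1 ((cancel_epi (c.app N)).1 h)))
      exact DerivedCategory.Q_map_eq_of_homotopy _ H
    · obtain ⟨b, hb⟩ := exists_Q_map (inv (c.app N) ≫ y ≫ eL.hom)
      refine ⟨DerivedCategory.Q.map ((iHomAdj P).homEquiv N I b), ?_⟩
      rw [key, Equiv.symm_apply_apply, hb]
      exact (congrArg (c.app N ≫ ·) ((Category.assoc _ _ _).trans
        (congrArg (inv (c.app N) ≫ ·) ((Category.assoc _ _ _).trans
          ((congrArg (y ≫ ·) eL.hom_inv_id).trans (Category.comp_id y)))))).trans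
        (IsIso.hom_inv_id_assoc (c.app N) y)
  exact Functor.RepresentableBy.isRepresentable (F := (DCoh.LTensorCx P).op ⋙ yoneda.obj L)
    (Y := DerivedCategory.Q.obj A)
    { homEquiv := fun {Z} => Equiv.ofBijective (Φ Z) (hbij Z)
      homEquiv_comp := fun {Z Z'} f g => by
        show (DCoh.LTensorCx P).map (f ≫ g) ≫ ε = (DCoh.LTensorCx P).map f ≫ (DCoh.LTensorCx P).map g ≫ ε
        rw [Functor.map_comp, Category.assoc] }

theorem hasRSheafHom (E : CochainComplex X.Modules ℤ) [DCoh.HasLTensorCx E] : DCoh.HasRSheafHom E := by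
  let P := (kRes X).obj E
  haveI := (flatCover X).quasiIso_ψ E
  haveI := hasLTensorCx P
  obtain ⟨e⟩ := nonempty_LTensorCx_congr (P := P) (E := E) ((flatCover X).ψ.app E)
  haveI := hasRSheafHom_of_isKFlat P (isKFlat_kRes E)
  exact ((DCoh.RSheafHomAdj P).ofNatIsoLeft e).isLeftAdjoint

end Groth.Agent.DEqLib.Sib.RHomExists
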