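import Groth.Agent.DEqLib.Sib.DiagEnv
import Groth.Agent.DEqLib.Sib.DiagKernel
import Groth.Agent.DEqLib.Sib.Exchange
import Groth.Agent.DEqLib.Sib.RHomExists
import Groth.Agent.DEqLib.Sib.PointSplit
import Groth.Agent.CurveDual15.Universal
import Groth.Agent.KFlatLib.Scheme.RpushQCoh
import Groth.Agent.KFlatLib.Scheme.ProjPerfect
import Groth.Agent.KFlatLib.Scheme.ProjLocFree
import Groth.Agent.PerfD40.RHomSupport
import Groth.Agent.PerfD40.HomBoundAffine
import Groth.Agent.RelPC13.BC.Square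
import Groth.Agent.QCoh.SupportFT
import Groth.Agent.S1001
import Groth.Agent.S1006
import Mathlib.Algebra.Homology.BifunctorShift

/-! A strong generator of the perfect objects of a smooth proper scheme. -/

universe u

open CategoryTheory CategoryTheory.Limits CategoryTheory.Pretriangulated AlgebraicGeometry

set_option backward.isDefEq.respectTransparency false
set_option linter.style.haveILetI false

attribute [local instance] HasDerivedCategory.standard

noncomputable section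

namespace Groth.Agent.DEqLib.Sib.StrongGen

open Groth.Agent Groth.Agent.KFlatLib

section Triangles

variable {D : Type*} [Category D] [Preadditive D] [HasZeroObject D] [HasShift D ℤ]
  [∀ n : ℤ, (shiftFunctor D n).Additive] [Pretriangulated D]

/-- Replacing the objects of a distinguished triangle by isomorphic ones. -/
theorem exists_dist_of_objIso {T : Triangle D} (hT : T ∈ distTriang D) {A B C : D} (a : T.obj₁ ≅ A)
    (b : T.obj₂ ≅ B) (c : T.obj₃ ≅ C) :
    ∃ (f : A ⟶ B) (g : B ⟶ C) (h : C ⟶ A⟦(1 : ℤ)⟧), Triangle.mk f g h ∈ distTriang D := by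
  refine ⟨a.inv ≫ T.mor₁ ≫ b.hom, b.inv ≫ T.mor₂ ≫ c.hom, c.inv ≫ T.mor₃ ≫ a.hom⟦(1 : ℤ)⟧',
    isomorphic_distinguished _ hT _ (Triangle.isoMk _ _ a.symm b.symm c.symm ?_ ?_ ?_)⟩
  · simp
  · simp
  · simp [← Functor.map_comp]

end Triangles

variable {X Y : Scheme.{u}}

/-- `- ⊗^L C` is `- ⊗ C` for K-flat `C`. -/
def ltcApp (C : CochainComplex X.Modules ℤ) [DCoh.HasLTensorCx C] (hC : DCoh.IsKFlat C)
    (N : CochainComplex X.Modules ℤ) :
    (DCoh.LTensorCx C).obj (DCoh.toD X N) ≅ DCoh.toD X ((DCoh.tensorCx.obj N).obj C) :=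
  @asIso _ _ _ _ (((DCoh.tensorCxQ C).totalLeftDerivedCounit DerivedCategory.Q (qisX X)).app N)
    (isIso_LTensorCx_counit_of_isKFlat_right C hC N)

theorem mapsShifts_ltensor (C : CochainComplex X.Modules ℤ) [DCoh.HasLTensorCx C] (hC : DCoh.IsKFlat C) :
    EnvImage.MapsShifts (DCoh.LTensorCx C) := fun K a => by
  let N := DerivedCategory.Q.objPreimage K
  let eN : DCoh.toD X N ≅ K := DerivedCategory.Q.objObjPreimageIso K
  exact ⟨(DCoh.LTensorCx C).mapIso ((shiftFunctor (DCoh.D X) a).mapIso eN.symm ≪≫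
      ((DerivedCategory.Q.commShiftIso a).app N).symm) ≪≫ ltcApp C hC _ ≪≫
    DerivedCategory.Q.mapIso (CochainComplex.mapBifunctorShift₁Iso N C DCoh.tensorBi a) ≪≫
    (DerivedCategory.Q.commShiftIso a).app _ ≪≫
    (shiftFunctor (DCoh.D X) a).mapIso ((ltcApp C hC N).symm ≪≫ (DCoh.LTensorCx C).mapIso eN)⟩

theorem mapsTriangles_ltensor (C : CochainComplex X.Modules ℤ) [DCoh.HasLTensorCx C] (hC : DCoh.IsKFlat C) :
    EnvImage.MapsTriangles (DCoh.LTensorCx C) := fun T hT => by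
  obtain ⟨A, B, φ, ⟨e⟩⟩ := (DerivedCategory.mem_distTriang_iff T).1 hT
  let M := DCoh.tensorCx.flip.obj C
  let S := (coneSeq φ).map M
  have hS : S.ShortExact := shortExact₁_of_splitting (T := DCoh.tensorBi) C (coneSeq φ)
    fun n => ⟨coneSeqSplitting φ n⟩
  let e₁ : (DerivedCategory.triangleOfSES hS).invRotate.obj₁ ≅ DCoh.toD X (M.obj A) :=
    (shiftFunctor (DCoh.D X) (-1 : ℤ)).mapIso
      (DerivedCategory.Q.mapIso (CochainComplex.mapBifunctorShift₁Iso A C DCoh.tensorBi (1 : ℤ)) ≪≫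
        (DerivedCategory.Q.commShiftIso (1 : ℤ)).app _) ≪≫
      (shiftFunctorCompIsoId (DCoh.D X) (1 : ℤ) (-1) (by omega)).app _
  exact exists_dist_of_objIso (inv_rot_of_distTriang _ (DerivedCategory.triangleOfSES_distinguished hS))
    (e₁ ≪≫ (ltcApp C hC A).symm ≪≫ (DCoh.LTensorCx C).mapIso (Triangle.π₁.mapIso e).symm)
    ((ltcApp C hC B).symm ≪≫ (DCoh.LTensorCx C).mapIso (Triangle.π₂.mapIso e).symm)
    ((ltcApp C hC _).symm ≪≫ (DCoh.LTensorCx C).mapIso (Triangle.π₃.mapIso e).symm)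

theorem additive_ltensor (C : CochainComplex X.Modules ℤ) [DCoh.HasLTensorCx C] :
    (DCoh.LTensorCx C).Additive :=
  haveI := RHomExists.hasRSheafHom C
  PerfD40.additive_LTensorCx C

theorem additive_lpull (f : X ⟶ Y) [DCoh.HasLpull f] : (DCoh.Lpull f).Additive := by
  haveI := DiagKernel.hasRpush f
  obtain ⟨adj⟩ := nonempty_lpull_rpush_adj f
  haveI := adj.isLeftAdjoint
  haveI := preservesBinaryBiproducts_of_preservesBinaryCoproducts (DCoh.Lpull f)
  exact Functor.additive_of_preservesBinaryBiproducts _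

theorem additive_rpush (f : X ⟶ Y) [DCoh.HasRpush f] : (DCoh.Rpush f).Additive := by
  haveI := hasLpull f
  haveI := additive_lpull f
  obtain ⟨adj⟩ := nonempty_lpull_rpush_adj f
  exact adj.right_adjoint_additive

theorem mapsShifts_lpull (f : X ⟶ Y) [DCoh.HasLpull f] : EnvImage.MapsShifts (DCoh.Lpull f) := fun K a => by
  let N := (kRes Y).obj (DerivedCategory.Q.objPreimage K)
  have hN : DCoh.IsKFlat N := isKFlat_kRes _
  let eN : DCoh.toD Y N ≅ K := (resQIso Y).app _ ≪≫ DerivedCategory.Q.objObjPreimageIso K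
  have hNa : DCoh.IsKFlat (N⟦a⟧) := KFlat.shift hN a
  exact ⟨(DCoh.Lpull f).mapIso ((shiftFunctor (DCoh.D Y) a).mapIso eN.symm ≪≫
      ((DerivedCategory.Q.commShiftIso a).app N).symm) ≪≫ lpullIso f hNa ≪≫
    DerivedCategory.Q.mapIso (((pullCx f).commShiftIso a).app N) ≪≫
    (DerivedCategory.Q.commShiftIso a).app _ ≪≫
    (shiftFunctor (DCoh.D X) a).mapIso ((lpullIso f hN).symm ≪≫ (DCoh.Lpull f).mapIso eN)⟩

/-- The properties of a locally free module in degree zero. -/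
theorem single_facts {E : X.Modules} (hE : FlatMod.IsFinLocFree E) :
    DCoh.IsKFlat ((HomologicalComplex.single X.Modules (ComplexShape.up ℤ) 0).obj E) ∧
      DCoh.IsPerfect (DCoh.toD X ((HomologicalComplex.single X.Modules (ComplexShape.up ℤ) 0).obj E)) := by
  let P := (HomologicalComplex.single X.Modules (ComplexShape.up ℤ) 0).obj E
  have hsp : DCoh.IsStrictlyPerfect P :=
    ⟨⟨0, 0, fun i hi => HomologicalComplex.isZero_single_obj_X (ComplexShape.up ℤ) 0 _ i (by omega)⟩,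
      fun i => by
        by_cases h : i = 0
        · exact H23.PullPush.isFinLocFree_of_iso
            (HomologicalComplex.singleObjXIsoOfEq (ComplexShape.up ℤ) 0 E i h).symm hE
        · exact isFinLocFree_of_isZero (HomologicalComplex.isZero_single_obj_X _ _ _ _ h)⟩
  haveI : CochainComplex.IsStrictlyLE P 0 := (CochainComplex.isStrictlyLE_iff _ 0).2
    fun i hi => HomologicalComplex.isZero_single_obj_X (ComplexShape.up ℤ) 0 _ i (by omega)
  exact ⟨isKFlat_of_isStrictlyLE P 0 fun i => isFlat_of_isFinLocFree (hsp.2 i),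
    isPerfect_of_rep (F₀ := P) (Iso.refl _) fun y =>
      ⟨⊤, trivial, _, isStrictlyPerfect_restrict _ hsp, ⟨Iso.refl _⟩⟩⟩

/-- A module in degree zero, as a complex. -/
def inDIso (E : X.Modules) :
    DCoh.inD X E ≅ DCoh.toD X ((HomologicalComplex.single X.Modules (ComplexShape.up ℤ) 0).obj E) :=
  ((SingleFunctors.evaluation _ _ 0).mapIso (DerivedCategory.singleFunctorsPostcompQIso X.Modules)).app E

variable (k : Type u) [Field k] [X.Over (Spec (.of k))] [IsProper (X ↘ Spec (.of k))]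

theorem mem_ofObj {Z : Scheme.{u}} (B : DCoh.D Z) {A : DCoh.D Z}
    (h : ObjectProperty.ofObj (fun _ : PUnit.{u + 1} => B) A) : A = B := by
  obtain ⟨_⟩ := h; rfl

/-- `Ls^* O ⊗ G = G`. -/
theorem nonempty_pull_unit (G : X.Modules) (hG : FlatMod.IsFinLocFree G) [DCoh.HasLpull (X ↘ Spec (.of k))]
    [DCoh.HasLTensorCx ((HomologicalComplex.single X.Modules (ComplexShape.up ℤ) 0).obj G)] :
    Nonempty ((DCoh.LTensorCx ((HomologicalComplex.single X.Modules (ComplexShape.up ℤ) 0).obj G)).obj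
      ((DCoh.Lpull (X ↘ Spec (.of k))).obj (DCoh.inD (CurveDual15.pt k) (CurveDual15.OPt k))) ≅
        DCoh.inD X G) := by
  let Ĝ := (HomologicalComplex.single X.Modules (ComplexShape.up ℤ) 0).obj G
  haveI := DiagKernel.hasRpush (X ↘ Spec (.of k))
  obtain ⟨e, -⟩ := CurveDual15.exists_lpull_unit k (X := X)
  let O := (HomologicalComplex.single X.Modules (ComplexShape.up ℤ) 0).obj (Coh.structureModule X)
  obtain ⟨u⟩ := nonempty_tensorUnitIso Ĝ
  exact ⟨(DCoh.LTensorCx Ĝ).mapIso (e ≪≫ inDIso _) ≪≫ ltcApp Ĝ (single_facts hG).1 O ≪≫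
    DerivedCategory.Q.mapIso ((symmIso (tensorBiFlipIso X) Ĝ).app _ ≪≫ u) ≪≫ (inDIso G).symm⟩

omit [IsProper (X ↘ Spec (.of k))] in
/-- A complex against the diagonal. -/
theorem nonempty_diag_image [IsSeparated (X ↘ Spec (.of k))] (K' : CochainComplex X.Modules ℤ)
    (hK' : DCoh.IsKFlat K')
    [DCoh.HasLTensorCx ((pullCx (pullback.fst (X ↘ Spec (.of k)) (X ↘ Spec (.of k)))).obj K')]
    [DCoh.HasRpush (pullback.snd (X ↘ Spec (.of k)) (X ↘ Spec (.of k)))] :
    Nonempty ((DCoh.LTensorCx ((pullCx (pullback.fst (X ↘ Spec (.of k)) (X ↘ Spec (.of k)))).obj K') ⋙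
      DCoh.Rpush (pullback.snd (X ↘ Spec (.of k)) (X ↘ Spec (.of k)))).obj
        (FMK.diagO (X ↘ Spec (.of k))) ≅ DCoh.toD X K') := by
  let s := X ↘ Spec (.of k)
  let p := pullback.fst s s
  let q := pullback.snd s s
  haveI := hasLpull p
  let Δ' := (HomologicalComplex.single (pullback s s).Modules (ComplexShape.up ℤ) 0).obj
    ((Coh.push (pullback.diagonal s)).obj (Coh.structureModule X))
  have hC : DCoh.IsKFlat ((pullCx p).obj K') := isKFlat_pullback p hK'
  haveI := hasLTensorCx Δ'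
  obtain ⟨φ⟩ := DiagKernel.phi_diag s Δ' ⟨(inDIso _).symm⟩
  exact ⟨(DCoh.Rpush q).mapIso ((DCoh.LTensorCx _).mapIso (inDIso _) ≪≫ ltcApp _ hC Δ' ≪≫
      DerivedCategory.Q.mapIso (Exchange.commCx Δ' _) ≪≫ (ltensorCxIso Δ' hC).symm ≪≫
      (DCoh.LTensorCx Δ').mapIso (lpullIso p hK').symm) ≪≫ φ.app _⟩

/-- A complex with quasi-coherent cohomology against a box product. -/
theorem nonempty_box_image' [Flat (X ↘ Spec (.of k))] (E G : X.Modules) (hE : FlatMod.IsFinLocFree E)
    (hG : FlatMod.IsFinLocFree G) (K' : CochainComplex X.Modules ℤ) (hK'k : DCoh.IsKFlat K')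
    (hK'q : DCoh.IsQCohD (DCoh.toD X K'))
    [DCoh.HasLTensorCx ((pullCx (pullback.fst (X ↘ Spec (.of k)) (X ↘ Spec (.of k)))).obj K')]
    [DCoh.HasRpush (pullback.snd (X ↘ Spec (.of k)) (X ↘ Spec (.of k)))]
    [DCoh.HasLpull (X ↘ Spec (.of k))] [DCoh.HasRpush (X ↘ Spec (.of k))]
    [DCoh.HasLTensorCx ((HomologicalComplex.single X.Modules (ComplexShape.up ℤ) 0).obj G)] :
    ∃ M : DCoh.D X, DCoh.IsQCohD M ∧
      Nonempty (DCoh.toD X ((DCoh.tensorCx.obj K').obj
        ((HomologicalComplex.single X.Modules (ComplexShape.up ℤ) 0).obj E)) ≅ M) ∧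
      Nonempty ((DCoh.LTensorCx ((pullCx (pullback.fst (X ↘ Spec (.of k)) (X ↘ Spec (.of k)))).obj K') ⋙
        DCoh.Rpush (pullback.snd (X ↘ Spec (.of k)) (X ↘ Spec (.of k)))).obj
          (DCoh.inD (pullback (X ↘ Spec (.of k)) (X ↘ Spec (.of k)))
            (CohB1.tensorMod ((Scheme.Modules.pullback (pullback.fst (X ↘ Spec (.of k)) (X ↘ Spec (.of k)))).obj E)
              ((Scheme.Modules.pullback (pullback.snd (X ↘ Spec (.of k)) (X ↘ Spec (.of k)))).obj G))) ≅
        (DCoh.LTensorCx ((HomologicalComplex.single X.Modules (ComplexShape.up ℤ) 0).obj G)).obj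
          ((DCoh.Lpull (X ↘ Spec (.of k))).obj ((DCoh.Rpush (X ↘ Spec (.of k))).obj M))) := by
  let s := X ↘ Spec (.of k)
  let p := pullback.fst s s
  let q := pullback.snd s s
  let sX := HomologicalComplex.single X.Modules (ComplexShape.up ℤ) 0
  let sZ := HomologicalComplex.single (pullback s s).Modules (ComplexShape.up ℤ) 0
  let B := CohB1.tensorMod ((Scheme.Modules.pullback p).obj E) ((Scheme.Modules.pullback q).obj G)
  obtain ⟨hGk, hGp⟩ := single_facts hG
  obtain ⟨hEk, hEp⟩ := single_facts hE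
  let C := (pullCx p).obj K'
  have hC : DCoh.IsKFlat C := isKFlat_pullback p hK'k
  haveI := hasLpull p
  haveI := DiagKernel.hasRpush p
  let Ê := sX.obj E
  let Ĝ := sX.obj G
  let M := (DCoh.tensorCx.obj K').obj Ê
  have hMk : DCoh.IsKFlat M := isKFlat_tensorCx hK'k hEk
  haveI := hasLTensorCx Ê
  haveI := hasLTensorCx ((pullCx q).obj Ĝ)
  have hMp : DCoh.IsQCohD (DCoh.toD X M) :=
    isQCohD_of_iso (ltensorCxIso Ê hK'k) (isQCohD_ltensor Ê (PerfD40.isQCohD_of_isPerfect hEp) hK'q)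
  let pE := (Scheme.Modules.pullback p).obj E
  let qG := (Scheme.Modules.pullback q).obj G
  let eB : sZ.obj B ≅ (DCoh.tensorCx.obj ((pullCx p).obj Ê)).obj ((pullCx q).obj Ĝ) :=
    (((HomologicalComplex.singleMapHomologicalComplex (DCoh.tensorBi.flip.obj qG) (ComplexShape.up ℤ) 0).app
      pE)).symm ≪≫ ((singleIso DCoh.tensorBi qG).app (sZ.obj pE)).symm ≪≫
    (DCoh.tensorCx.obj (sZ.obj pE)).mapIso
      ((HomologicalComplex.singleMapHomologicalComplex (Scheme.Modules.pullback q) (ComplexShape.up ℤ) 0).app G).symm ≪≫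
    (DCoh.tensorCx.mapIso
      ((HomologicalComplex.singleMapHomologicalComplex (Scheme.Modules.pullback p) (ComplexShape.up ℤ) 0).app E).symm).app _
  let eT : (DCoh.tensorCx.obj (sZ.obj B)).obj C ≅
      (DCoh.tensorCx.obj ((pullCx p).obj M)).obj ((pullCx q).obj Ĝ) :=
    Exchange.commCx _ C ≪≫ (DCoh.tensorCx.obj C).mapIso eB ≪≫ (tensorCxAssocIso _ _ _).symm ≪≫
      (DCoh.tensorCx.mapIso (pullTensorCxIso p K' Ê)).app _
  obtain ⟨pr⟩ := nonempty_projection_perfect q Ĝ hGk hGp ((DCoh.Lpull p).obj (DCoh.toD X M))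
  obtain ⟨ap⟩ := nonempty_lpull_rpush_adj p
  obtain ⟨as⟩ := nonempty_lpull_rpush_adj s
  obtain ⟨ebc, hbc⟩ := RelPC13.BC.exists_baseChange_iso (IsPullback.of_hasPullback s s) as ap
  haveI := hbc (DCoh.toD X M) hMp
  let bc : (DCoh.Lpull s).obj ((DCoh.Rpush s).obj (DCoh.toD X M)) ≅
      (DCoh.Rpush q).obj ((DCoh.Lpull p).obj (DCoh.toD X M)) :=
    asIso (DCoh.baseChangeApp as ap ebc (DCoh.toD X M))
  exact ⟨DCoh.toD X M, hMp, ⟨Iso.refl _⟩, ⟨(DCoh.Rpush q).mapIso ((DCoh.LTensorCx C).mapIso (inDIso _) ≪≫ ltcApp C hC _ ≪≫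
      DerivedCategory.Q.mapIso eT ≪≫ (ltcApp _ (isKFlat_pullback q hGk) _).symm ≪≫
      (DCoh.LTensorCx _).mapIso (lpullIso p hMk).symm) ≪≫ pr.symm ≪≫
    (DCoh.LTensorCx Ĝ).mapIso bc.symm⟩⟩

/-- A perfect complex against a box product. -/
theorem nonempty_box_image [Smooth (X ↘ Spec (.of k))] (E G : X.Modules) (hE : FlatMod.IsFinLocFree E)
    (hG : FlatMod.IsFinLocFree G) (K' : CochainComplex X.Modules ℤ) (hK'k : DCoh.IsKFlat K')
    (hK'p : DCoh.IsPerfect (DCoh.toD X K'))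
    [DCoh.HasLTensorCx ((pullCx (pullback.fst (X ↘ Spec (.of k)) (X ↘ Spec (.of k)))).obj K')]
    [DCoh.HasRpush (pullback.snd (X ↘ Spec (.of k)) (X ↘ Spec (.of k)))]
    [DCoh.HasLpull (X ↘ Spec (.of k))] [DCoh.HasRpush (X ↘ Spec (.of k))]
    [DCoh.HasLTensorCx ((HomologicalComplex.single X.Modules (ComplexShape.up ℤ) 0).obj G)] :
    ∃ M : DCoh.D X, DCoh.IsPerfect M ∧
      Nonempty (DCoh.toD X ((DCoh.tensorCx.obj K').obj
        ((HomologicalComplex.single X.Modules (ComplexShape.up ℤ) 0).obj E)) ≅ M) ∧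
      Nonempty ((DCoh.LTensorCx ((pullCx (pullback.fst (X ↘ Spec (.of k)) (X ↘ Spec (.of k)))).obj K') ⋙
        DCoh.Rpush (pullback.snd (X ↘ Spec (.of k)) (X ↘ Spec (.of k)))).obj
          (DCoh.inD (pullback (X ↘ Spec (.of k)) (X ↘ Spec (.of k)))
            (CohB1.tensorMod ((Scheme.Modules.pullback (pullback.fst (X ↘ Spec (.of k)) (X ↘ Spec (.of k)))).obj E)
              ((Scheme.Modules.pullback (pullback.snd (X ↘ Spec (.of k)) (X ↘ Spec (.of k)))).obj G))) ≅
        (DCoh.LTensorCx ((HomologicalComplex.single X.Modules (ComplexShape.up ℤ) 0).obj G)).obj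
          ((DCoh.Lpull (X ↘ Spec (.of k))).obj ((DCoh.Rpush (X ↘ Spec (.of k))).obj M))) := by
  obtain ⟨M, -, ⟨eM⟩, e⟩ := nonempty_box_image' k E G hE hG K' hK'k (PerfD40.isQCohD_of_isPerfect hK'p)
  obtain ⟨hEk, hEp⟩ := single_facts hE
  let Ê := (HomologicalComplex.single X.Modules (ComplexShape.up ℤ) 0).obj E
  haveI := hasLTensorCx Ê
  refine ⟨M, fun x => ?_, ⟨eM⟩, e⟩
  obtain ⟨V, hx, h⟩ := isPerfect_ltensor Ê hEk hEp hK'p x
  exact ⟨V, hx, fun F hF => h F (hF.map (· ≪≫ eM.symm ≪≫ (ltensorCxIso Ê hK'k).symm))⟩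

/-- `Ls^* Rs_* M ⊗ G` is a sum of shifts of `G`. -/
theorem mem_pull_push (G : X.Modules) (hG : FlatMod.IsFinLocFree G) [DCoh.HasLpull (X ↘ Spec (.of k))]
    [DCoh.HasRpush (X ↘ Spec (.of k))]
    [DCoh.HasLTensorCx ((HomologicalComplex.single X.Modules (ComplexShape.up ℤ) 0).obj G)]
    (M : DCoh.D X) (hM : DCoh.IsPerfect M) :
    ObjectProperty.triangEnvelopeIter (ObjectProperty.ofObj (fun _ : PUnit.{u + 1} => DCoh.inD X G)) 0
      ((DCoh.LTensorCx ((HomologicalComplex.single X.Modules (ComplexShape.up ℤ) 0).obj G)).obj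
        ((DCoh.Lpull (X ↘ Spec (.of k))).obj ((DCoh.Rpush (X ↘ Spec (.of k))).obj M))) := by
  let s := X ↘ Spec (.of k)
  let Ĝ := (HomologicalComplex.single X.Modules (ComplexShape.up ℤ) 0).obj G
  haveI : CompactSpace X := (quasiCompact_iff_compactSpace s).1 inferInstance
  haveI : IsLocallyNoetherian X := LocallyOfFiniteType.isLocallyNoetherian s
  haveI : IsNoetherian X := {}
  obtain ⟨hcoh, a, b, ha, hb⟩ := S1006.result X M hM
  haveI := ha
  haveI := hb
  have hsupp : ∀ i : ℤ, ClSub.IsProperOver s (CohB1.support (DCoh.HD M i)) := fun i =>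
    ⟨QCoh.isClosed_support_of_ft (hcoh i).2, inferInstance⟩
  obtain ⟨hc, hge, b', hle⟩ := S1001.result s M a b hcoh hsupp
  let F := DCoh.Lpull s ⋙ DCoh.LTensorCx Ĝ
  haveI := additive_lpull s
  haveI := additive_ltensor Ĝ
  haveI : F.Additive := by dsimp [F]; infer_instance
  have hGk := (single_facts hG).1
  have hS : EnvImage.MapsShifts F := (mapsShifts_lpull s).comp (mapsShifts_ltensor Ĝ hGk)
  let P := ObjectProperty.ofObj (fun _ : PUnit.{u + 1} => DCoh.inD (CurveDual15.pt k) (CurveDual15.OPt k))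
  let Q := ObjectProperty.ofObj (fun _ : PUnit.{u + 1} => DCoh.inD X G)
  haveI := TriCat.triangEnvelopeIter_closedUnderBinaryProducts P 0
  haveI := TriCat.triangEnvelopeIter_closedUnderBinaryProducts Q 0
  have hmem : P.triangEnvelopeIter 0 ((DCoh.Rpush s).obj M) := by
    haveI := hge
    haveI := hle
    exact PointSplit.mem_of_bounded k (R := P.triangEnvelopeIter 0)
      (P.le_triangEnvelopeIter 0 _ (ObjectProperty.ofObj_apply (fun _ : PUnit.{u + 1} => _) PUnit.unit)) _ hc a b'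
  have hbase : ∀ K, P K → Q.triangEnvelopeIter 0 (F.obj K) := fun K hK => by
    obtain rfl := mem_ofObj _ hK
    exact (Q.triangEnvelopeIter 0).prop_of_iso (nonempty_pull_unit k G hG).some.symm
      (Q.le_triangEnvelopeIter 0 _ (ObjectProperty.ofObj_apply (fun _ : PUnit.{u + 1} => _) PUnit.unit))
  rw [ObjectProperty.triangEnvelopeIter_zero] at hmem
  exact EnvImage.base_le P (Q.triangEnvelopeIter 0) F hS hbase _ hmem

/-- A strong generator of the perfect objects. -/
theorem exists_strong_generator [Smooth (X ↘ Spec (.of k))] :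
    ∃ (E : DCoh.D X) (n : ℕ), DCoh.IsPerfect E ∧
      ∀ K : DCoh.D X, DCoh.IsPerfect K →
        ObjectProperty.triangEnvelopeIter (ObjectProperty.ofObj (fun _ : PUnit.{u + 1} => E)) n K := by
  let s := X ↘ Spec (.of k)
  haveI : CompactSpace X := (quasiCompact_iff_compactSpace s).1 inferInstance
  let p := pullback.fst s s
  let q := pullback.snd s s
  let sX := HomologicalComplex.single X.Modules (ComplexShape.up ℤ) 0
  let sZ := HomologicalComplex.single (pullback s s).Modules (ComplexShape.up ℤ) 0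
  obtain ⟨E, G, hE, hG, hdiag⟩ := DiagEnv.exists_diag k X
  obtain ⟨n, hn⟩ := (ObjectProperty.prop_triangEnvelope_iff _ _).1 hdiag
  let B := CohB1.tensorMod ((Scheme.Modules.pullback p).obj E) ((Scheme.Modules.pullback q).obj G)
  obtain ⟨N, hN⟩ := EnvImage.exists_le (D := DCoh.D X)
    (ObjectProperty.ofObj (fun _ : PUnit.{u + 1} => DCoh.inD (pullback s s) B)) 0 n
  obtain ⟨hGk, hGp⟩ := single_facts hG
  obtain ⟨hEk, hEp⟩ := single_facts hE
  refine ⟨DCoh.inD X G, N, fun x => ?_, fun K hK => ?_⟩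
  · obtain ⟨V, hx, h⟩ := hGp x
    exact ⟨V, hx, fun F hF => h F (hF.map (· ≪≫ inDIso G))⟩
  let K' := (kRes X).obj (DerivedCategory.Q.objPreimage K)
  have hK'k : DCoh.IsKFlat K' := isKFlat_kRes _
  let eK : DCoh.toD X K' ≅ K := (resQIso X).app _ ≪≫ DerivedCategory.Q.objObjPreimageIso K
  have hK'p : DCoh.IsPerfect (DCoh.toD X K') := fun x => by
    obtain ⟨V, hx, h⟩ := hK x
    exact ⟨V, hx, fun F hF => h F (hF.map (· ≪≫ eK))⟩
  let C := (pullCx p).obj K'
  have hC : DCoh.IsKFlat C := isKFlat_pullback p hK'k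
  haveI := hasLTensorCx C
  haveI := DiagKernel.hasRpush q
  haveI := hasLpull p
  haveI := DiagKernel.hasRpush p
  haveI := DiagKernel.hasRpush s
  haveI := hasLpull s
  let F := DCoh.LTensorCx C ⋙ DCoh.Rpush q
  have hadd : F.Additive := by
    haveI := additive_ltensor C
    haveI := additive_rpush q
    dsimp [F]; infer_instance
  have hshift : EnvImage.MapsShifts F :=
    (mapsShifts_ltensor C hC).comp (fun L a => nonempty_rpush_shift q L a)
  have htri : EnvImage.MapsTriangles F := (mapsTriangles_ltensor C hC).comp fun T hT => by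
    obtain ⟨c, hc⟩ := exists_rpush_triangle q T hT
    exact ⟨_, _, c, hc⟩
  obtain ⟨eΔ⟩ := nonempty_diag_image k K' hK'k
  refine (ObjectProperty.triangEnvelopeIter _ N).prop_of_iso (eΔ ≪≫ eK)
    (hN _ F hadd hshift htri (fun A hA => ?_) _ hn)
  obtain rfl := mem_ofObj _ hA
  haveI := hasLTensorCx (sX.obj G)
  obtain ⟨M, hM, -, ⟨e⟩⟩ := nonempty_box_image k E G hE hG K' hK'k hK'p
  exact (ObjectProperty.triangEnvelopeIter _ 0).prop_of_iso e.symm (mem_pull_push k G hG M hM)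

end Groth.Agent.DEqLib.Sib.StrongGen
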