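import Groth.Agent.KFlatLib.Scheme.CoEvalPerfect
import Groth.Agent.KFlatLib.Scheme.BidualPerfect
import Groth.Agent.DEqLib.Sib.LinTensor
import Groth.Agent.KFlatLib.Scheme.ProjFormula
import Groth.Agent.DEqLib.Sib.DiagKernel
import Groth.Agent.DEqLib.Sib.StrongGen
import Mathlib.CategoryTheory.Localization.Opposite
import Mathlib.CategoryTheory.Localization.Predicate
import Mathlib.Algebra.Homology.HomotopyCategory.DegreewiseSplit

/-!
# The duality functor on `D(X)`
-/

universe u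

open CategoryTheory Category Limits Pretriangulated AlgebraicGeometry Opposite

attribute [local instance] HasDerivedCategory.standard

set_option backward.isDefEq.respectTransparency false
set_option backward.isDefEq.respectTransparency.types false
set_option linter.style.haveILetI false
set_option linter.unusedSectionVars false

noncomputable section

namespace Groth.Agent.DEqLib.Sib.Dual

open Groth.Agent Groth.Agent.KFlatLib

variable (X : Scheme.{u})

/-- `O[0]`. -/
abbrev O0 : CochainComplex X.Modules ℤ :=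
  (HomologicalComplex.single X.Modules (ComplexShape.up ℤ) 0).obj (Coh.structureModule X)

/-- A chosen injective resolution of `O[0]`. -/
def I0 : CochainComplex X.Modules ℤ :=
  (TriCat.exists_kInjective_resolution'.{u} (O0 X)).choose

/-- The resolution map. -/
def ι0 : O0 X ⟶ I0 X :=
  (TriCat.exists_kInjective_resolution'.{u} (O0 X)).choose_spec.choose

instance : (I0 X).IsKInjective :=
  (TriCat.exists_kInjective_resolution'.{u} (O0 X)).choose_spec.choose_spec.1

instance : QuasiIso (ι0 X) :=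
  (TriCat.exists_kInjective_resolution'.{u} (O0 X)).choose_spec.choose_spec.2.1

instance (n : ℤ) : Injective ((I0 X).X n) :=
  (TriCat.exists_kInjective_resolution'.{u} (O0 X)).choose_spec.choose_spec.2.2.2 n

variable {X}

lemma iHomMap_id (P : CochainComplex X.Modules ℤ) : (iHomMap (𝟙 P)) = 𝟙 _ := by
  show conjugateEquiv _ _ (DCoh.tensorBi.map₂CochainComplex.flip.map (𝟙 P)) = _
  rw [CategoryTheory.Functor.map_id]
  exact conjugateEquiv_id _

lemma iHomMap_comp {P Q R : CochainComplex X.Modules ℤ} (f : P ⟶ Q) (g : Q ⟶ R) :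
    (iHomMap (f ≫ g)) = (iHomMap g) ≫ (iHomMap f) := by
  show conjugateEquiv _ _ (DCoh.tensorBi.map₂CochainComplex.flip.map (f ≫ g)) = _
  rw [CategoryTheory.Functor.map_comp]
  exact (conjugateEquiv_comp _ _ _ _ _).symm

lemma iHomMap_add {P Q : CochainComplex X.Modules ℤ} (f g : P ⟶ Q) (I : CochainComplex X.Modules ℤ) :
    (iHomMap (f + g)).app I = (iHomMap f).app I + (iHomMap g).app I := by
  apply ((iHomAdj P).homEquiv _ _).symm.injective
  have h1 : ∀ φ : P ⟶ Q, ((iHomAdj P).homEquiv _ _).symm ((iHomMap φ).app I) =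
      (DCoh.tensorCx.obj ((iHom Q).obj I)).map φ ≫
        ((iHomAdj Q).homEquiv _ _).symm (𝟙 ((iHom Q).obj I)) := fun φ => by
    have := Inner.homEquiv_innerMap (DCoh.tensorBi (X := X)) φ (I := I) (𝟙 ((iHom Q).obj I))
    rwa [Category.id_comp] at this
  have h2 : ∀ a b : (iHom Q).obj I ⟶ (iHom P).obj I, ((iHomAdj P).homEquiv _ _).symm (a + b) =
      ((iHomAdj P).homEquiv _ _).symm a + ((iHomAdj P).homEquiv _ _).symm b := fun a b => by
    rw [Adjunction.homEquiv_counit, Adjunction.homEquiv_counit, Adjunction.homEquiv_counit,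
      Functor.map_add, Preadditive.add_comp]
  rw [h2, h1, h1, h1, Functor.map_add]
  exact Preadditive.add_comp _ _ _ _ _ _

section Lin

variable (k : Type u) [CommRing k] [X.Over (Spec (CommRingCat.of k))]

lemma tensorBi_obj_map_smul_id (M N : X.Modules) (a : k) :
    (DCoh.tensorBi.obj M).map (a • 𝟙 N) = a • 𝟙 ((DCoh.tensorBi.obj M).obj N) := by
  have h := ((tensorBiFlipIso X).app M).hom.naturality (a • 𝟙 N)
  rw [← cancel_epi (((tensorBiFlipIso X).app M).hom.app N)]
  refine h.symm.trans ?_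
  show (DCoh.tensorBi.map (a • 𝟙 N)).app M ≫ _ = _
  rw [LinTensor.tensorBi_map_smul_id, Linear.smul_comp, Category.id_comp, Linear.comp_smul, Category.comp_id]

lemma tensorCx_obj_map_smul_id (R E : CochainComplex X.Modules ℤ) (a : k) :
    (DCoh.tensorCx.obj R).map (a • 𝟙 E) = a • 𝟙 ((DCoh.tensorCx.obj R).obj E) := by
  refine HomologicalComplex.hom_ext _ _ fun n => ?_
  change (HomologicalComplex.mapBifunctorMap (𝟙 R) (a • 𝟙 E) DCoh.tensorBi (ComplexShape.up ℤ)).f n =
    (a • 𝟙 (HomologicalComplex.mapBifunctor R E DCoh.tensorBi (ComplexShape.up ℤ))).f n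
  refine HomologicalComplex.mapBifunctor.hom_ext fun p q h => ?_
  change p + q = n at h
  change HomologicalComplex.ιMapBifunctor R E DCoh.tensorBi (ComplexShape.up ℤ) p q n h ≫ (HomologicalComplex.mapBifunctorMap (𝟙 R) (a • 𝟙 E) DCoh.tensorBi (ComplexShape.up ℤ)).f n = _
  rw [HomologicalComplex.ι_mapBifunctorMap]
  rw [HomologicalComplex.smul_f_apply, HomologicalComplex.id_f, HomologicalComplex.id_f,
    tensorBi_obj_map_smul_id, CategoryTheory.Functor.map_id, HomologicalComplex.smul_f_apply,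
    HomologicalComplex.id_f, NatTrans.id_app, Category.id_comp, Linear.smul_comp, Category.id_comp,
    Linear.comp_smul, Category.comp_id]

lemma iHomMap_smul_id (P : CochainComplex X.Modules ℤ) (a : k) (I : CochainComplex X.Modules ℤ) :
    (iHomMap (a • 𝟙 P)).app I = a • 𝟙 ((iHom P).obj I) := by
  apply ((iHomAdj P).homEquiv _ _).symm.injective
  have h1 := Inner.homEquiv_innerMap (DCoh.tensorBi (X := X)) (a • 𝟙 P) (I := I) (𝟙 ((iHom P).obj I))
  rw [Category.id_comp] at h1
  rw [h1, Adjunction.homEquiv_counit, Adjunction.homEquiv_counit, CategoryTheory.Functor.map_id, Category.id_comp]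
  show (DCoh.tensorCx.obj ((iHom P).obj I)).map (a • 𝟙 P) ≫ _ =
    (DCoh.tensorCx.flip.obj P).map (a • 𝟙 ((iHom P).obj I)) ≫ _
  rw [tensorCx_obj_map_smul_id, LinTensor.tensorCx_map_smul_id]
  rfl

lemma iHomMap_smul {P Q : CochainComplex X.Modules ℤ} (a : k) (f : P ⟶ Q) (I : CochainComplex X.Modules ℤ) :
    (iHomMap (a • f)).app I = a • (iHomMap f).app I := by
  rw [show a • f = (a • 𝟙 P) ≫ f by rw [Linear.smul_comp, Category.id_comp], iHomMap_comp,
    NatTrans.comp_app, iHomMap_smul_id, Linear.comp_smul, Category.comp_id]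

end Lin

variable (X)

/-- The dual on complexes. -/
def dCx : (CochainComplex X.Modules ℤ)ᵒᵖ ⥤ DCoh.D X where
  obj P := DerivedCategory.Q.obj ((iHom P.unop).obj (I0 X))
  map g := DerivedCategory.Q.map ((iHomMap g.unop).app (I0 X))
  map_id P := by rw [unop_id, iHomMap_id]; exact DerivedCategory.Q.map_id _
  map_comp f g := by rw [unop_comp, iHomMap_comp, NatTrans.comp_app, Functor.map_comp]

lemma dCx_inverts : (qisX X).op.IsInvertedBy (dCx X) := fun P Q g hg => by
  haveI : QuasiIso g.unop := (HomologicalComplex.mem_quasiIso_iff _).1 hg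
  haveI := quasiIso_iHomMap g.unop (I0 X)
  exact isIso_Q_map _ inferInstance

/-- The derived dual. -/
def dual : (DCoh.D X)ᵒᵖ ⥤ DCoh.D X :=
  Localization.lift (dCx X) (dCx_inverts X) DerivedCategory.Q.op

/-- The dual computed on complexes. -/
def dualFac : DerivedCategory.Q.op ⋙ dual X ≅ dCx X :=
  Localization.fac _ _ _

variable {X}

/-- A representative by a K-injective complex. -/
theorem exists_rep (A : DCoh.D X) : ∃ J : CochainComplex X.Modules ℤ, J.IsKInjective ∧
    (∀ n, Injective (J.X n)) ∧ Nonempty (DerivedCategory.Q.obj J ≅ A) := by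
  obtain ⟨J, f, hJ, hf, -, hinj⟩ :=
    TriCat.exists_kInjective_resolution'.{u} (DerivedCategory.Q.objPreimage A)
  haveI := isIso_Q_map f hf
  exact ⟨J, hJ, hinj, ⟨(asIso (DerivedCategory.Q.map f)).symm ≪≫ DerivedCategory.Q.objObjPreimageIso A⟩⟩

lemma dual_map_Q {P Q : CochainComplex X.Modules ℤ} (g : P ⟶ Q) :
    (dual X).map (DerivedCategory.Q.map g).op =
      (dualFac X).hom.app (op Q) ≫ DerivedCategory.Q.map ((iHomMap g).app (I0 X)) ≫
        (dualFac X).inv.app (op P) := by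
  have h := (dualFac X).hom.naturality g.op
  rw [← Category.assoc, ← show _ = (dualFac X).hom.app (op Q) ≫ DerivedCategory.Q.map ((iHomMap g).app (I0 X)) from h,
    Category.assoc, Iso.hom_inv_id_app, Category.comp_id]
  rfl

theorem dual_map_add {A B : DCoh.D X} (f g : A ⟶ B) :
    (dual X).map (f + g).op = (dual X).map f.op + (dual X).map g.op := by
  obtain ⟨P, -, -, ⟨eA⟩⟩ := exists_rep A
  obtain ⟨Q, hQ, -, ⟨eB⟩⟩ := exists_rep B
  haveI := hQ
  obtain ⟨f', hf⟩ := exists_Q_map (eA.hom ≫ f ≫ eB.inv)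
  obtain ⟨g', hg⟩ := exists_Q_map (eA.hom ≫ g ≫ eB.inv)
  have hfg : DerivedCategory.Q.map (f' + g') = eA.hom ≫ (f + g) ≫ eB.inv := by
    rw [Functor.map_add, hf, hg, Preadditive.add_comp, Preadditive.comp_add]
  have key : ∀ (φ : A ⟶ B) (φ' : P ⟶ Q), DerivedCategory.Q.map φ' = eA.hom ≫ φ ≫ eB.inv →
      (dual X).map φ.op = (dual X).map eB.hom.op ≫ (dual X).map (DerivedCategory.Q.map φ').op ≫
        (dual X).map eA.inv.op := fun φ φ' h => by
    rw [← Functor.map_comp, ← Functor.map_comp, ← op_comp, ← op_comp, h]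
    simp
  rw [key _ _ hf, key _ _ hg, key _ _ hfg, dual_map_Q, dual_map_Q, dual_map_Q, iHomMap_add,
    Functor.map_add]
  simp only [Preadditive.add_comp, Preadditive.comp_add, Category.assoc]

instance : (dual X).Additive where
  map_add {_ _ f g} := dual_map_add f.unop g.unop

theorem dual_map_smul (k : Type u) [CommRing k] [X.Over (Spec (CommRingCat.of k))] {A B : DCoh.D X}
    (a : k) (f : A ⟶ B) : (dual X).map (a • f).op = a • (dual X).map f.op := by
  obtain ⟨P, -, -, ⟨eA⟩⟩ := exists_rep A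
  obtain ⟨Q, hQ, -, ⟨eB⟩⟩ := exists_rep B
  haveI := hQ
  obtain ⟨f', hf⟩ := exists_Q_map (eA.hom ≫ f ≫ eB.inv)
  have hfa : DerivedCategory.Q.map (a • f') = eA.hom ≫ (a • f) ≫ eB.inv := by
    rw [Functor.map_smul, hf, Linear.smul_comp, Linear.comp_smul]
  have key : ∀ (φ : A ⟶ B) (φ' : P ⟶ Q), DerivedCategory.Q.map φ' = eA.hom ≫ φ ≫ eB.inv →
      (dual X).map φ.op = (dual X).map eB.hom.op ≫ (dual X).map (DerivedCategory.Q.map φ').op ≫
        (dual X).map eA.inv.op := fun φ φ' h => by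
    rw [← Functor.map_comp, ← Functor.map_comp, ← op_comp, ← op_comp, h]
    simp
  rw [key _ _ hf, key _ _ hfa, dual_map_Q, dual_map_Q, iHomMap_smul, Functor.map_smul]
  simp only [Linear.comp_smul, Linear.smul_comp]

theorem isPerfect_dual {A : DCoh.D X} (hA : DCoh.IsPerfect A) :
    DCoh.IsPerfect ((dual X).obj (op A)) := by
  obtain ⟨P, -, -, ⟨e⟩⟩ := exists_rep A
  have hP : DCoh.IsPerfect (DCoh.toD X P) :=
    (isPerfect_iff _).2 (((isPerfect_iff _).1 hA).of_iso e.symm)
  haveI := isIso_Q_map (ι0 X) inferInstance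
  exact (isPerfect_iff _).2 (((isPerfect_iff _).1 (isPerfect_iHom P hP (I0 X)
    (locSP_structure.of_iso (asIso (DerivedCategory.Q.map (ι0 X)))))).of_iso
      (((dualFac X).app (op P)).symm ≪≫ (dual X).mapIso e.symm.op))

variable (X) in
/-- The dual of a distinguished triangle is distinguished. -/
theorem exists_dual_triangle (T : Triangle (DCoh.D X)) (hT : T ∈ distTriang (DCoh.D X)) :
    ∃ δ, Triangle.mk ((dual X).map T.mor₂.op) ((dual X).map T.mor₁.op) δ ∈ distTriang (DCoh.D X) := by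
  obtain ⟨K, L, φ, ⟨e⟩⟩ := (DerivedCategory.mem_distTriang_iff _).1 (inv_rot_of_distTriang _ hT)
  let S := CochainComplex.mappingCone.triangleRotateShortComplex φ
  let e' : T ≅ DerivedCategory.Q.mapTriangle.obj (CochainComplex.mappingCone.triangle φ).rotate :=
    (triangleRotation (DCoh.D X)).counitIso.symm.app T ≪≫ (rotate _).mapIso e ≪≫
      DerivedCategory.Q.mapTriangleRotateIso.app (CochainComplex.mappingCone.triangle φ)
  let i₁ : T.obj₁ ≅ DerivedCategory.Q.obj S.X₁ := Triangle.π₁.mapIso e'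
  let i₂ : T.obj₂ ≅ DerivedCategory.Q.obj S.X₂ := Triangle.π₂.mapIso e'
  let i₃ : T.obj₃ ≅ DerivedCategory.Q.obj S.X₃ := Triangle.π₃.mapIso e'
  have h₁ : T.mor₁ ≫ i₂.hom = i₁.hom ≫ DerivedCategory.Q.map S.f := e'.hom.comm₁
  have h₂ : T.mor₂ ≫ i₃.hom = i₂.hom ≫ DerivedCategory.Q.map S.g := e'.hom.comm₂
  obtain ⟨w, hse⟩ := Inner.innerHom_shortExact (DCoh.tensorBi (X := X)) S
    (fun n => ⟨CochainComplex.mappingCone.triangleRotateShortComplexSplitting φ n⟩) (I0 X)
  let T' := DerivedCategory.triangleOfSES hse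
  let j₁ := (dual X).mapIso i₁.symm.op ≪≫ (dualFac X).app (op S.X₁)
  let j₂ := (dual X).mapIso i₂.symm.op ≪≫ (dualFac X).app (op S.X₂)
  let j₃ := (dual X).mapIso i₃.symm.op ≪≫ (dualFac X).app (op S.X₃)
  have key : ∀ {A B : DCoh.D X} {P Q : CochainComplex X.Modules ℤ} (f : A ⟶ B) (g : P ⟶ Q)
      (a : A ≅ DerivedCategory.Q.obj P) (b : B ≅ DerivedCategory.Q.obj Q),
      f ≫ b.hom = a.hom ≫ DerivedCategory.Q.map g →
      (dual X).map f.op ≫ ((dual X).mapIso a.symm.op ≪≫ (dualFac X).app (op P)).hom =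
        ((dual X).mapIso b.symm.op ≪≫ (dualFac X).app (op Q)).hom ≫
          DerivedCategory.Q.map ((iHomMap g).app (I0 X)) := fun {A B P Q} f g a b h => by
    have hn : (dual X).map (DerivedCategory.Q.map g).op ≫ (dualFac X).hom.app (op P) =
        (dualFac X).hom.app (op Q) ≫ DerivedCategory.Q.map ((iHomMap g).app (I0 X)) :=
      (dualFac X).hom.naturality g.op
    simp only [Iso.trans_hom, Functor.mapIso_hom, Iso.app_hom, Category.assoc, ← hn]
    simp only [← Category.assoc, ← Functor.map_comp]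
    congr 2
    show (a.inv ≫ f).op = (DerivedCategory.Q.map g ≫ b.inv).op
    congr 1
    rw [← cancel_mono b.hom, Category.assoc, h, Category.assoc, Iso.inv_hom_id, Category.comp_id,
      Iso.inv_hom_id_assoc]
  refine ⟨j₁.hom ≫ T'.mor₃ ≫ j₃.inv⟦(1 : ℤ)⟧', isomorphic_distinguished _
    (DerivedCategory.triangleOfSES_distinguished hse) _ (Triangle.isoMk _ _ j₃ j₂ j₁
      (key _ _ i₂ i₃ h₂) (key _ _ i₁ i₂ h₁) ?_)⟩
  show (j₁.hom ≫ T'.mor₃ ≫ j₃.inv⟦(1 : ℤ)⟧') ≫ j₃.hom⟦(1 : ℤ)⟧' = j₁.hom ≫ T'.mor₃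
  rw [Category.assoc, Category.assoc, ← Functor.map_comp, Iso.inv_hom_id, CategoryTheory.Functor.map_id,
    Category.comp_id]

open scoped ZeroObject in
/-- The dual reverses shifts. -/
theorem nonempty_dual_shift (A : DCoh.D X) (n : ℤ) :
    Nonempty ((dual X).obj (op (A⟦n⟧)) ≅ ((dual X).obj (op A))⟦-n⟧) := by
  have h1 : ∀ B : DCoh.D X, Nonempty ((dual X).obj (op B) ≅ ((dual X).obj (op (B⟦(1 : ℤ)⟧)))⟦(1 : ℤ)⟧) := fun B => by
    obtain ⟨δ, hδ⟩ := exists_dual_triangle X _ (rot_of_distTriang _ (contractible_distinguished B))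
    have hz : IsZero ((dual X).obj (op (0 : DCoh.D X))) :=
      (dual X).map_isZero (isZero_zero (DCoh.D X)).op
    haveI : IsIso δ := (Triangle.isZero₂_iff_isIso₃ _ hδ).1 hz
    exact ⟨asIso δ⟩
  let d := fun m : ℤ => (dual X).obj (op (A⟦m⟧))
  have step : ∀ m : ℤ, Nonempty (d m ≅ (d (m + 1))⟦(1 : ℤ)⟧) := fun m => by
    obtain ⟨e⟩ := h1 (A⟦m⟧)
    exact ⟨e ≪≫ (shiftFunctor _ 1).mapIso ((dual X).mapIso ((shiftFunctorAdd' (DCoh.D X) m 1 (m + 1) rfl).app A).op)⟩
  induction n using Int.induction_on with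
  | zero =>
    exact ⟨(dual X).mapIso ((shiftFunctorZero _ ℤ).app A).symm.op ≪≫
      ((shiftFunctorZero (DCoh.D X) ℤ).app _).symm ≪≫ eqToIso (by rw [neg_zero]; rfl)⟩
  | succ m ih =>
    obtain ⟨e⟩ := ih
    obtain ⟨s⟩ := step m
    exact ⟨((shiftFunctorCompIsoId (DCoh.D X) 1 (-1) (by omega)).app _).symm ≪≫
      (shiftFunctor _ (-1 : ℤ)).mapIso (s.symm ≪≫ e) ≪≫
      ((shiftFunctorAdd' (DCoh.D X) (-(m : ℤ)) (-1) (-((m : ℤ) + 1)) (by omega)).app _).symm⟩
  | pred m ih =>
    obtain ⟨e⟩ := ih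
    obtain ⟨s⟩ := step (-(m : ℤ) - 1)
    exact ⟨s ≪≫ (shiftFunctor _ (1 : ℤ)).mapIso (eqToIso (congrArg d (by omega : -(m : ℤ) - 1 + 1 = -(m : ℤ))) ≪≫ e) ≪≫
      ((shiftFunctorAdd' (DCoh.D X) (- -(m : ℤ)) 1 (-(-(m : ℤ) - 1)) (by omega)).app _).symm⟩

variable (X) in
/-- The cover of `iHom(I, I)`. -/
abbrev R0 : CochainComplex X.Modules ℤ := (kRes X).obj ((iHom (I0 X)).obj (I0 X))

variable (X) in
/-- The composition `R ⊗ I ⟶ I`. -/
def c0 : (DCoh.tensorCx.obj (R0 X)).obj (I0 X) ⟶ I0 X :=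
  ((iHomAdj (I0 X)).homEquiv (R0 X) (I0 X)).symm ((flatCover X).ψ.app ((iHom (I0 X)).obj (I0 X)))

variable (X) in
theorem quasiIso_c0 : QuasiIso ((iHomAdj (I0 X)).homEquiv _ _ (c0 X)) := by
  have h : (iHomAdj (I0 X)).homEquiv _ _ (c0 X) = (flatCover X).ψ.app ((iHom (I0 X)).obj (I0 X)) :=
    Equiv.apply_symm_apply _ _
  rw [h]
  exact (flatCover X).quasiIso_ψ _

variable (X) in
theorem nonempty_R0_iso : Nonempty (DerivedCategory.Q.obj (R0 X) ≅ DerivedCategory.Q.obj (O0 X)) := by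
  obtain ⟨e⟩ := nonempty_iHomUnitIso (X := X) 0
  haveI : QuasiIso ((flatCover X).ψ.app ((iHom (I0 X)).obj (I0 X))) := (flatCover X).quasiIso_ψ _
  haveI := quasiIso_iHomMap (ι0 X) (I0 X)
  haveI := isIso_Q_map ((flatCover X).ψ.app ((iHom (I0 X)).obj (I0 X))) inferInstance
  haveI := isIso_Q_map ((iHomMap (ι0 X)).app (I0 X)) inferInstance
  haveI := isIso_Q_map (ι0 X) inferInstance
  exact ⟨asIso (DerivedCategory.Q.map ((flatCover X).ψ.app ((iHom (I0 X)).obj (I0 X)))) ≪≫
    asIso (DerivedCategory.Q.map ((iHomMap (ι0 X)).app (I0 X))) ≪≫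
    DerivedCategory.Q.mapIso (e.app (I0 X) ≪≫ (shiftFunctorZero _ ℤ).app (I0 X)) ≪≫
    (asIso (DerivedCategory.Q.map (ι0 X))).symm⟩

variable (X) in
/-- `R ⊗ P ≅ P` naturally. -/
theorem nonempty_unitor : Nonempty (DCoh.tensorCx.obj (R0 X) ⋙ DerivedCategory.Q ≅ DerivedCategory.Q) := by
  haveI := hasLTensorCx (R0 X)
  haveI := hasLTensorCx (O0 X)
  obtain ⟨eR⟩ := nonempty_R0_iso X
  obtain ⟨cR⟩ := nonempty_LTensorCx_congr_D eR
  obtain ⟨eL⟩ := DiagKernel.nonempty_iso_of_res (F := DCoh.LTensorCx (O0 X)) (G := 𝟭 (DCoh.D X))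
    (DiagKernel.ltcResIso (O0 X) ≪≫ Functor.isoWhiskerLeft (kRes X)
      (Functor.isoWhiskerRight (singleIso DCoh.tensorBi (Coh.structureModule X) ≪≫
        NatIso.mapHomologicalComplex (tensorStructureIso X) (ComplexShape.up ℤ) ≪≫
        Functor.mapHomologicalComplexIdIso _ _) DerivedCategory.Q ≪≫ Functor.leftUnitor _) ≪≫ resQIso X)
    (Functor.rightUnitor _)
  let c := (DCoh.tensorCxQ (R0 X)).totalLeftDerivedCounit DerivedCategory.Q (qisX X)
  haveI : ∀ N, IsIso (c.app N) := fun N =>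
    isIso_LTensorCx_counit_of_isKFlat_right (R0 X) (isKFlat_kRes _) N
  haveI : IsIso c := NatIso.isIso_of_isIso_app _
  exact ⟨Functor.isoWhiskerRight (symmIso (tensorBiFlipIso X) (R0 X)).symm DerivedCategory.Q ≪≫
    (asIso c).symm ≪≫ Functor.isoWhiskerLeft DerivedCategory.Q (cR ≪≫ eL) ≪≫ Functor.rightUnitor _⟩

variable (X) in
/-- The evaluation into the double dual, on complexes. -/
def toDD (P : CochainComplex X.Modules ℤ) :
    DerivedCategory.Q.obj P ⟶ (dual X).obj (op ((dual X).obj (op (DerivedCategory.Q.obj P)))) :=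
  (nonempty_unitor X).some.inv.app P ≫ DerivedCategory.Q.map (coevalMap (R0 X) (I0 X) (I0 X) (c0 X) P) ≫
    (dualFac X).inv.app (op ((iHom P).obj (I0 X))) ≫ (dual X).map ((dualFac X).hom.app (op P)).op

theorem isIso_toDD {P : CochainComplex X.Modules ℤ} (hP : DCoh.IsPerfect (DCoh.toD X P)) :
    IsIso (toDD X P) := by
  haveI := quasiIso_coevalMap (R0 X) (I0 X) (I0 X) (c0 X) (isKFlat_kRes _) (isFlat_kRes _)
    (quasiIso_c0 X) P hP
  haveI := isIso_Q_map (coevalMap (R0 X) (I0 X) (I0 X) (c0 X) P) inferInstance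
  unfold toDD
  infer_instance

theorem toDD_naturality {P Q : CochainComplex X.Modules ℤ} (g : P ⟶ Q) :
    DerivedCategory.Q.map g ≫ toDD X Q =
      toDD X P ≫ (dual X).map ((dual X).map (DerivedCategory.Q.map g).op).op := by
  have h1 := (nonempty_unitor X).some.inv.naturality g
  have h2 := congrArg (fun x => DerivedCategory.Q.map x) (coevalMap_naturality (R0 X) (I0 X) (I0 X) (c0 X) g)
  simp only [Functor.map_comp] at h2
  have h3 := (dualFac X).inv.naturality ((iHomMap g).app (I0 X)).op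
  have h4 : (dual X).map (DerivedCategory.Q.map g).op ≫ (dualFac X).hom.app (op P) =
      (dualFac X).hom.app (op Q) ≫ DerivedCategory.Q.map ((iHomMap g).app (I0 X)) :=
    (dualFac X).hom.naturality g.op
  unfold toDD
  rw [reassoc_of% h1]
  simp only [Functor.comp_map, Category.assoc]
  rw [reassoc_of% h2]
  erw [reassoc_of% h3]
  refine congrArg (fun z => _ ≫ _ ≫ _ ≫ z) ?_
  refine Eq.trans ?_ ((dual X).map_comp _ _)
  exact (((dual X).map_comp _ _).symm.trans (congrArg (fun z => (dual X).map z.op) h4.symm))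

/-- The dual is fully faithful on perfect objects and involutive. -/
theorem exists_bidual :
    ∃ e : ∀ A : DCoh.D X, DCoh.IsPerfect A → (A ≅ (dual X).obj (op ((dual X).obj (op A)))),
      ∀ (A B : DCoh.D X) (hA : DCoh.IsPerfect A) (hB : DCoh.IsPerfect B) (f : A ⟶ B),
        f ≫ (e B hB).hom = (e A hA).hom ≫ (dual X).map ((dual X).map f.op).op := by
  choose J hJ hJi hiso using fun A : DCoh.D X => exists_rep A
  let r := fun A => (hiso A).some
  have hp : ∀ A, DCoh.IsPerfect A → DCoh.IsPerfect (DCoh.toD X (J A)) := fun A hA =>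
    (isPerfect_iff _).2 (((isPerfect_iff _).1 hA).of_iso (r A).symm)
  let i : ∀ A (hA : DCoh.IsPerfect A), DerivedCategory.Q.obj (J A) ≅
      (dual X).obj (op ((dual X).obj (op (DerivedCategory.Q.obj (J A))))) := fun A hA =>
    haveI := isIso_toDD (hp A hA); asIso (toDD X (J A))
  refine ⟨fun A hA => (r A).symm ≪≫ i A hA ≪≫
    (dual X).mapIso (((dual X).mapIso (r A).op)).op, fun A B hA hB f => ?_⟩
  haveI := hJ B
  obtain ⟨g, hg⟩ := exists_Q_map ((r A).hom ≫ f ≫ (r B).inv)
  have hn := toDD_naturality g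
  rw [hg] at hn
  show f ≫ (r B).inv ≫ toDD X (J B) ≫ _ = ((r A).inv ≫ toDD X (J A) ≫ _) ≫ _
  rw [← cancel_epi (r A).hom]
  simp only [Category.assoc, Iso.hom_inv_id_assoc]
  simp only [Category.assoc] at hn
  rw [reassoc_of% hn]
  simp only [Functor.mapIso_hom, Iso.op_hom, ← Functor.map_comp, ← op_comp, Category.assoc]
  congr 4
  simp

/-- The dual is faithful on perfect objects. -/
theorem dual_map_injective {A B : DCoh.D X} (hA : DCoh.IsPerfect A) (hB : DCoh.IsPerfect B) :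
    Function.Injective fun f : A ⟶ B => (dual X).map f.op := fun f g h => by
  obtain ⟨e, he⟩ := exists_bidual (X := X)
  rw [← cancel_mono (e B hB).hom, he A B hA hB, he A B hA hB]
  exact congrArg (fun z => (e A hA).hom ≫ (dual X).map z.op) h

/-- The dual is full on perfect objects. -/
theorem dual_map_surjective {A B : DCoh.D X} (hA : DCoh.IsPerfect A) (hB : DCoh.IsPerfect B) :
    Function.Surjective fun f : A ⟶ B => (dual X).map f.op := fun g => by
  obtain ⟨e, he⟩ := exists_bidual (X := X)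
  refine ⟨(e A hA).hom ≫ (dual X).map g.op ≫ (e B hB).inv, ?_⟩
  apply dual_map_injective (isPerfect_dual hB) (isPerfect_dual hA)
  show (dual X).map ((dual X).map ((e A hA).hom ≫ (dual X).map g.op ≫ (e B hB).inv).op).op =
    (dual X).map g.op
  rw [← cancel_epi (e A hA).hom, ← he A B hA hB]
  simp

end Groth.Agent.DEqLib.Sib.Dual
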