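import Mathlib

/-! Resolutions by iterated epimorphisms. -/

universe v u

open CategoryTheory CategoryTheory.Limits

set_option backward.isDefEq.respectTransparency false

namespace Groth.Agent.DEqLib.Sib.EpiRes

variable {C : Type u} [Category.{v} C] [Abelian C]

lemma exact_comp {A B M N : C} (π : B ⟶ M) (σ : A ⟶ kernel π) [Epi σ] (m : M ⟶ N) [Mono m] :
    (ShortComplex.mk (σ ≫ kernel.ι π) (π ≫ m) (by simp)).Exact := by
  let α : ShortComplex.mk (σ ≫ kernel.ι π) π (by simp) ⟶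
      ShortComplex.mk (kernel.ι π) π (kernel.condition π) :=
    { τ₁ := σ, τ₂ := 𝟙 _, τ₃ := 𝟙 _ }
  have h : (ShortComplex.mk (σ ≫ kernel.ι π) π (by simp)).Exact := by
    rw [ShortComplex.exact_iff_of_epi_of_isIso_of_mono α]
    exact ShortComplex.exact_kernel π
  let β : ShortComplex.mk (σ ≫ kernel.ι π) π (by simp) ⟶
      ShortComplex.mk (σ ≫ kernel.ι π) (π ≫ m) (by simp) :=
    { τ₁ := 𝟙 _, τ₂ := 𝟙 _, τ₃ := m }
  exact (ShortComplex.exact_iff_of_epi_of_isIso_of_mono β).1 h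

/-- If every object with `P` receives an epimorphism from a `T` whose kernel again has `P`, then
every object with `P` has a left resolution by `T`s. -/
theorem exists_resolution (P T : C → Prop)
    (step : ∀ M, P M → ∃ (X : C) (π : X ⟶ M), Epi π ∧ T X ∧ P (kernel π)) {M : C} (hM : P M) :
    ∃ (K : ChainComplex C ℕ) (p : K ⟶ (ChainComplex.single₀ C).obj M), QuasiIso p ∧ ∀ n, T (K.X n) := by
  choose X π hπ hT hK using step
  let S : ℕ → {N : C // P N} := Nat.rec ⟨M, hM⟩ fun _ N => ⟨kernel (π N.1 N.2), hK N.1 N.2⟩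
  let Y : ℕ → C := fun n => X (S n).1 (S n).2
  let q : ∀ n, Y n ⟶ (S n).1 := fun n => π (S n).1 (S n).2
  haveI : ∀ n, Epi (q n) := fun n => hπ _ _
  let d : ∀ n, Y (n + 1) ⟶ Y n := fun n => q (n + 1) ≫ kernel.ι (q n)
  have hd : ∀ n, d (n + 1) ≫ d n = 0 := fun n => by simp [d, S]
  let K : ChainComplex C ℕ := ChainComplex.of Y d hd
  have hKd : ∀ n, K.d (n + 1) n = d n := fun n => by simp [K]
  have hq : K.d 1 0 ≫ q 0 = 0 := by
    rw [hKd 0]; simp [d, S]
  refine ⟨K, (ChainComplex.toSingle₀Equiv K M).symm ⟨q 0, hq⟩, ⟨fun n => ?_⟩, fun n => hT _ _⟩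
  cases n with
  | zero =>
    rw [ChainComplex.quasiIsoAt₀_iff, ShortComplex.quasiIso_iff_of_zeros' _ rfl rfl rfl]
    refine (ShortComplex.exact_and_epi_g_iff_of_iso ?_).2
      (⟨exact_comp (q 0) (q 1) (𝟙 M), inferInstance⟩ : (ShortComplex.mk (q 1 ≫ kernel.ι (q 0)) (q 0 ≫ 𝟙 M) (by simp)).Exact ∧ Epi (q 0 ≫ 𝟙 M))
    exact ShortComplex.isoMk (Iso.refl _) (Iso.refl _) (Iso.refl _)
      ((Category.id_comp _).trans ((hKd 0).symm.trans (Category.comp_id _).symm)) (by simp; exact Category.comp_id _)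
  | succ n =>
    rw [quasiIsoAt_iff_exactAt']
    · rw [HomologicalComplex.exactAt_iff' _ (n + 1 + 1) (n + 1) n (by simp) (by simp)]
      refine ShortComplex.exact_of_iso ?_ (exact_comp (q (n + 1)) (q (n + 1 + 1)) (kernel.ι (q n)))
      exact ShortComplex.isoMk (Iso.refl _) (Iso.refl _) (Iso.refl _)
        ((Category.id_comp _).trans ((hKd (n + 1)).trans (Category.comp_id _).symm)) ((Category.id_comp _).trans ((hKd n).trans (Category.comp_id _).symm))
    · apply ChainComplex.exactAt_succ_single_obj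

end Groth.Agent.DEqLib.Sib.EpiRes
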