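import Groth.Agent.FlatMisc.Fibrewise
import Groth.Agent.ConsPropLib.FibreIso

/-! A morphism of proper schemes, flat source, which is an isomorphism on one fibre is an
isomorphism over a neighbourhood. -/

universe u

open CategoryTheory CategoryTheory.Limits AlgebraicGeometry

set_option linter.style.haveILetI false

namespace Groth.Agent.DEqLib.Sib

variable {X Y S : Scheme.{u}}

theorem exists_shrink (h : Y ⟶ S) (hh : IsClosedMap h.base) (s : S) (O : Y.Opens)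
    (hO : ∀ y, h y = s → y ∈ O) : ∃ U : S.Opens, s ∈ U ∧ h ⁻¹ᵁ U ≤ O :=
  ⟨⟨(h.base '' (O : Set Y)ᶜ)ᶜ, (hh _ O.2.isClosed_compl).isOpen_compl⟩,
    fun ⟨y, hy, hys⟩ => hy (hO y hys), fun y hy => by_contra fun hn => hy ⟨y, hn, rfl⟩⟩

/-- Smoothness and surjectivity spread out from a fibre on which the morphism is an isomorphism. -/
theorem exists_nhd_smooth_surjective (p : X ⟶ Y) (h : Y ⟶ S) [LocallyOfFiniteType h]
    [LocallyOfFinitePresentation (p ≫ h)] [LocallyOfFinitePresentation p] [Flat (p ≫ h)]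
    (hX : IsClosedMap (p ≫ h).base) (hY : IsClosedMap h.base) (s : S)
    (hs : IsIso (pullback.snd p (h.fiberι s))) :
    ∃ U : S.Opens, s ∈ U ∧ ∀ U' ≤ U, Smooth (p ∣_ (h ⁻¹ᵁ U')) ∧ Surjective (p ∣_ (h ⁻¹ᵁ U')) := by
  obtain ⟨U₁, hs₁, hU₁⟩ := exists_shrink (p ≫ h) hX s p.smoothLocus fun x hx => by
    refine FlatMisc.smooth_stalk_of_smooth_fibre h p x (Flat.stalkMap _ _) ?_
    rw [show h (p x) = s from hx]
    infer_instance
  have hsm : ∀ U' ≤ U₁, Smooth (p ∣_ (h ⁻¹ᵁ U')) := fun U' hU' => by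
    haveI : LocallyOfFinitePresentation (p ∣_ (h ⁻¹ᵁ U')) := inferInstance
    haveI : Smooth ((p ⁻¹ᵁ (h ⁻¹ᵁ U')).ι ≫ p) := by
      rw [← Scheme.Hom.smoothLocus_eq_top_iff, ← Scheme.Hom.preimage_smoothLocus_eq, eq_top_iff]
      intro x _
      exact hU₁ (show (p ≫ h) x.1 ∈ U₁ from hU' x.2)
    haveI : Smooth ((p ∣_ (h ⁻¹ᵁ U')) ≫ (h ⁻¹ᵁ U').ι) := by rw [morphismRestrict_ι]; infer_instance
    refine MorphismProperty.of_isPullback (P := @Smooth) (f := (h ⁻¹ᵁ U').ι)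
      (g := (p ∣_ (h ⁻¹ᵁ U')) ≫ (h ⁻¹ᵁ U').ι) (f' := 𝟙 _) ?_ inferInstance
    exact ⟨⟨by simp⟩, ⟨PullbackCone.IsLimit.mk _ (fun c => c.fst) (fun c => Category.comp_id _)
      (fun c => by rw [← cancel_mono (h ⁻¹ᵁ U').ι, Category.assoc]; exact c.condition)
      (fun c m h1 _ => (Category.comp_id m).symm.trans h1)⟩⟩
  haveI : Smooth (p ∣_ (h ⁻¹ᵁ U₁)) := hsm U₁ le_rfl
  haveI : Smooth ((p ⁻¹ᵁ (h ⁻¹ᵁ U₁)).ι ≫ p) := by rw [← morphismRestrict_ι]; infer_instance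
  have hopen : IsOpen (Set.range ((p ⁻¹ᵁ (h ⁻¹ᵁ U₁)).ι ≫ p)) :=
    ((p ⁻¹ᵁ (h ⁻¹ᵁ U₁)).ι ≫ p).isOpenMap.isOpen_range
  obtain ⟨U₂, hs₂, hU₂⟩ := exists_shrink h hY s ⟨_, hopen⟩ fun y hy => by
    obtain ⟨y', rfl⟩ : y ∈ Set.range (h.fiberι s) := by rw [Scheme.Hom.range_fiberι]; exact hy
    haveI := hs
    obtain ⟨x', rfl⟩ := (pullback.snd p (h.fiberι s)).surjective y'
    have he : p (pullback.fst p (h.fiberι s) x') = h.fiberι s (pullback.snd p (h.fiberι s) x') := by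
      rw [← Scheme.Hom.comp_apply, ← Scheme.Hom.comp_apply, pullback.condition]
    refine ⟨⟨pullback.fst p (h.fiberι s) x', ?_⟩, he⟩
    show h (p _) ∈ U₁
    rw [he]
    rw [hy]
    exact hs₁
  refine ⟨U₁ ⊓ U₂, ⟨hs₁, hs₂⟩, fun U' hU' => ⟨hsm U' (hU'.trans inf_le_left), ⟨fun y => ?_⟩⟩⟩
  obtain ⟨x, hx⟩ := hU₂ (show y.1 ∈ h ⁻¹ᵁ U₂ from (hU' y.2).2)
  have hx' : p x.1 = y.1 := hx
  refine ⟨⟨x.1, show p x.1 ∈ h ⁻¹ᵁ U' by rw [hx']; exact y.2⟩, Subtype.ext ?_⟩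
  rw [morphismRestrict_base]
  exact hx'

theorem exists_nhd_isIso_restrict (p : X ⟶ Y) (h : Y ⟶ S) [IsLocallyNoetherian S] [IsProper h]
    [IsProper (p ≫ h)] [Flat (p ≫ h)] (s : S) (hs : IsIso (pullback.snd p (h.fiberι s))) :
    ∃ U : S.Opens, s ∈ U ∧ IsIso (p ∣_ (h ⁻¹ᵁ U)) := by
  haveI : IsLocallyNoetherian Y := LocallyOfFiniteType.isLocallyNoetherian h
  haveI : IsProper p := IsProper.of_comp p h
  haveI : IsLocallyNoetherian X := LocallyOfFiniteType.isLocallyNoetherian p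
  obtain ⟨U₁, hs₁, hU₁⟩ := exists_nhd_smooth_surjective p h (Scheme.Hom.isClosedMap _)
    (Scheme.Hom.isClosedMap _) s hs
  -- the diagonal
  let k : pullback p p ⟶ S := pullback.fst p p ≫ p ≫ h
  let Δ := pullback.diagonal p
  have hk : Δ ≫ k = p ≫ h := pullback.diagonal_fst_assoc p (p ≫ h)
  haveI : IsProper k := inferInstance
  haveI : IsLocallyNoetherian (pullback p p) := LocallyOfFiniteType.isLocallyNoetherian k
  haveI : Flat (Δ ≫ k) := by rw [hk]; infer_instance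
  haveI : LocallyOfFinitePresentation (Δ ≫ k) := inferInstance
  haveI : LocallyOfFinitePresentation Δ := inferInstance
  have hΔ : IsIso (pullback.snd Δ (k.fiberι s)) := by
    let a := k.fiberι s ≫ pullback.fst p p
    let b := k.fiberι s ≫ pullback.snd p p
    have hab : a ≫ p = b ≫ p := by simp [a, b, pullback.condition]
    have hac : (a ≫ p) ≫ h = k.fiberToSpecResidueField s ≫ S.fromSpecResidueField s := by
      simp only [a, Category.assoc]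
      exact pullback.condition
    let c : k.fiber s ⟶ h.fiber s := pullback.lift (a ≫ p) (k.fiberToSpecResidueField s) hac
    let la : k.fiber s ⟶ pullback p (h.fiberι s) := pullback.lift a c (pullback.lift_fst _ _ _).symm
    let lb : k.fiber s ⟶ pullback p (h.fiberι s) := pullback.lift b c
      (hab.symm.trans (pullback.lift_fst _ _ _).symm)
    haveI := hs
    have hl : la = lb := (cancel_mono (pullback.snd p (h.fiberι s))).1
      ((pullback.lift_snd _ _ _).trans (pullback.lift_snd _ _ _).symm)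
    have hab' : a = b := (pullback.lift_fst a c _).symm.trans
      ((congrArg (· ≫ pullback.fst p (h.fiberι s)) hl).trans (pullback.lift_fst b c _))
    have ha : a ≫ Δ = k.fiberι s := by
      apply pullback.hom_ext
      · simp [Δ, a]
      · rw [Category.assoc, pullback.diagonal_snd, Category.comp_id, hab']
    let σ : k.fiber s ⟶ pullback Δ (k.fiberι s) := pullback.lift a (𝟙 _) (by rw [ha, Category.id_comp])
    have hσ : σ ≫ pullback.snd Δ (k.fiberι s) = 𝟙 _ := pullback.lift_snd _ _ _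
    exact ⟨σ, (cancel_mono (pullback.snd Δ (k.fiberι s))).1 (by
      rw [Category.assoc, hσ, Category.comp_id, Category.id_comp]), hσ⟩
  obtain ⟨U₂, hs₂, hU₂⟩ := exists_nhd_smooth_surjective Δ k (Scheme.Hom.isClosedMap _)
    (Scheme.Hom.isClosedMap _) s hΔ
  refine ⟨U₁ ⊓ U₂, ⟨hs₁, hs₂⟩, ?_⟩
  let V := h ⁻¹ᵁ (U₁ ⊓ U₂)
  obtain ⟨hsm, hsur⟩ := hU₁ (U₁ ⊓ U₂) inf_le_left
  haveI : IsIso (Δ ∣_ (k ⁻¹ᵁ (U₁ ⊓ U₂))) := by
    obtain ⟨h1, h2⟩ := hU₂ (U₁ ⊓ U₂) inf_le_right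
    haveI : Mono (Δ ∣_ (k ⁻¹ᵁ (U₁ ⊓ U₂))) := by
      haveI : Mono (Δ ∣_ (k ⁻¹ᵁ (U₁ ⊓ U₂)) ≫ (k ⁻¹ᵁ (U₁ ⊓ U₂)).ι) := by
        rw [morphismRestrict_ι]; infer_instance
      exact mono_of_mono _ (k ⁻¹ᵁ (U₁ ⊓ U₂)).ι
    haveI := IsOpenImmersion.of_flat_of_mono (Δ ∣_ (k ⁻¹ᵁ (U₁ ⊓ U₂)))
    exact (isIso_iff_isOpenImmersion_and_surjective _).2 ⟨inferInstance, h2⟩
  haveI : Mono (p ∣_ V) := ⟨fun {T} a b hab => by
    rw [← cancel_mono (p ⁻¹ᵁ V).ι]
    have hab' : (a ≫ (p ⁻¹ᵁ V).ι) ≫ p = (b ≫ (p ⁻¹ᵁ V).ι) ≫ p := by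
      simp only [Category.assoc, ← morphismRestrict_ι]
      rw [← Category.assoc, hab, Category.assoc]
    let d := pullback.lift _ _ hab'
    have hd : Set.range d ⊆ Set.range (k ⁻¹ᵁ (U₁ ⊓ U₂)).ι := by
      rintro _ ⟨t, rfl⟩
      rw [Scheme.Opens.range_ι]
      show k (d t) ∈ U₁ ⊓ U₂
      rw [← Scheme.Hom.comp_apply, show d ≫ k = (a ≫ (p ⁻¹ᵁ V).ι) ≫ p ≫ h from
        pullback.lift_fst_assoc _ _ _ _]
      exact (a t).2
    let e := IsOpenImmersion.lift _ d hd ≫ inv (Δ ∣_ (k ⁻¹ᵁ (U₁ ⊓ U₂))) ≫ (Δ ⁻¹ᵁ (k ⁻¹ᵁ (U₁ ⊓ U₂))).ι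
    have he : e ≫ Δ = d := by
      simp only [e, Category.assoc, ← morphismRestrict_ι, IsIso.inv_hom_id_assoc, IsOpenImmersion.lift_fac]
    have e1 : e = a ≫ (p ⁻¹ᵁ V).ι := by
      have := congrArg (· ≫ pullback.fst p p) he
      rwa [Category.assoc, pullback.diagonal_fst, Category.comp_id, pullback.lift_fst] at this
    have e2 : e = b ≫ (p ⁻¹ᵁ V).ι := by
      have := congrArg (· ≫ pullback.snd p p) he
      rwa [Category.assoc, pullback.diagonal_snd, Category.comp_id, pullback.lift_snd] at this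
    exact e1.symm.trans e2⟩
  haveI : IsOpenImmersion (p ∣_ V) := IsOpenImmersion.of_flat_of_mono _
  exact (isIso_iff_isOpenImmersion_and_surjective _).2 ⟨inferInstance, hsur⟩

end Groth.Agent.DEqLib.Sib
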