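import Groth.Agent.KFlatLib.PsiC
import Mathlib.Algebra.Category.ModuleCat.Ext.Finite
import Mathlib.Algebra.Category.ModuleCat.Ext.HasExt
import Mathlib.Algebra.Category.ModuleCat.Projective
import Mathlib.Algebra.Homology.DerivedCategory.Ext.Linear
import Mathlib.Algebra.Homology.DerivedCategory.SingleTriangle
import Mathlib.Algebra.Homology.DerivedCategory.TStructure
import Mathlib.CategoryTheory.Linear.Yoneda
import Mathlib.RingTheory.Finiteness.Nakayama
import Mathlib.RingTheory.Ideal.AssociatedPrime.Finiteness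
import Mathlib.CategoryTheory.Triangulated.TStructure.TruncLTGE
import Mathlib.Algebra.Module.Torsion.Basic
import Mathlib.LinearAlgebra.Dual.Lemmas
import Mathlib.RingTheory.PrincipalIdealDomain
import Mathlib.LinearAlgebra.Basis.VectorSpace

/-! A finite complex with no morphisms from the residue field is zero after localising. -/

set_option linter.style.haveILetI false
set_option backward.isDefEq.respectTransparency false

universe u

open CategoryTheory CategoryTheory.Limits CategoryTheory.Pretriangulated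

attribute [local instance] HasDerivedCategory.standard

noncomputable section

namespace Groth.Agent.DEqLib.Sib.LocalZero

variable {A : Type u} [CommRing A]

/-- Complexes in degree zero. -/
abbrev S₀ {A : Type u} [CommRing A] : ModuleCat.{u} A ⥤ DerivedCategory (ModuleCat.{u} A) :=
  DerivedCategory.singleFunctor (ModuleCat.{u} A) 0

lemma finite_obj₂ [IsNoetherianRing A] {P : DerivedCategory (ModuleCat.{u} A)}
    {T : Triangle (DerivedCategory (ModuleCat.{u} A))} (hT : T ∈ distinguishedTriangles)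
    (h₁ : Module.Finite A (P ⟶ T.obj₁)) (h₃ : Module.Finite A (P ⟶ T.obj₃)) :
    Module.Finite A (P ⟶ T.obj₂) := by
  let f : (P ⟶ T.obj₁) →ₗ[A] (P ⟶ T.obj₂) := Linear.rightComp A P T.mor₁
  let g : (P ⟶ T.obj₂) →ₗ[A] (P ⟶ T.obj₃) := Linear.rightComp A P T.mor₂
  have hker : LinearMap.ker g ≤ LinearMap.range f := fun x hx => by
    obtain ⟨y, hy⟩ := Triangle.coyoneda_exact₂ T hT x hx
    exact ⟨y, hy.symm⟩
  haveI : IsNoetherian A (LinearMap.range f) := isNoetherian_of_isNoetherianRing_of_finite A _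
  haveI : Module.Finite A (LinearMap.ker g) :=
    Module.Finite.of_injective (Submodule.inclusion hker) (Submodule.inclusion_injective hker)
  haveI : IsNoetherian A (P ⟶ T.obj₃) := isNoetherian_of_isNoetherianRing_of_finite A _
  haveI : Module.Finite A ((P ⟶ T.obj₂) ⧸ LinearMap.ker g) :=
    Module.Finite.equiv g.quotKerEquivRange.symm
  exact Module.Finite.of_submodule_quotient (LinearMap.ker g)

/-- Morphisms from finite modules into bounded finite complexes form finite modules. -/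
theorem finite_hom [IsNoetherianRing A] (P : ModuleCat.{u} A) [Module.Finite A P] :
    ∀ (n : ℕ) (M : DerivedCategory (ModuleCat.{u} A)) (a : ℤ), M.IsGE a → M.IsLE (a + n) →
      (∀ i, Module.Finite A ((DerivedCategory.homologyFunctor (ModuleCat.{u} A) i).obj M)) →
        Module.Finite A (S₀.obj P ⟶ M) := by
  intro n
  induction n with
  | zero =>
    intro M a hge hle hfin
    haveI := hge
    haveI : M.IsLE a := by simpa using hle
    obtain ⟨Y, ⟨e⟩⟩ := DerivedCategory.exists_iso_singleFunctor_obj_of_isGE_of_isLE M a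
    haveI := hfin a
    haveI : Module.Finite A Y := Module.Finite.equiv
      ((DerivedCategory.homologyFunctor (ModuleCat.{u} A) a).mapIso e ≪≫
        (DerivedCategory.singleFunctorCompHomologyFunctorIso (ModuleCat.{u} A) a).app Y).toLinearEquiv
    rcases lt_or_ge 0 a with ha | ha
    · haveI : Subsingleton (S₀.obj P ⟶ M) := ⟨fun x y => by
        rw [DerivedCategory.TStructure.t.zero x 0 a ha, DerivedCategory.TStructure.t.zero y 0 a ha]⟩
      infer_instance
    · obtain ⟨m, rfl⟩ : ∃ m : ℕ, a = -(m : ℤ) := ⟨a.natAbs, by omega⟩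
      let eG : M ≅ (S₀.obj Y)⟦(m : ℤ)⟧ := e ≪≫
        ((SingleFunctors.shiftIso (DerivedCategory.singleFunctors (ModuleCat.{u} A)) (m : ℤ) (-(m : ℤ)) 0
          (by omega)).app Y).symm
      haveI : Module.Finite A (S₀.obj P ⟶ (S₀.obj Y)⟦(m : ℤ)⟧) :=
        Module.Finite.equiv (Abelian.Ext.homLinearEquiv (R := A) (X := P) (Y := Y) (n := m))
      exact Module.Finite.equiv (Linear.homCongr A (Iso.refl _) eG.symm)
  | succ n ih =>
    intro M a hge hle hfin
    haveI := hge
    haveI := hle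
    obtain ⟨B, C, hB, hC, f, g, h, hT⟩ := DerivedCategory.TStructure.t.exists_triangle M a (a + 1) rfl
    haveI : B.IsLE a := ⟨hB⟩
    haveI : C.IsGE (a + 1) := ⟨hC⟩
    haveI : B.IsGE a := DerivedCategory.TStructure.t.isGE₂ _ (inv_rot_of_distTriang _ hT) a
      (haveI : (C⟦(-1 : ℤ)⟧).IsGE (a + 2) := DerivedCategory.TStructure.t.isGE_shift C (a + 1) (-1) (a + 2) (by omega)
       DerivedCategory.TStructure.t.isGE_of_ge (C⟦(-1 : ℤ)⟧) a (a + 2) (by omega)) hge
    haveI : C.IsLE (a + (n + 1 : ℕ)) := DerivedCategory.TStructure.t.isLE₂ _ (rot_of_distTriang _ hT) _ hle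
      (haveI : (B⟦(1 : ℤ)⟧).IsLE (a - 1) := DerivedCategory.TStructure.t.isLE_shift B a 1 (a - 1) (by omega)
       DerivedCategory.TStructure.t.isLE_of_le (B⟦(1 : ℤ)⟧) (a - 1) _ (by omega))
    let H := DerivedCategory.homologyFunctor (ModuleCat.{u} A)
    have key : ∀ i, Module.Finite A ((H i).obj B) ∧ Module.Finite A ((H i).obj C) := fun i => by
      have h₁ := DerivedCategory.HomologySequence.exact₁ _ hT (i - 1) i (by omega)
      have h₂ := DerivedCategory.HomologySequence.exact₂ _ hT i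
      have h₃ := DerivedCategory.HomologySequence.exact₃ _ hT i (i + 1) rfl
      haveI := hfin i
      by_cases hi : i ≤ a
      · haveI : Subsingleton ((H i).obj C) :=
          ModuleCat.subsingleton_of_isZero (C.isZero_of_isGE (a + 1) i (by omega))
        refine ⟨?_, inferInstance⟩
        haveI : Mono ((H i).map f) :=
          h₁.mono_g ((C.isZero_of_isGE (a + 1) (i - 1) (by omega)).eq_of_src _ _)
        haveI : IsNoetherian A ((H i).obj M) := isNoetherian_of_isNoetherianRing_of_finite A _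
        exact Module.Finite.of_injective ((H i).map f).hom ((ModuleCat.mono_iff_injective _).1 inferInstance)
      · haveI : Subsingleton ((H i).obj B) :=
          ModuleCat.subsingleton_of_isZero (B.isZero_of_isLE a i (by omega))
        refine ⟨inferInstance, ?_⟩
        haveI : Epi ((H i).map g) :=
          h₃.epi_f ((B.isZero_of_isLE a (i + 1) (by omega)).eq_of_tgt _ _)
        exact Module.Finite.of_surjective ((H i).map g).hom ((ModuleCat.epi_iff_surjective _).1 inferInstance)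
    exact finite_obj₂ hT
      (ih B a inferInstance (DerivedCategory.TStructure.t.isLE_of_le B a _ (by omega)) fun i => (key i).1)
      (ih C (a + 1) inferInstance (by
        have : a + 1 + (n : ℤ) = a + (n + 1 : ℕ) := by push_cast; ring
        rw [this]; infer_instance) fun i => (key i).2)

variable (𝔪 : Ideal A) (M : DerivedCategory (ModuleCat.{u} A))

/-- All morphisms from `P` to shifts of `M` vanish near `𝔪`. -/
def Z (P : ModuleCat.{u} A) : Prop :=
  ∀ (i : ℤ) (φ : S₀.obj P ⟶ M⟦i⟧), ∃ s ∉ 𝔪, s • φ = 0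

variable {𝔪 M}

lemma Z.of_iso {P Q : ModuleCat.{u} A} (e : P ≅ Q) (h : Z 𝔪 M P) : Z 𝔪 M Q := fun i φ => by
  obtain ⟨s, hs, h0⟩ := h i (S₀.map e.hom ≫ φ)
  refine ⟨s, hs, (cancel_epi (S₀.map e.hom)).1 ?_⟩
  rw [Linear.comp_smul, h0, comp_zero]

lemma Z.of_smul_id {P : ModuleCat.{u} A} {s : A} (hs : s ∉ 𝔪) (h : s • 𝟙 P = 0) : Z 𝔪 M P :=
  fun i φ => ⟨s, hs, by
    rw [← Category.id_comp φ, ← S₀.map_id, ← Linear.smul_comp, ← Functor.map_smul, h,
      Functor.map_zero, zero_comp]⟩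

lemma Z.ext [𝔪.IsPrime] {S : ShortComplex (ModuleCat.{u} A)} (hS : S.ShortExact)
    (h₁ : Z 𝔪 M S.X₁) (h₃ : Z 𝔪 M S.X₃) : Z 𝔪 M S.X₂ := fun i φ => by
  obtain ⟨s₁, hs₁, e₁⟩ := h₁ i (S₀.map S.f ≫ φ)
  obtain ⟨ψ, hψ⟩ := Triangle.yoneda_exact₂ _ hS.singleTriangle_distinguished (s₁ • φ)
    (show S₀.map S.f ≫ (s₁ • φ) = 0 by rw [Linear.comp_smul]; exact e₁)
  obtain ⟨s₃, hs₃, e₃⟩ := h₃ i ψ
  refine ⟨s₃ * s₁, fun h => (Ideal.IsPrime.mem_or_mem ‹_› h).elim hs₃ hs₁, ?_⟩
  rw [mul_smul, hψ, ← Linear.comp_smul]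
  exact (congrArg _ e₃).trans comp_zero

variable [𝔪.IsMaximal] [IsNoetherianRing A]

/-- Nakayama step at a prime contained in `𝔪`. -/
lemma Z.of_quotient (a b : ℤ) [M.IsGE a] [M.IsLE b] (hM : ∀ i, Module.Finite A ((DerivedCategory.homologyFunctor (ModuleCat.{u} A) i).obj M))
    (q : Ideal A) [q.IsPrime] {x : A} (hx : x ∈ 𝔪) (hxq : x ∉ q)
    (hZ : Z 𝔪 M (ModuleCat.of A (A ⧸ (q ⊔ Ideal.span {x})))) : Z 𝔪 M (ModuleCat.of A (A ⧸ q)) := by
  intro i
  let P := ModuleCat.of A (A ⧸ q)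
  let Q := ModuleCat.of A (A ⧸ (q ⊔ Ideal.span {x}))
  let π : P ⟶ Q := ModuleCat.ofHom (Submodule.factor (le_sup_left : q ≤ q ⊔ Ideal.span {x}))
  have hπ : Function.Surjective π.hom := Submodule.factor_surjective (le_sup_left : q ≤ q ⊔ Ideal.span {x})
  let S : ShortComplex (ModuleCat.{u} A) := ShortComplex.mk (x • 𝟙 P) π (by
    refine ModuleCat.hom_ext (LinearMap.ext fun y => ?_)
    show π.hom (x • (y : A ⧸ q)) = 0
    obtain ⟨r, rfl⟩ := Submodule.Quotient.mk_surjective q (y : A ⧸ q)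
    rw [map_smul]
    change Submodule.Quotient.mk (x • r) = 0
    rw [Submodule.Quotient.mk_eq_zero, smul_eq_mul]
    exact Ideal.mem_sup_right (Ideal.mul_mem_right r _ (Ideal.mem_span_singleton_self x)))
  have hS : S.ShortExact := by
    refine ShortComplex.ShortExact.mk' ?_ ?_ ((ModuleCat.epi_iff_surjective _).2 hπ)
    · rw [ShortComplex.moduleCat_exact_iff]
      intro y hy
      obtain ⟨r, rfl⟩ := Submodule.Quotient.mk_surjective q (y : A ⧸ q)
      have hr : r ∈ q ⊔ Ideal.span {x} := (Submodule.Quotient.mk_eq_zero _).1 hy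
      obtain ⟨a', ha', c, hc, rfl⟩ := Submodule.mem_sup.1 hr
      obtain ⟨d, rfl⟩ := Ideal.mem_span_singleton'.1 hc
      refine ⟨Submodule.Quotient.mk d, ?_⟩
      show x • (Submodule.Quotient.mk d : A ⧸ q) = Submodule.Quotient.mk (a' + d * x)
      rw [← Submodule.Quotient.mk_smul, Submodule.Quotient.eq, smul_eq_mul]
      have : x * d - (a' + d * x) = -a' := by ring
      rw [this]; exact q.neg_mem ha'
    · rw [ModuleCat.mono_iff_injective, injective_iff_map_eq_zero]
      intro y hy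
      obtain ⟨r, rfl⟩ := Submodule.Quotient.mk_surjective q (y : A ⧸ q)
      replace hy : (Submodule.Quotient.mk (x • r) : A ⧸ q) = 0 := hy
      rw [Submodule.Quotient.mk_eq_zero, smul_eq_mul] at hy
      exact (Submodule.Quotient.mk_eq_zero _).2 ((‹q.IsPrime›.mem_or_mem hy).resolve_left hxq)
  haveI : Module.Finite A P := inferInstanceAs (Module.Finite A (A ⧸ q))
  haveI : (M⟦i⟧).IsGE (a - i) := DerivedCategory.TStructure.t.isGE_shift M a i (a - i) (by omega)
  haveI : (M⟦i⟧).IsLE (b - i) := DerivedCategory.TStructure.t.isLE_shift M b i (b - i) (by omega)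
  haveI : Module.Finite A (S₀.obj P ⟶ M⟦i⟧) := finite_hom P (b - a).toNat (M⟦i⟧) (a - i) inferInstance
    (DerivedCategory.TStructure.t.isLE_of_le (M⟦i⟧) (b - i) _ (by omega)) fun j =>
    haveI : Module.Finite A ↑(((DerivedCategory.homologyFunctor (ModuleCat.{u} A) 0).shift (i + j)).obj M) := hM (i + j)
    Module.Finite.equiv (((DerivedCategory.homologyFunctor (ModuleCat.{u} A) 0).shiftIso i j (i + j) rfl).app
      M).toLinearEquiv.symm
  have hle : (⊤ : Submodule A (S₀.obj P ⟶ M⟦i⟧)) ≤ 𝔪 • ⊤ := fun φ _ => by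
    let T := hS.singleTriangle
    have hT := inv_rot_of_distTriang _ hS.singleTriangle_distinguished
    let e : (S₀.obj Q)⟦(-1 : ℤ)⟧⟦(1 : ℤ)⟧ ≅ S₀.obj Q := (shiftFunctorCompIsoId _ (-1 : ℤ) 1 (by omega)).app _
    let eM : M⟦i⟧⟦(1 : ℤ)⟧ ≅ M⟦i + 1⟧ := ((shiftFunctorAdd (DerivedCategory (ModuleCat.{u} A)) i 1).app M).symm
    obtain ⟨s, hs, h0⟩ := hZ (i + 1) (e.inv ≫ (T.invRotate.mor₁ ≫ φ)⟦(1 : ℤ)⟧' ≫ eM.hom)
    have h1 : T.invRotate.mor₁ ≫ (s • φ) = 0 := by
      apply (shiftFunctor (DerivedCategory (ModuleCat.{u} A)) (1 : ℤ)).map_injective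
      rw [Functor.map_zero, Linear.comp_smul, Functor.map_smul, ← cancel_epi e.inv, ← cancel_mono eM.hom,
        comp_zero, zero_comp, Linear.comp_smul, Linear.smul_comp, Category.assoc]
      exact h0
    obtain ⟨ψ, hψ⟩ := Triangle.yoneda_exact₂ _ hT (s • φ) h1
    replace hψ : s • φ = S₀.map (x • 𝟙 P) ≫ ψ := hψ
    replace hψ : s • φ = x • (show S₀.obj P ⟶ M⟦i⟧ from ψ) :=
      hψ.trans (by rw [Functor.map_smul, CategoryTheory.Functor.map_id, Linear.smul_comp]; exact congrArg (x • ·) (Category.id_comp _))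
    obtain ⟨c, m, hm, hc⟩ := Ideal.IsMaximal.exists_inv ‹_› hs
    rw [← one_smul A φ, ← hc, add_smul, mul_smul, hψ, ← mul_smul]
    exact add_mem (Submodule.smul_mem_smul (Ideal.mul_mem_left _ _ hx) trivial)
      (Submodule.smul_mem_smul hm trivial)
  obtain ⟨r, hr, hr0⟩ := Submodule.exists_sub_one_mem_and_smul_eq_zero_of_fg_of_le_smul 𝔪
    (⊤ : Submodule A (S₀.obj P ⟶ M⟦i⟧)) Module.Finite.fg_top hle
  refine fun φ => ⟨r, fun h => ?_, hr0 φ trivial⟩
  exact ‹𝔪.IsMaximal›.ne_top ((Ideal.eq_top_iff_one _).2 (by simpa using 𝔪.sub_mem h hr))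

/-- No morphisms from a module killed by `𝔪` forces local vanishing. -/
theorem exists_smul_eq_zero (a b : ℤ) [M.IsGE a] [M.IsLE b] (hM : ∀ i, Module.Finite A ((DerivedCategory.homologyFunctor (ModuleCat.{u} A) i).obj M))
    (N : ModuleCat.{u} A) [Nontrivial N] (hN : ∀ r ∈ 𝔪, ∀ n : N, r • n = 0)
    (h0 : ∀ (i : ℤ) (φ : S₀.obj N ⟶ M⟦i⟧), φ = 0) (i : ℤ)
    (y : (DerivedCategory.homologyFunctor (ModuleCat.{u} A) i).obj M) : ∃ s ∉ 𝔪, s • y = 0 := by
  have hκ : Z 𝔪 M (ModuleCat.of A (A ⧸ 𝔪)) := by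
    letI : Field (A ⧸ 𝔪) := Ideal.Quotient.field 𝔪
    letI : Module (A ⧸ 𝔪) N := Module.IsTorsionBySet.module (I := 𝔪) (fun n r => hN r.1 r.2 n)
    haveI : IsScalarTower A (A ⧸ 𝔪) N := Module.IsTorsionBySet.isScalarTower _
    obtain ⟨n, hn⟩ := exists_ne (0 : N)
    let ι : ModuleCat.of A (A ⧸ 𝔪) ⟶ N := ModuleCat.ofHom ((LinearMap.toSpanSingleton (A ⧸ 𝔪) N n).restrictScalars A)
    obtain ⟨d, hd⟩ := Module.Projective.exists_dual_ne_zero (A ⧸ 𝔪) hn
    let d' : N ⟶ ModuleCat.of A (A ⧸ 𝔪) := ModuleCat.ofHom (((d n)⁻¹ • d).restrictScalars A)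
    have hid : ι ≫ d' = 𝟙 _ := by
      ext
      show (d n)⁻¹ • d ((1 : A ⧸ 𝔪) • n) = 1
      rw [one_smul, smul_eq_mul, inv_mul_cancel₀ hd]
    intro j φ
    refine ⟨1, fun h => ‹𝔪.IsMaximal›.ne_top ((Ideal.eq_top_iff_one _).2 h), ?_⟩
    rw [one_smul, ← Category.id_comp φ, ← S₀.map_id, ← hid, Functor.map_comp, Category.assoc,
      h0 j (S₀.map d' ≫ φ), comp_zero]
  have main : ∀ q : Ideal A, q.IsPrime → Z 𝔪 M (ModuleCat.of A (A ⧸ q)) := by
    refine fun q => IsWellFounded.induction (α := Ideal A) (· > ·) (motive := fun q => q.IsPrime → Z 𝔪 M (ModuleCat.of A (A ⧸ q))) q fun q ih hq => ?_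
    by_cases hq𝔪 : q ≤ 𝔪
    · rcases hq𝔪.eq_or_lt with rfl | hlt
      · exact hκ
      · obtain ⟨x, hx, hxq⟩ := SetLike.exists_of_lt hlt
        refine Z.of_quotient a b hM q hx hxq ?_
        have hJ : q < q ⊔ Ideal.span {x} := left_lt_sup.2 fun h => hxq (h (Ideal.mem_span_singleton_self x))
        exact IsNoetherianRing.induction_on_isQuotientEquivQuotientPrime A
          (M := A ⧸ (q ⊔ Ideal.span {x})) inferInstance
          (motive := fun N _ _ _ => (∀ r ∈ q ⊔ Ideal.span {x}, ∀ n : N, r • n = 0) → Z 𝔪 M (ModuleCat.of A N))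
          (fun N _ _ _ _ _ i φ => ⟨1, fun h => ‹𝔪.IsMaximal›.ne_top ((Ideal.eq_top_iff_one _).2 h),
            ((S₀.map_isZero (ModuleCat.isZero_of_subsingleton _)).eq_of_src _ _)⟩)
          (fun N _ _ _ p e hann => Z.of_iso e.symm.toModuleIso (ih p.1 (lt_of_lt_of_le hJ fun r hr => by
            have h := congrArg e (hann r hr (e.symm (Submodule.Quotient.mk 1)))
            rw [map_smul, e.apply_symm_apply, map_zero, ← Submodule.Quotient.mk_smul, Submodule.Quotient.mk_eq_zero] at h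
            simpa using h) p.2))
          (fun N₁ _ _ _ N₂ _ _ _ N₃ _ _ _ f g hf hg hfg h₁ h₃ hann => Z.ext
            (S := ShortComplex.mk (ModuleCat.ofHom f) (ModuleCat.ofHom g) (by ext y; exact hfg.apply_apply_eq_zero y))
            (ShortComplex.ShortExact.mk' ((ShortComplex.moduleCat_exact_iff _).2 fun y hy => (hfg y).1 hy)
              ((ModuleCat.mono_iff_injective _).2 hf) ((ModuleCat.epi_iff_surjective _).2 hg))
            (h₁ fun r hr n => hf (by rw [map_smul, hann r hr, map_zero]))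
            (h₃ fun r hr n => by
              obtain ⟨n', rfl⟩ := hg n
              rw [← map_smul, hann r hr, map_zero]))
          fun r hr n => by
            obtain ⟨n, rfl⟩ := Submodule.Quotient.mk_surjective _ n
            rw [← Submodule.Quotient.mk_smul, Submodule.Quotient.mk_eq_zero]
            exact Ideal.mul_mem_right n _ hr
    · obtain ⟨s, hsq, hs⟩ := SetLike.not_le_iff_exists.1 hq𝔪
      refine Z.of_smul_id hs ?_
      ext
      show s • (Submodule.Quotient.mk 1 : A ⧸ q) = 0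
      rw [← Submodule.Quotient.mk_smul, Submodule.Quotient.mk_eq_zero]
      simpa using hsq
  have hA : Z 𝔪 M (ModuleCat.of A A) :=
    IsNoetherianRing.induction_on_isQuotientEquivQuotientPrime A (M := A) inferInstance
      (motive := fun N _ _ _ => Z 𝔪 M (ModuleCat.of A N))
      (fun N _ _ _ _ i φ => ⟨1, fun h => ‹𝔪.IsMaximal›.ne_top ((Ideal.eq_top_iff_one _).2 h),
            ((S₀.map_isZero (ModuleCat.isZero_of_subsingleton _)).eq_of_src _ _)⟩)
      (fun N _ _ _ p e => Z.of_iso e.symm.toModuleIso (main p.1 p.2))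
      (fun N₁ _ _ _ N₂ _ _ _ N₃ _ _ _ f g hf hg hfg h₁ h₃ => Z.ext
            (S := ShortComplex.mk (ModuleCat.ofHom f) (ModuleCat.ofHom g) (by ext y; exact hfg.apply_apply_eq_zero y))
            (ShortComplex.ShortExact.mk' ((ShortComplex.moduleCat_exact_iff _).2 fun y hy => (hfg y).1 hy)
              ((ModuleCat.mono_iff_injective _).2 hf) ((ModuleCat.epi_iff_surjective _).2 hg)) h₁ h₃)
  haveI : Projective (ModuleCat.of A A) :=
    (IsProjective.iff_projective (R := A) A).1 inferInstance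
  let eH := ((DerivedCategory.homologyFunctor (ModuleCat.{u} A) 0).shiftIso i 0 i (add_zero i)).app M
  have hψ := KFlatLib.bijective_psiC_of_projective (P := ModuleCat.of A A) 0 (M⟦i⟧)
  obtain ⟨φ, hφ⟩ := hψ.2 (ModuleCat.ofHom (LinearMap.toSpanSingleton A _ (eH.inv y)))
  obtain ⟨s, hs, hsφ⟩ := hA i φ
  refine ⟨s, hs, eH.toLinearEquiv.symm.injective ?_⟩
  have h := KFlatLib.psiC_single_map (s • 𝟙 (ModuleCat.of A A)) φ
  rw [Functor.map_smul, CategoryTheory.Functor.map_id, Linear.smul_comp, Category.id_comp, hsφ, hφ] at h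
  have h2 := congrArg (fun z => z.hom (1 : A)) h
  rw [map_zero, map_smul]
  simpa [KFlatLib.psiC] using h2.symm

end Groth.Agent.DEqLib.Sib.LocalZero
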