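import Groth.Agent.DEqLib.Sib.PointSheaf
import Groth.Agent.DEqLib.Sib.LocalZero
import Groth.Agent.KFlatLib.Scheme.CohD
import Groth.Agent.QCoh.VanIdeal
import Groth.Agent.QCoh.Support
import Groth.Agent.S1006

/-! Orthogonality to a point sheaf forces vanishing near the point. -/

universe u

open CategoryTheory CategoryTheory.Limits AlgebraicGeometry TopologicalSpace Opposite

set_option backward.isDefEq.respectTransparency false
set_option linter.style.haveILetI false

attribute [local instance] HasDerivedCategory.standard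

noncomputable section

namespace Groth.Agent.DEqLib.Sib.GeoPoint

open Groth.Agent.KFlatLib

/-- The point sheaf on an affine chart comes from a nonzero module killed by the maximal ideal. -/
lemma exists_tilde_point {A : CommRingCat.{u}} {K : Type u} [Field K] (f : Spec (CommRingCat.of K) ⟶ Spec A)
    (v : Spec A) (hv : ∀ p, f p = v) (hmax : v.asIdeal.IsMaximal) :
    ∃ N : ModuleCat.{u} A, Nontrivial N ∧ (∀ r ∈ v.asIdeal, ∀ n : N, r • n = 0) ∧
      Nonempty ((Coh.push f).obj (Coh.structureModule _) ≅ tilde N) := by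
  obtain ⟨N, hN, hN0, ⟨eN⟩⟩ := PointSheaf.exists_sky_of_field f v hv
  haveI := hN
  haveI : IsAffineHom f := inferInstance
  have hq : Coh.IsQCoh ((Coh.push f).obj (Coh.structureModule _)) :=
    QCoh.isQCoh_pushforward f QCoh.isQCoh_structureModule
  obtain ⟨M, ⟨eM⟩⟩ := QCoh.isQCoh_spec_iff.1 hq
  let e : M ≅ (ModuleCat.restrictScalars (toStalkHom v)).obj N :=
    (tilde.toTildeΓNatIso (R := A)).app M ≪≫ moduleSpecΓFunctor.mapIso (eM ≪≫ eN) ≪≫ (skyΓIso v).app N
  haveI : Nontrivial ((ModuleCat.restrictScalars (toStalkHom v)).obj N) := hN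
  refine ⟨M, e.toLinearEquiv.toEquiv.nontrivial, fun r hr n => e.toLinearEquiv.injective ?_, ⟨eM.symm⟩⟩
  rw [map_smul, map_zero]
  exact hN0 _ (fun hu => (Scheme.mem_basicOpen (X := Spec A) ((Scheme.ΓSpecIso A).inv r) v trivial).2 hu
    |> fun h => by
      rw [show (Spec A).basicOpen ((Scheme.ΓSpecIso A).inv r) = PrimeSpectrum.basicOpen r from
        AlgebraicGeometry.basicOpen_eq_of_affine r] at h
      exact h hr) _

variable {X : Scheme.{u}}

lemma notMem_support_iff (M : X.Modules) (x : X) :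
    x ∉ CohB1.support M ↔ IsZero ((DerSch.stalkFunctor X x).obj M) := by
  rw [ModuleCat.isZero_iff_subsingleton]
  exact not_not

/-- A tilde module killed near `v` has zero stalk at `v`. -/
lemma isZero_stalk_tilde {A : CommRingCat.{u}} (v : Spec A) (H : ModuleCat.{u} A)
    (h : ∀ y : H, ∃ s ∉ v.asIdeal, s • y = 0) :
    IsZero ((DerSch.stalkFunctor (Spec A) v).obj (tilde H)) := by
  refine IsZero.of_iso ?_ ((stalkTildeIso v).app H)
  refine ModuleCat.isZero_iff_subsingleton.2 ⟨fun a b => ?_⟩
  suffices ∀ z : (ModuleCat.extendScalars (toStalkHom v)).obj H, z = 0 by rw [this a, this b]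
  intro z
  letI : Algebra A ((Spec A).presheaf.stalk v) := (toStalkHom v).toAlgebra
  change TensorProduct A ((Spec A).presheaf.stalk v) H at z
  induction z using TensorProduct.induction_on with
  | zero => rfl
  | add p q hp hq => rw [hp, hq, add_zero]
  | tmul r y =>
    obtain ⟨s, hs, hsy⟩ := h y
    have hu : IsUnit (toStalkHom v s) := by
      refine (Scheme.mem_basicOpen (X := Spec A) ((Scheme.ΓSpecIso A).inv s) v trivial).1 ?_
      rw [show (Spec A).basicOpen ((Scheme.ΓSpecIso A).inv s) = PrimeSpectrum.basicOpen s from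
        AlgebraicGeometry.basicOpen_eq_of_affine s]
      exact hs
    obtain ⟨w, hw⟩ := hu
    have hr : r = s • (((w⁻¹ : ((Spec A).presheaf.stalk v)ˣ) : (Spec A).presheaf.stalk v) * r) := by
      rw [Algebra.smul_def, ← mul_assoc]
      show r = toStalkHom v s * _ * r
      rw [← hw, Units.mul_inv, one_mul]
    rw [hr]
    show (s • _ : (Spec A).presheaf.stalk v) ⊗ₜ[A] y = 0
    rw [TensorProduct.smul_tmul, hsy, TensorProduct.tmul_zero]

/-- Stalks at a point of an open can be computed on the open. -/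
lemma isZero_stalk_of_restrict {U : Scheme.{u}} (j : U ⟶ X) [IsOpenImmersion j] (v : U) (M : X.Modules)
    (h : IsZero ((DerSch.stalkFunctor U v).obj ((Scheme.Modules.restrictFunctor j).obj M))) :
    IsZero ((DerSch.stalkFunctor X (j.base v)).obj M) := by
  rw [ModuleCat.isZero_iff_subsingleton] at h ⊢
  haveI : Subsingleton ((Scheme.Modules.restrictFunctor j ⋙ Scheme.Modules.toPresheaf U ⋙
    TopCat.Presheaf.stalkFunctor Ab.{u} v).obj M : Type u) := h
  exact ((Scheme.Modules.restrictStalkNatIso j v).app M).addCommGroupIsoToAddEquiv.symm.toEquiv.subsingleton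

/-- All cohomology stalks at a closed point vanish if there are no maps from the point sheaf. -/
theorem notMem_support_of_orth [IsNoetherian X] (x : X) (hx : IsClosed ({x} : Set X)) (K : DCoh.D X)
    (hK : DCoh.IsCohD K) (a b : ℤ) [K.IsGE a] [K.IsLE b]
    (h0 : ∀ (i : ℤ) (φ : DCoh.inD X ((Coh.push (X.fromSpecResidueField x)).obj (Coh.structureModule _)) ⟶
      (shiftFunctor (DCoh.D X) i).obj K), φ = 0) (i : ℤ) :
    x ∉ CohB1.support (DCoh.HD K i) := by
  obtain ⟨A, hA, j, hj, hxj⟩ := exists_chart x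
  haveI : IsLocallyNoetherian (Spec A) := isLocallyNoetherian_of_isOpenImmersion j
  obtain ⟨v, rfl⟩ := hxj
  let ι := X.fromSpecResidueField (j.base v)
  let f := IsOpenImmersion.lift j ι (by rw [Scheme.range_fromSpecResidueField]; simp)
  have hf : f ≫ j = ι := IsOpenImmersion.lift_fac _ _ _
  have hv : ∀ p, f p = v := fun p => j.isOpenEmbedding.injective (by
    show (f ≫ j) p = _
    rw [hf]; exact Scheme.fromSpecResidueField_apply _ p)
  have hmax : v.asIdeal.IsMaximal := by
    rw [← PrimeSpectrum.isClosed_singleton_iff_isMaximal]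
    have h1 := hx.preimage j.continuous
    rwa [show j.base ⁻¹' {j.base v} = ({v} : Set (Spec A)) from
      Set.ext fun w => ⟨fun h => j.isOpenEmbedding.injective h, fun h => congrArg j.base h⟩] at h1
  let O := Coh.structureModule (Spec (X.residueField (j.base v)))
  let Ox := (Coh.push ι).obj O
  obtain ⟨N, hN, hN0, ⟨eN⟩⟩ := exists_tilde_point f v hv hmax
  haveI := hN
  -- the restriction of the point sheaf
  let eR : (Scheme.Modules.restrictFunctor j).obj Ox ≅ tilde N :=
    (Scheme.Modules.restrictFunctor j).mapIso ((Scheme.Modules.pushforwardCongr hf.symm).app O ≪≫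
      ((Scheme.Modules.pushforwardComp f j).app O).symm) ≪≫
      (asIso (Scheme.Modules.restrictAdjunction j).counit).app ((Coh.push f).obj O) ≪≫ eN
  haveI : IsIso ((lshAdj j).counit.app Ox) := by
    refine isIso_of_restrict_of_stalk j _ ?_ (fun y hy => isZero_stalk_lsh j y hy _) fun y hy => ?_
    · haveI : IsIso ((lshAdj j).unit.app ((Scheme.Modules.restrictFunctor j).obj Ox)) := inferInstance
      have h := (lshAdj j).right_triangle_components Ox
      haveI : IsIso ((lshAdj j).unit.app ((Scheme.Modules.restrictFunctor j).obj Ox) ≫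
          (Scheme.Modules.restrictFunctor j).map ((lshAdj j).counit.app Ox)) := by
        erw [h]; infer_instance
      exact IsIso.of_isIso_comp_left ((lshAdj j).unit.app ((Scheme.Modules.restrictFunctor j).obj Ox)) _
    · rw [← notMem_support_iff]
      intro hy'
      refine hy' ⟨fun p q => ?_⟩
      obtain ⟨U₁, h₁, s₁, rfl⟩ := Ox.presheaf.exists_germ_eq p
      obtain ⟨U₂, h₂, s₂, rfl⟩ := Ox.presheaf.exists_germ_eq q
      let W : X.Opens := U₁ ⊓ U₂ ⊓ ⟨{j.base v}ᶜ, hx.isOpen_compl⟩
      have hW : y ∈ W := ⟨⟨h₁, h₂⟩, fun h => hy ⟨v, (Set.mem_singleton_iff.1 h).symm⟩⟩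
      rw [← TopCat.Presheaf.germ_res_apply Ox.presheaf (homOfLE (inf_le_left.trans inf_le_left : W ≤ U₁)) y hW,
        ← TopCat.Presheaf.germ_res_apply Ox.presheaf (homOfLE (inf_le_left.trans inf_le_right : W ≤ U₂)) y hW]
      have he : ι ⁻¹ᵁ W = ⊥ := Opens.ext (Set.eq_empty_iff_forall_notMem.2 fun p hp =>
        hp.2 (Scheme.fromSpecResidueField_apply _ p))
      haveI : Subsingleton (Γ(O, ι ⁻¹ᵁ W)) := by
        rw [he]
        exact subsingleton_of_forall_eq 0 fun s =>
          TopCat.Presheaf.IsSheaf.section_ext (SheafOfModules.toSheaf _ |>.obj O).2 fun z hz => hz.elim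
      exact congrArg _ (Subsingleton.elim (α := Γ(O, ι ⁻¹ᵁ W)) _ _)
  -- the module on the chart
  obtain ⟨M, ⟨eM⟩⟩ := exists_tildeD_iso (isQCohD_rho j fun i => (hK i).1)
  let eH : ∀ i, (tilde.functor A).obj ((DerivedCategory.homologyFunctor (ModuleCat.{u} A) i).obj M) ≅
      (Scheme.Modules.restrictFunctor j).obj (DCoh.HD K i) := fun i =>
    ((mapDCHomologyIso (tilde.functor A) i).app M).symm ≪≫
      (DerivedCategory.homologyFunctor _ i).mapIso eM ≪≫ restrictHDIso j K i
  have hfin : ∀ i, Module.Finite A ((DerivedCategory.homologyFunctor (ModuleCat.{u} A) i).obj M) := fun i =>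
    (isCoh_tilde_iff _).1 (isCoh_of_iso (eH i).symm (isCoh_restrict j (hK i)))
  haveI : M.IsGE a := by
    rw [DerivedCategory.isGE_iff]
    intro i hi
    exact (IsZero.iff_id_eq_zero _).2 ((tilde.functor A).map_injective (IsZero.eq_of_src
      ((Functor.map_isZero (Scheme.Modules.restrictFunctor j) (K.isZero_of_isGE a i hi)).of_iso (eH i)) _ _))
  haveI : M.IsLE b := by
    rw [DerivedCategory.isLE_iff]
    intro i hi
    exact (IsZero.iff_id_eq_zero _).2 ((tilde.functor A).map_injective (IsZero.eq_of_src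
      ((Functor.map_isZero (Scheme.Modules.restrictFunctor j) (K.isZero_of_isLE b i hi)).of_iso (eH i)) _ _))
  have horth : ∀ (i : ℤ) (φ : LocalZero.S₀.obj N ⟶ M⟦i⟧), φ = 0 := fun i φ => by
    obtain ⟨e⟩ := HDURestr.nonempty_hom_addEquiv (lshAdj j) (tilde N) Ox
      ((lsh j).mapIso eR.symm ≪≫ asIso ((lshAdj j).counit.app Ox)) K i
    let c := ((DCoh.tildeD A).commShiftIso i).app M ≪≫ (shiftFunctor _ i).mapIso eM
    let d := ((tilde.functor A).mapDerivedCategorySingleFunctor 0).app N
    refine (tildeD_map_bijective (LocalZero.S₀.obj N) (M⟦i⟧)).1 ?_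
    rw [Functor.map_zero, ← cancel_epi d.inv, ← cancel_mono c.hom, comp_zero, zero_comp]
    apply e.symm.injective
    rw [map_zero]
    exact h0 i _
  haveI := hmax
  rw [notMem_support_iff]
  exact isZero_stalk_of_restrict j v _ ((isZero_stalk_tilde v _
    (LocalZero.exists_smul_eq_zero a b hfin N hN0 horth i)).of_iso
      ((DerSch.stalkFunctor _ v).mapIso (eH i)).symm)

/-- Finitely many closed supports avoiding `x` miss a neighbourhood. -/
theorem exists_open [IsNoetherian X] (x : X) (K : DCoh.D X) (hK : DCoh.IsCohD K) (a b : ℤ)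
    [K.IsGE a] [K.IsLE b] (h : ∀ i, x ∉ CohB1.support (DCoh.HD K i)) :
    ∃ U : X.Opens, x ∈ U ∧ ∀ (i : ℤ) (y : X), y ∈ U → y ∉ CohB1.support (DCoh.HD K i) := by
  have hcl : IsClosed (⋃ i ∈ Finset.Icc a b, CohB1.support (DCoh.HD K i)) :=
    Set.Finite.isClosed_biUnion (Finset.Icc a b).finite_toSet fun i _ =>
      QCoh.isClosed_support_of_isFT (hK i).1 (hK i).2
  refine ⟨⟨_, hcl.isOpen_compl⟩, fun hm => ?_, fun i y hy hs => hy ?_⟩
  · obtain ⟨i, -, hi⟩ := Set.mem_iUnion₂.1 hm
    exact h i hi
  · refine Set.mem_iUnion₂.2 ⟨i, Finset.mem_Icc.2 ⟨?_, ?_⟩, hs⟩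
    · by_contra hlt
      exact (notMem_support_iff _ y).2 ((DerSch.stalkFunctor X y).map_isZero (K.isZero_of_isGE a i (by omega))) hs
    · by_contra hlt
      exact (notMem_support_iff _ y).2 ((DerSch.stalkFunctor X y).map_isZero (K.isZero_of_isLE b i (by omega))) hs

end Groth.Agent.DEqLib.Sib.GeoPoint
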