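import Groth.Agent.SheafHomX.Basic
import Groth.Agent.QCoh.LocFree
import Groth.Agent.QCoh.DevissageSum
import Groth.Agent.QCoh.DevissageIdeal

/-! `hom` out of a finite free module, with few imports. -/

set_option linter.style.haveILetI false
set_option backward.isDefEq.respectTransparency false

universe u

open CategoryTheory CategoryTheory.Limits AlgebraicGeometry

namespace Groth.Agent.DEqLib.Sib.HomBiprod

open Groth.Agent Groth.Agent.SheafHomX

attribute [local instance] QCoh.hasFiniteBiproducts

variable {X : Scheme.{u}}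

/-- `homMap` as an additive map. -/
noncomputable def homMapHom (M M' N : X.Modules) : (M ⟶ M') →+ ((hom M').obj N ⟶ (hom M).obj N) where
  toFun g := (homMap g).app N
  map_zero' := homMap_zero M M' N
  map_add' f g := homMap_add f g N

/-- A contravariant additive assignment turns finite sums into finite products. -/
noncomputable def contraBiproductIso {C D : Type*} [Category C] [Category D] [Preadditive C] [Preadditive D]
    {β : Type u} [Fintype β] (T : β → C) [HasBiproduct T] (H : C → D) [HasBiproduct fun b => H (T b)]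
    (m : ∀ A B : C, (A ⟶ B) →+ (H B ⟶ H A)) (hid : ∀ A, m A A (𝟙 A) = 𝟙 (H A))
    (hcomp : ∀ {A B E : C} (f : A ⟶ B) (g : B ⟶ E), m A E (f ≫ g) = m B E g ≫ m A B f) :
    H (⨁ T) ≅ ⨁ fun b => H (T b) where
  hom := biproduct.lift fun b => m _ _ (biproduct.ι T b)
  inv := biproduct.desc fun b => m _ _ (biproduct.π T b)
  hom_inv_id := by
    classical
    have key : ∀ {W W' : D} (g : ∀ b : β, W ⟶ H (T b)) (h : ∀ b : β, H (T b) ⟶ W'),
        biproduct.lift g ≫ biproduct.desc h = ∑ b : β, g b ≫ h b := fun g h => by
      have e : biproduct.lift g = ∑ b : β, g b ≫ biproduct.ι (fun b => H (T b)) b :=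
        biproduct.hom_ext _ _ fun j => by
          simp [Preadditive.sum_comp, biproduct.ι_π, comp_dite]
      rw [e, Preadditive.sum_comp]
      exact Finset.sum_congr rfl fun b _ => by rw [Category.assoc, biproduct.ι_desc]
    rw [key]
    simp_rw [← hcomp]
    have htot : ∑ b : β, biproduct.π T b ≫ biproduct.ι T b = 𝟙 (⨁ T) :=
      biproduct.hom_ext _ _ fun j => by
        simp [Preadditive.sum_comp, biproduct.ι_π, comp_dite]
    rw [← map_sum, htot, hid]
  inv_hom_id := by
    classical
    refine biproduct.hom_ext' _ _ fun b => biproduct.hom_ext _ _ fun c => ?_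
    rw [Category.comp_id, biproduct.ι_desc_assoc, Category.assoc, biproduct.lift_π, ← hcomp,
      biproduct.ι_π, biproduct.ι_π]
    by_cases h : b = c
    · subst h
      simp [hid]
    · simp [h, Ne.symm h]

/-- `hom` turns finite sums into finite products. -/
noncomputable def homBiproductIso {β : Type u} [Fintype β] (T : β → X.Modules) (N : X.Modules) :
    (hom (⨁ T)).obj N ≅ ⨁ fun b => (hom (T b)).obj N :=
  contraBiproductIso T (fun A => (hom A).obj N) (fun A B => homMapHom A B N) (fun A => homMap_id A N)
    (fun f g => homMap_comp f g N)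

/-- `hom` of a finite free module. -/
theorem isQCoh_hom_biproduct_unit {σ : Type u} [Fintype σ] {N : X.Modules} (hN : Coh.IsQCoh N) :
    Coh.IsQCoh ((hom (⨁ fun _ : σ => Coh.structureModule X)).obj N) :=
  (QCoh.isQCoh_iff_iso (homBiproductIso _ N)).2
    (QCoh.isQCoh_biproduct _ fun _ => (QCoh.isQCoh_iff_iso ((unitIso X).app N)).2 hN)
end Groth.Agent.DEqLib.Sib.HomBiprod
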