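import Groth.Prelude.Def_PerfAux
import Groth.Agent.DEqLib.Sib.HomBiprod
import Groth.Agent.QCoh.ExtendFT
import Groth.Agent.QCoh.Qcqs
import Groth.Agent.QCoh.FT
import Groth.Agent.Algz7.Restrict
import Groth.Agent.KFlatLib.Perfect.LocFree
import Groth.Agent.InvX.GenLocus

/-! Quotients of pullbacks of locally free modules: affine morphisms and products. -/

universe u

open CategoryTheory CategoryTheory.Limits AlgebraicGeometry TopologicalSpace Opposite

set_option backward.isDefEq.respectTransparency false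
set_option linter.style.haveILetI false

namespace Groth.Agent.DEqLib.Sib.ResProp

open Groth.Agent

attribute [local instance] QCoh.hasFiniteBiproducts

variable {X : Scheme.{u}}

theorem isFinLocFree_freeMod (n : ℕ) : FlatMod.IsFinLocFree (FlatMod.freeMod X n) :=
  fun _ => ⟨⊤, n, trivial, ⟨QCoh.freeModRestrict _ n⟩⟩

/-- A morphism out of a quasi-coherent module which kills all sections over the members of an
affine cover vanishes. -/
theorem eq_zero_of_affine_cover {M Q : X.Modules} (hM : Coh.IsQCoh M) (g : M ⟶ Q) {κ : Type*}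
    (V : κ → X.Opens) (hV : ∀ i, IsAffineOpen (V i)) (hcov : ∀ x : X, ∃ i, x ∈ V i)
    (h : ∀ i s, g.app (V i) s = 0) : g = 0 := by
  refine Scheme.Modules.hom_ext _ _ fun O => ?_
  ext s
  refine QCoh.eq_zero_of_locally O _ fun x hx => ?_
  obtain ⟨i, hi⟩ := hcov x
  obtain ⟨a, ha, hxa⟩ := (hV i).exists_basicOpen_le (V := O) ⟨x, hx⟩ hi
  refine ⟨X.basicOpen a, homOfLE ha, hxa, ?_⟩
  rw [← QCoh.map_app_comm]
  obtain ⟨n, t, ht⟩ := QCoh.exists_pow_smul_eq_map hM (hV i) a (M.presheaf.map (homOfLE ha).op s)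
  have h1 := congrArg (g.app (X.basicOpen a)) ht
  rw [QCoh.map_app_comm, h, map_zero, Scheme.Modules.Hom.app_smul] at h1
  have hu : IsUnit ((X.presheaf.map (homOfLE (X.basicOpen_le a)).op a) ^ n) :=
    (QCoh.isUnit_rf_basicOpen a).pow n
  exact hu.smul_eq_zero.1 h1.symm

section Cover

variable [CompactSpace X] [QuasiSeparatedSpace X] (hX : PerfAux.HasResolutionProperty X)

include hX

/-- Finitely many sections over an affine open come from a locally free module. -/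
theorem exists_sections {G : X.Modules} (hG : Coh.IsQCoh G) {W : X.Opens} (hW : IsAffineOpen W)
    {T : Set Γ(G, W)} (hT : T.Finite) :
    ∃ (E : X.Modules) (π : E ⟶ G), FlatMod.IsFinLocFree E ∧ ∀ t ∈ T, ∃ e, π.app W e = t := by
  obtain ⟨p, hp, hsup, hstep⟩ := QCoh.extStep_qcqs hW.isCompact
  obtain ⟨N, hN, hag⟩ := QCoh.exists_ftOn_top hG p hp hsup hstep (QCoh.ftOn_spanSub hW hT)
  have hq := QCoh.isQCoh_of_ftOn hG hN
  obtain ⟨E, π, hE, hπ⟩ := hX N.toModules hq (QCoh.isFT_of_ftOn hG hN)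
  refine ⟨E, π ≫ N.ι, hE, fun t ht => ?_⟩
  obtain ⟨n, hn⟩ := N.exists_app_eq (U := W) (s := t) (by rw [hag W le_rfl]; exact QCoh.mem_spanSub ht)
  obtain ⟨e, he⟩ := QCoh.app_surjective_of_epi (QCoh.isQCoh_of_isFinLocFree hE) hq π hW n
  exact ⟨e, (congrArg (N.ι.app W) he).trans hn⟩

theorem exists_sections_finset {G : X.Modules} (hG : Coh.IsQCoh G) {κ : Type*} (s : Finset κ)
    (W : κ → X.Opens) (hW : ∀ i, IsAffineOpen (W i)) (T : ∀ i, Set Γ(G, W i))
    (hT : ∀ i, (T i).Finite) :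
    ∃ (E : X.Modules) (π : E ⟶ G), FlatMod.IsFinLocFree E ∧
      ∀ i ∈ s, ∀ t ∈ T i, ∃ e, π.app (W i) e = t := by
  classical
  induction s using Finset.induction_on with
  | empty => exact ⟨FlatMod.freeMod X 0, 0, isFinLocFree_freeMod 0, by simp⟩
  | insert a s ha ih =>
    obtain ⟨E, π, hE, hπ⟩ := ih
    obtain ⟨E', π', hE', hπ'⟩ := exists_sections hX hG (hW a) (hT a)
    refine ⟨E ⊞ E', biprod.desc π π', KFlatLib.isFinLocFree_biprod hE hE', fun i hi t ht => ?_⟩
    rcases Finset.mem_insert.1 hi with rfl | hi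
    · obtain ⟨e, he⟩ := hπ' t ht
      refine ⟨(biprod.inr : E' ⟶ E ⊞ E').app _ e, ?_⟩
      refine Eq.trans ?_ he
      exact congr(($(biprod.inr_desc π π')).app _ e)
    · obtain ⟨e, he⟩ := hπ i hi t ht
      refine ⟨(biprod.inl : E ⟶ E ⊞ E').app _ e, ?_⟩
      refine Eq.trans ?_ he
      exact congr(($(biprod.inl_desc π π')).app _ e)

/-- Along an affine morphism quasi-coherent modules of finite type are quotients of pullbacks of
locally free modules. -/
theorem exists_epi_of_affine {Z : Scheme.{u}} (f : Z ⟶ X) [IsAffineHom f] {M : Z.Modules}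
    (hM : Coh.IsQCoh M) (hft : CohB1.IsFT M) :
    ∃ (E : X.Modules) (φ : (Scheme.Modules.pullback f).obj E ⟶ M), FlatMod.IsFinLocFree E ∧ Epi φ := by
  classical
  let G := (Scheme.Modules.pushforward f).obj M
  have hG : Coh.IsQCoh G := QCoh.isQCoh_pushforward f hM
  obtain ⟨c, hc⟩ := isCompact_univ.elim_finite_subcover (fun V : X.affineOpens => (V.1 : Set X))
    (fun V => V.1.2) fun x _ => by
      obtain ⟨_, ⟨V, hV, rfl⟩, hxV, -⟩ := X.isBasis_affineOpens.exists_subset_of_mem_open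
        (Set.mem_univ x) isOpen_univ
      exact Set.mem_iUnion.2 ⟨⟨V, hV⟩, hxV⟩
  have hfin : ∀ V : X.affineOpens, ∃ T : Finset Γ(M, f ⁻¹ᵁ V.1),
      Submodule.span Γ(Z, f ⁻¹ᵁ V.1) (T : Set Γ(M, f ⁻¹ᵁ V.1)) = ⊤ := fun V =>
    (QCoh.finite_of_isFT hM hft (V.2.preimage f)).fg_top
  choose T hT using hfin
  obtain ⟨E, π, hE, hπ⟩ := exists_sections_finset hX hG c (fun V => V.1) (fun V => V.2)
    (fun V => (T V : Set Γ(M, f ⁻¹ᵁ V.1))) (fun V => (T V).finite_toSet)
  let adj := Scheme.Modules.pullbackPushforwardAdjunction f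
  let φ := (adj.homEquiv E M).symm π
  refine ⟨E, φ, hE, Preadditive.epi_of_cancel_zero _ fun {Q} g hg => ?_⟩
  have h0 : π ≫ (Scheme.Modules.pushforward f).map g = 0 := by
    rw [← (adj.homEquiv E Q).symm.injective.eq_iff, adj.homEquiv_naturality_right_symm]
    refine hg.trans (Eq.symm ?_)
    rw [Adjunction.homEquiv_counit, Functor.map_zero, zero_comp]
  refine eq_zero_of_affine_cover hM g (fun V : c => f ⁻¹ᵁ V.1.1) (fun V => V.1.2.preimage f)
    (fun z => ?_) fun V s => ?_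
  · obtain ⟨V, hV, hz⟩ := Set.mem_iUnion₂.1 (hc (Set.mem_univ (f z)))
    exact ⟨⟨V, hV⟩, hz⟩
  · have hs : s ∈ Submodule.span Γ(Z, f ⁻¹ᵁ V.1.1) (T V.1 : Set Γ(M, f ⁻¹ᵁ V.1.1)) := by
      rw [hT]; trivial
    induction hs using Submodule.span_induction with
    | mem x hx =>
      obtain ⟨e, he⟩ := hπ V.1 V.2 x hx
      rw [← he]
      exact congr(($h0).app V.1.1 e)
    | zero => exact map_zero _
    | add x y _ _ hx hy => rw [map_add, hx, hy, add_zero]
    | smul a x _ hx => rw [Scheme.Modules.Hom.app_smul, hx, smul_zero]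

end Cover

/-- `hom` out of a finite locally free module preserves quasi-coherence. -/
theorem isQCoh_hom {N F : X.Modules} (hN : FlatMod.IsFinLocFree N) (hF : Coh.IsQCoh F) :
    Coh.IsQCoh ((SheafHomX.hom N).obj F) := by
  choose U n hx he using hN
  refine QCoh.isQCoh_of_isOpenCover U (top_le_iff.1 fun x _ => Opens.mem_iSup.2 ⟨x, hx x⟩) fun x => ?_
  let T : ULift.{u} (Fin (n x)) → (U x : Scheme.{u}).Modules := fun _ => Coh.structureModule (U x)
  let g : N.restrict (U x).ι ≅ ⨁ T :=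
    (he x).some ≪≫ QCoh.freeModIso _ (n x) ≪≫ (biproduct.isoCoproduct T).symm
  let c : (SheafHomX.hom (N.restrict (U x).ι)).obj (F.restrict (U x).ι) ≅
      (SheafHomX.hom (⨁ T)).obj (F.restrict (U x).ι) :=
    { hom := (SheafHomX.homMap g.inv).app _
      inv := (SheafHomX.homMap g.hom).app _
      hom_inv_id := by rw [← SheafHomX.homMap_comp, Iso.hom_inv_id, SheafHomX.homMap_id]
      inv_hom_id := by rw [← SheafHomX.homMap_comp, Iso.inv_hom_id, SheafHomX.homMap_id] }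
  exact (QCoh.isQCoh_iff_iso ((SheafHomX.restrictIso (U x).ι N).app F ≪≫ c)).2
    (DEqLib.Sib.HomBiprod.isQCoh_hom_biproduct_unit (QCoh.isQCoh_restrict _ hF))

section Product

variable {Y Z : Scheme.{u}} {q₁ : Z ⟶ X} {q₂ : Z ⟶ Y}

/-- One step of the box product surjection: over the preimage of an affine open of `X`. -/
theorem exists_box_step [CompactSpace X] [QuasiSeparatedSpace X] [CompactSpace Y]
    [QuasiSeparatedSpace Y] [QuasiCompact q₁] [QuasiSeparated q₁] (hX : PerfAux.HasResolutionProperty X)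
    (hY : PerfAux.HasResolutionProperty Y) {F : Z.Modules} (hF : Coh.IsQCoh F)
    (hft : CohB1.IsFT F) {W : X.Opens} (hW : IsAffineOpen W) (haff : IsAffineHom ((q₁ ⁻¹ᵁ W).ι ≫ q₂)) :
    ∃ (E : X.Modules) (G : Y.Modules) (θ : (SheafHomX.ten ((Scheme.Modules.pullback q₂).obj G)).obj
        ((Scheme.Modules.pullback q₁).obj E) ⟶ F),
      FlatMod.IsFinLocFree E ∧ FlatMod.IsFinLocFree G ∧
        ∀ (Q : Z.Modules) (g : F ⟶ Q), θ ≫ g = 0 →
          ∀ O, O ≤ q₁ ⁻¹ᵁ W → ∀ s, g.app O s = 0 := by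
  let U := q₁ ⁻¹ᵁ W
  let R := Scheme.Modules.restrictFunctor U.ι
  have hF' : Coh.IsQCoh (R.obj F) := QCoh.isQCoh_restrict _ hF
  have hft' : CohB1.IsFT (R.obj F) :=
    Algz7.isFT_restrict U.ι hF hft
  obtain ⟨G, φ₀, hG, hφ₀⟩ := exists_epi_of_affine hY (U.ι ≫ q₂) hF' hft'
  let N := (Scheme.Modules.pullback q₂).obj G
  have hN : FlatMod.IsFinLocFree N := KFlatLib.isFinLocFree_pullback q₂ hG
  let φ : R.obj N ⟶ R.obj F :=
    ((Scheme.Modules.restrictFunctorIsoPullback U.ι).app N ≪≫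
      (Scheme.Modules.pullbackComp U.ι q₂).app G).hom ≫ φ₀
  haveI : Epi φ := @epi_comp _ _ _ _ _ _ inferInstance _ hφ₀
  let H := (SheafHomX.hom N).obj F
  let σ : Coh.structureModule U ⟶ R.obj H :=
    (SheafHomX.ev (R.obj N) (R.obj F)).symm φ ≫ (SheafHomX.restrictIso U.ι N).inv.app F
  have hU : U ≤ U.ι ''ᵁ ⊤ := U.ι_image_top.ge
  let t : Γ(H, U) := H.presheaf.map (homOfLE hU).op ((H.restrictAppIso U.ι ⊤).hom (InvX.one σ))
  obtain ⟨E, π, hE, hπ⟩ := exists_sections hX (QCoh.isQCoh_pushforward q₁ (isQCoh_hom hN hF)) hW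
    (T := {(show Γ((Scheme.Modules.pushforward q₁).obj H, W) from t)}) (Set.finite_singleton _)
  obtain ⟨e, he⟩ := hπ _ (Set.mem_singleton _)
  let adj := Scheme.Modules.pullbackPushforwardAdjunction q₁
  let ψ := (adj.homEquiv E H).symm π
  refine ⟨E, G, ((SheafHomX.adj N).homEquiv _ F).symm ψ, hE, hG, fun Q g hg => ?_⟩
  have h1 : ψ ≫ (SheafHomX.hom N).map g = 0 := by
    rw [← ((SheafHomX.adj N).homEquiv _ Q).symm.injective.eq_iff,
      (SheafHomX.adj N).homEquiv_naturality_right_symm]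
    refine hg.trans (Eq.symm ?_)
    rw [Adjunction.homEquiv_counit, Functor.map_zero, zero_comp]
  have h2 : π ≫ (Scheme.Modules.pushforward q₁).map ((SheafHomX.hom N).map g) = 0 := by
    rw [← (adj.homEquiv E _).symm.injective.eq_iff, adj.homEquiv_naturality_right_symm]
    refine h1.trans (Eq.symm ?_)
    rw [Adjunction.homEquiv_counit, Functor.map_zero, zero_comp]
  have h3 : ((SheafHomX.hom N).map g).app U t = 0 := by
    have := congr(($h2).app W e)
    rw [show t = π.app W e from he.symm]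
    exact this
  have h4 : σ ≫ R.map ((SheafHomX.hom N).map g) = 0 := by
    have hone : InvX.one (σ ≫ R.map ((SheafHomX.hom N).map g)) = 0 := by
      show ((SheafHomX.hom N).map g).app (U.ι ''ᵁ ⊤) ((H.restrictAppIso U.ι ⊤).hom (InvX.one σ)) = 0
      refine QCoh.eq_zero_of_locally _ _ fun p hp => ?_
      refine ⟨U, homOfLE hU, U.ι_image_top.le hp, ?_⟩
      rw [← QCoh.map_app_comm]
      exact h3
    refine Scheme.Modules.hom_ext _ _ fun O => ?_
    ext r
    refine (InvX.app_eq_smul _ (show Γ(U, O) from r)).trans ?_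
    rw [hone]
    show (show Γ(U, O) from r) • (R.obj ((SheafHomX.hom N).obj Q)).presheaf.map _ 0 = 0
    rw [map_zero, smul_zero]
  have h5 : φ ≫ R.map g = 0 := by
    have e2 : ∀ x, x ≫ (SheafHomX.hom (R.obj N)).map (R.map g) = 0 →
        SheafHomX.ev (R.obj N) (R.obj F) x ≫ R.map g = 0 := fun x hx => by
      rw [← SheafHomX.ev_naturality, hx, map_zero]
    have h := e2 ((SheafHomX.ev (R.obj N) (R.obj F)).symm φ) ?_
    · rwa [AddEquiv.apply_symm_apply] at h
    have hnat := SheafHomX.restrict_map U.ι N g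
    have := congrArg (fun z => z ≫ (SheafHomX.restrictIso U.ι N).hom.app Q) h4
    simp only [σ, Category.assoc, zero_comp] at this
    erw [hnat] at this
    rwa [Iso.inv_hom_id_app_assoc] at this
  have h6 : R.map g = 0 := (cancel_epi φ).1 (h5.trans comp_zero.symm)
  intro O hO s
  have hO' : U.ι ''ᵁ (U.ι ⁻¹ᵁ O) = O := by
    rw [Scheme.Hom.image_preimage_eq_opensRange_inf, Scheme.Opens.opensRange_ι]
    exact inf_eq_right.2 hO
  revert s
  rw [← hO']
  intro s
  exact congr(($h6).app (U.ι ⁻¹ᵁ O) s)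

/-- The tensor product of two morphisms. -/
noncomputable def tm {M M' N N' : Z.Modules} (a : M ⟶ M') (b : N ⟶ N') :
    ((DCoh.tensorBi (X := Z)).obj M).obj N ⟶ ((DCoh.tensorBi (X := Z)).obj M').obj N' :=
  ((DCoh.tensorBi (X := Z)).map a).app N ≫ ((DCoh.tensorBi (X := Z)).obj M').map b

lemma tm_comp {M M' M'' N N' N'' : Z.Modules} (a : M ⟶ M') (a' : M' ⟶ M'') (b : N ⟶ N')
    (b' : N' ⟶ N'') : tm a b ≫ tm a' b' = tm (a ≫ a') (b ≫ b') := by
  simp only [tm, Functor.map_comp, NatTrans.comp_app, Category.assoc]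
  rw [← ((DCoh.tensorBi (X := Z)).map a').naturality_assoc b]

lemma tm_id (M N : Z.Modules) : tm (𝟙 M) (𝟙 N) = 𝟙 _ := by simp [tm]

lemma tm_zero_left {M M' N N' : Z.Modules} (b : N ⟶ N') : tm (0 : M ⟶ M') b = 0 := by simp [tm]

/-- Surjections from box products for a family covering `X`. -/
theorem exists_box_surjection [CompactSpace X] [QuasiSeparatedSpace X] [CompactSpace Y]
    [QuasiSeparatedSpace Y] [QuasiCompact q₁] [QuasiSeparated q₁] (hX : PerfAux.HasResolutionProperty X)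
    (hY : PerfAux.HasResolutionProperty Y)
    (haff : ∀ W : X.Opens, IsAffineOpen W → IsAffineHom ((q₁ ⁻¹ᵁ W).ι ≫ q₂))
    {F : Z.Modules} (hF : Coh.IsQCoh F) (hft : CohB1.IsFT F) :
    ∃ (E : X.Modules) (G : Y.Modules), FlatMod.IsFinLocFree E ∧ FlatMod.IsFinLocFree G ∧
      ∃ π : CohB1.tensorMod ((Scheme.Modules.pullback q₁).obj E)
        ((Scheme.Modules.pullback q₂).obj G) ⟶ F, Epi π := by
  classical
  let p₁ := Scheme.Modules.pullback q₁
  let p₂ := Scheme.Modules.pullback q₂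
  let T := DCoh.tensorBi (X := Z)
  suffices h : ∀ c : Finset X.affineOpens, ∃ (E : X.Modules) (G : Y.Modules), FlatMod.IsFinLocFree E ∧
      FlatMod.IsFinLocFree G ∧ ∃ θ : (T.obj (p₁.obj E)).obj (p₂.obj G) ⟶ F,
        ∀ (Q : Z.Modules) (g : F ⟶ Q), θ ≫ g = 0 →
          ∀ V ∈ c, ∀ O, O ≤ q₁ ⁻¹ᵁ (V : X.Opens) → ∀ s, g.app O s = 0 by
    obtain ⟨c, hc⟩ := isCompact_univ.elim_finite_subcover (fun V : X.affineOpens => (V.1 : Set X))
      (fun V => V.1.2) fun x _ => by
        obtain ⟨_, ⟨V, hV, rfl⟩, hxV, -⟩ := X.isBasis_affineOpens.exists_subset_of_mem_open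
          (Set.mem_univ x) isOpen_univ
        exact Set.mem_iUnion.2 ⟨⟨V, hV⟩, hxV⟩
    obtain ⟨E, G, hE, hG, θ, hθ⟩ := h c
    refine ⟨E, G, hE, hG, θ, Preadditive.epi_of_cancel_zero _ fun {Q} g hg => ?_⟩
    refine Scheme.Modules.hom_ext _ _ fun O => ?_
    ext s
    refine QCoh.eq_zero_of_locally O _ fun z hz => ?_
    obtain ⟨V, hV, hzV⟩ := Set.mem_iUnion₂.1 (hc (Set.mem_univ (q₁ z)))
    refine ⟨O ⊓ q₁ ⁻¹ᵁ V.1, homOfLE inf_le_left, ⟨hz, hzV⟩, ?_⟩
    rw [← QCoh.map_app_comm]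
    exact hθ Q g hg V hV _ inf_le_right _
  intro c
  induction c using Finset.induction_on with
  | empty => exact ⟨FlatMod.freeMod X 0, FlatMod.freeMod Y 0, isFinLocFree_freeMod 0,
      isFinLocFree_freeMod 0, 0, by simp⟩
  | insert a c ha ih =>
    obtain ⟨E, G, hE, hG, θ, hθ⟩ := ih
    obtain ⟨E', G', θ', hE', hG', hθ'⟩ :=
      exists_box_step (q₁ := q₁) (q₂ := q₂) hX hY hF hft a.2 (haff _ a.2)
    let θ'' : (T.obj (p₁.obj (E ⊞ E'))).obj (p₂.obj (G ⊞ G')) ⟶ F :=
      tm (p₁.map (biprod.fst : E ⊞ E' ⟶ E)) (p₂.map (biprod.fst : G ⊞ G' ⟶ G)) ≫ θ +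
        tm (p₁.map (biprod.snd : E ⊞ E' ⟶ E')) (p₂.map (biprod.snd : G ⊞ G' ⟶ G')) ≫ θ'
    have e1 : tm (p₁.map (biprod.inl : E ⟶ E ⊞ E')) (p₂.map (biprod.inl : G ⟶ G ⊞ G')) ≫ θ'' = θ := by
      refine (Preadditive.comp_add _ _ _ _ _ _).trans ?_
      rw [← Category.assoc, ← Category.assoc, tm_comp, tm_comp, ← p₁.map_comp, ← p₁.map_comp,
        ← p₂.map_comp, ← p₂.map_comp, biprod.inl_fst, biprod.inl_snd, biprod.inl_fst, biprod.inl_snd,
        p₁.map_id, p₂.map_id, p₁.map_zero, tm_zero_left, zero_comp, add_zero, tm_id]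
      exact Category.id_comp θ
    have e2 : tm (p₁.map (biprod.inr : E' ⟶ E ⊞ E')) (p₂.map (biprod.inr : G' ⟶ G ⊞ G')) ≫ θ'' = θ' := by
      refine (Preadditive.comp_add _ _ _ _ _ _).trans ?_
      rw [← Category.assoc, ← Category.assoc, tm_comp, tm_comp, ← p₁.map_comp, ← p₁.map_comp,
        ← p₂.map_comp, ← p₂.map_comp, biprod.inr_fst, biprod.inr_snd, biprod.inr_fst, biprod.inr_snd,
        p₁.map_id, p₂.map_id, p₁.map_zero, tm_zero_left, zero_comp, zero_add, tm_id]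
      exact Category.id_comp θ'
    refine ⟨E ⊞ E', G ⊞ G', KFlatLib.isFinLocFree_biprod hE hE', KFlatLib.isFinLocFree_biprod hG hG',
      θ'', fun Q g hg V hV => ?_⟩
    rcases Finset.mem_insert.1 hV with rfl | hV
    · refine hθ' Q g ?_
      exact (congrArg (· ≫ g) e2.symm).trans (by rw [Category.assoc, hg, comp_zero])
    · refine hθ Q g ?_ V hV
      exact (congrArg (· ≫ g) e1.symm).trans (by rw [Category.assoc, hg, comp_zero])

end Product

end Groth.Agent.DEqLib.Sib.ResProp
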