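import Groth.Agent.DEqLib.Sib.RegResProp
import Groth.Agent.S1110
import Groth.Agent.CurveEmbed.Conic
import Groth.Agent.GrpSchLib.SmoothRegular
import Groth.Agent.ZH85.ProjSpaceBC
import Groth.Agent.PnCoh.Chow.Proper
import Groth.Agent.H23.P1Charts
import Groth.Prelude.Def_RelProj

/-!
# The resolution property for schemes H-projective over a field
-/

universe u

open CategoryTheory CategoryTheory.Limits AlgebraicGeometry

set_option backward.isDefEq.respectTransparency false

namespace Groth.Agent.DEqLib.Sib.HProjRes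

variable (k : Type u) [Field k] {X : Scheme.{u}}

theorem exists_closedImmersion (f : X ⟶ Spec (CommRingCat.of k)) (hf : RelProj.IsHProjective f) :
    ∃ (n : ℕ) (i : X ⟶ CohB1.ProjSpace n k), IsClosedImmersion i ∧ i ≫ CohB1.ProjSpace.toSpec n k = f := by
  obtain ⟨n, i, hi, hif⟩ := hf
  let g : ULift.{u} ℤ →+* k := H23.P1Charts.up k
  have hg : Spec.map (CommRingCat.ofHom g) = specULiftZIsTerminal.from (Spec (CommRingCat.of k)) :=
    specULiftZIsTerminal.hom_ext _ _
  have hpb : IsPullback (ZH85.ProjSpaceBC.bc n g) (CohB1.ProjSpace.toSpec n k)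
      (CohB1.ProjSpace.toSpec n (ULift.{u} ℤ)) (specULiftZIsTerminal.from (Spec (CommRingCat.of k))) :=
    hg ▸ ZH85.ProjSpaceBC.isPullback_bc n g
  let e : CohB1.ProjSpace n k ≅ CohB1.ProjSpaceOver n (Spec (CommRingCat.of k)) := hpb.isoPullback
  have he : e.hom ≫ CohB1.ProjSpaceOver.toBase n _ = CohB1.ProjSpace.toSpec n k := hpb.isoPullback_hom_snd
  haveI := hi
  exact ⟨n, i ≫ e.inv, inferInstance, by rw [← he, Category.assoc, Iso.inv_hom_id_assoc, hif]⟩

theorem isProper (f : X ⟶ Spec (CommRingCat.of k)) (hf : RelProj.IsHProjective f) : IsProper f := by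
  obtain ⟨n, i, hi, rfl⟩ := exists_closedImmersion k f hf
  haveI := hi
  haveI := PnCoh.Chow.isProper_toSpec n k
  infer_instance

theorem hasResolutionProperty (f : X ⟶ Spec (CommRingCat.of k)) (hf : RelProj.IsHProjective f) :
    PerfAux.HasResolutionProperty X := by
  obtain ⟨n, i, hi, -⟩ := exists_closedImmersion k f hf
  haveI := hi
  haveI := PnCoh.Chow.isProper_toSpec n k
  haveI := CurveEmbed.smooth_toSpec n k
  let P := CohB1.ProjSpace n k
  haveI : P.IsSeparated :=
    ⟨by rw [← Limits.terminal.comp_from (CohB1.ProjSpace.toSpec n k)]; infer_instance⟩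
  haveI : CompactSpace P := (quasiCompact_iff_compactSpace (CohB1.ProjSpace.toSpec n k)).1 inferInstance
  haveI : IsLocallyNoetherian P := LocallyOfFiniteType.isLocallyNoetherian (CohB1.ProjSpace.toSpec n k)
  exact S1110.result i (RegResProp.hasResolutionProperty P
    (fun x => GrpSchLib.isRegularLocalRing_stalk_of_smooth (CohB1.ProjSpace.toSpec n k) x)
    fun U V hU hV => hU.inf hV)

end Groth.Agent.DEqLib.Sib.HProjRes
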