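import Groth.Agent.DEqLib.Sib.StrongGen
import Groth.Agent.S0924
import Groth.Agent.S0999
import Groth.Agent.S1005

/-! A homological functor on perfect objects is bounded on coherent modules. -/

universe u v' u'

open CategoryTheory CategoryTheory.Limits CategoryTheory.Pretriangulated AlgebraicGeometry ZeroObject

set_option backward.isDefEq.respectTransparency false
set_option linter.style.haveILetI false
set_option linter.unusedSectionVars false

attribute [local instance] HasDerivedCategory.standard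

noncomputable section

namespace Groth.Agent.DEqLib.Sib.HomBounded

open Groth.Agent Groth.Agent.KFlatLib

variable {X : Scheme.{u}}

theorem isPerfect_of_iso {K L : DCoh.D X} (e : K ≅ L) (h : DCoh.IsPerfect K) : DCoh.IsPerfect L := fun x => by
  obtain ⟨V, hx, hV⟩ := h x
  exact ⟨V, hx, fun F hF => hV F (hF.map (· ≪≫ e.symm))⟩

theorem isPerfect_of_retract {K L : DCoh.D X} (r : Retract K L) (h : DCoh.IsPerfect L) : DCoh.IsPerfect K := by
  haveI : IsSplitMono r.i := IsSplitMono.mk' ⟨r.r, r.retract⟩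
  haveI : Mono r.i := inferInstance
  obtain ⟨C, g, δ, hT⟩ := distinguished_cocone_triangle r.i
  obtain ⟨e, -, -⟩ := exists_iso_binaryBiproduct_of_distTriang _ hT
    ((Triangle.mor₃_eq_zero_iff_mono₁ _ hT).2 ‹Mono r.i›)
  exact (S0924.result K C (isPerfect_of_iso e h)).1

variable [ObjectProperty.IsTriangulated (fun K : DCoh.D X => DCoh.IsPerfect K)]

/-- The perfect objects. -/
abbrev Perf (X : Scheme.{u}) : ObjectProperty (DCoh.D X) := fun K => DCoh.IsPerfect K

variable {A : Type u'} [Category.{v'} A] [Abelian A] (H : (Perf X).FullSubcategory ⥤ A) [H.IsHomological]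

/-- `L` is perfect and `H (L⟦i⟧)` vanishes for `|i| > T`. -/
def W (T : ℕ) (L : DCoh.D X) : Prop :=
  ∃ hL : DCoh.IsPerfect L, ∀ i : ℤ, (i < -(T : ℤ) ∨ (T : ℤ) < i) →
    IsZero (H.obj ((shiftFunctor (Perf X).FullSubcategory i).obj ⟨L, hL⟩))

theorem W.mono {T T' : ℕ} (h : T ≤ T') {L : DCoh.D X} (hL : W H T L) : W H T' L :=
  ⟨hL.choose, fun i hi => hL.choose_spec i (by omega)⟩

theorem W.retract {T : ℕ} {L L' : DCoh.D X} (r : Retract L L') (h : W H T L') : W H T L := by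
  obtain ⟨hL', hz⟩ := h
  refine ⟨isPerfect_of_retract r hL', fun i hi => ?_⟩
  let r' : Retract (⟨L, isPerfect_of_retract r hL'⟩ : (Perf X).FullSubcategory) ⟨L', hL'⟩ :=
    ⟨ObjectProperty.homMk r.i, ObjectProperty.homMk r.r, ObjectProperty.hom_ext _ r.retract⟩
  let rr := r'.map (shiftFunctor (Perf X).FullSubcategory i ⋙ H)
  rw [IsZero.iff_id_eq_zero]
  exact rr.retract.symm.trans (by rw [(hz i hi).eq_of_src rr.r 0, comp_zero])

theorem W.of_iso {T : ℕ} {L L' : DCoh.D X} (e : L ≅ L') (h : W H T L) : W H T L' :=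
  h.retract H (Retract.ofIso e.symm)

theorem W.zero (T : ℕ) {Z : DCoh.D X} (hZ : IsZero Z) : W H T Z := by
  obtain ⟨Z₀, h0, hp⟩ := (inferInstance : (Perf X).ContainsZero).exists_zero
  refine ⟨isPerfect_of_iso (h0.iso hZ) hp, fun i _ => ?_⟩
  refine Functor.map_isZero H (Functor.map_isZero _ ?_)
  rw [IsZero.iff_id_eq_zero]
  exact ObjectProperty.hom_ext _ (hZ.eq_of_src _ _)

theorem W.shift {T : ℕ} {L : DCoh.D X} (a : ℤ) (h : W H T L) : W H (T + a.natAbs) (L⟦a⟧) := by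
  obtain ⟨hL, hz⟩ := h
  refine ⟨(Perf X).le_shift a _ hL, fun i hi => (hz (a + i) (by omega)).of_iso (H.mapIso ?_)⟩
  refine (shiftFunctor (Perf X).FullSubcategory i).mapIso ?_ ≪≫
    ((shiftFunctorAdd (Perf X).FullSubcategory a i).app ⟨L, hL⟩).symm
  exact ObjectProperty.isoMk _ (((Perf X).ι.commShiftIso a).app ⟨L, hL⟩).symm

theorem W.ext {T : ℕ} {L₁ L₂ L₃ : DCoh.D X} {f : L₁ ⟶ L₂} {g : L₂ ⟶ L₃} {δ : L₃ ⟶ L₁⟦(1 : ℤ)⟧}
    (hT : Triangle.mk f g δ ∈ distTriang (DCoh.D X)) (h₁ : W H T L₁) (h₃ : W H T L₃) : W H T L₂ := by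
  obtain ⟨p₁, z₁⟩ := h₁
  obtain ⟨p₃, z₃⟩ := h₃
  have p₂ : DCoh.IsPerfect L₂ := by
    obtain ⟨L₂', hp, ⟨e⟩⟩ := (Perf X).ext_of_isTriangulatedClosed₂' _ hT p₁ p₃
    exact isPerfect_of_iso e.symm hp
  refine ⟨p₂, fun i hi => ?_⟩
  let K₁ : (Perf X).FullSubcategory := ⟨L₁, p₁⟩
  let K₂ : (Perf X).FullSubcategory := ⟨L₂, p₂⟩
  let K₃ : (Perf X).FullSubcategory := ⟨L₃, p₃⟩
  let f' : K₁ ⟶ K₂ := ObjectProperty.homMk f
  let g' : K₂ ⟶ K₃ := ObjectProperty.homMk g
  let δ' : K₃ ⟶ K₁⟦(1 : ℤ)⟧ := ObjectProperty.homMk (δ ≫ ((Perf X).ι.commShiftIso (1 : ℤ)).inv.app K₁)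
  have hT' : Triangle.mk f' g' δ' ∈ distTriang (Perf X).FullSubcategory := by
    show (Perf X).ι.mapTriangle.obj (Triangle.mk f' g' δ') ∈ distTriang (DCoh.D X)
    refine isomorphic_distinguished _ hT _
      (Triangle.isoMk _ _ (Iso.refl _) (Iso.refl _) (Iso.refl _) ?_ ?_ ?_)
    · simp [f']; rfl
    · simp [g']; rfl
    · refine ((congrArg (_ ≫ ·) (CategoryTheory.Functor.map_id _ _)).trans (Category.comp_id _)).trans ?_
      show (δ ≫ ((Perf X).ι.commShiftIso (1 : ℤ)).inv.app K₁) ≫ ((Perf X).ι.commShiftIso (1 : ℤ)).hom.app K₁ = 𝟙 L₃ ≫ δ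
      rw [Category.assoc, Iso.inv_hom_id_app, Category.id_comp]
      exact Category.comp_id _
  exact (H.map_distinguished_exact _ (Triangle.shift_distinguished _ hT' i)).isZero_of_both_zeros
    ((z₁ i hi).eq_of_src _ _) ((z₃ i hi).eq_of_tgt _ _)

theorem closedUnderBinaryProducts (T : ℕ) : ObjectProperty.IsClosedUnderBinaryProducts (W H T) where
  limitsOfShape_le := by
    rintro L ⟨p⟩
    refine W.of_iso H ?_ (W.ext H (binaryProductTriangle_distinguished _ _)
      (p.prop_diag_obj (.mk .left)) (p.prop_diag_obj (.mk .right)))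
    exact IsLimit.conePointUniqueUpToIso (prodIsProd _ _)
      ((IsLimit.postcomposeHomEquiv (diagramIsoPair p.diag) _).2 p.isLimit)

section Bound

variable {Z : Scheme.{u}} (B : DCoh.D Z) (T₀ : ℕ)

/-- The functors under consideration. -/
def Adm (F : DCoh.D Z ⥤ DCoh.D X) : Prop :=
  F.Additive ∧ EnvImage.MapsShifts F ∧ EnvImage.MapsTriangles F ∧ W H T₀ (F.obj B)

/-- Objects whose images are uniformly bounded. -/
def Ctrl : ObjectProperty (DCoh.D Z) := fun L => ∃ T : ℕ, ∀ F, Adm H B T₀ F → W H T (F.obj L)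

instance : (Ctrl H B T₀).IsStableUnderRetracts :=
  ⟨fun r ⟨T, hT⟩ => ⟨T, fun F hF => W.retract H (r.map F) (hT F hF)⟩⟩

instance : (Ctrl H B T₀).IsTriangulated where
  exists_zero := ⟨_, isZero_zero _, 0, fun F hF => by
    haveI := hF.1
    exact W.zero H 0 (F.map_isZero (isZero_zero _))⟩
  isStableUnderShiftBy a := ⟨fun L ⟨T, hT⟩ => ⟨T + a.natAbs, fun F hF =>
    (hF.2.1 L a).elim fun e => W.of_iso H e.symm (W.shift H a (hT F hF))⟩⟩
  toIsTriangulatedClosed₂ := ObjectProperty.IsTriangulatedClosed₂.mk' fun T hT ⟨T₁, h₁⟩ ⟨T₃, h₃⟩ =>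
    ⟨max T₁ T₃, fun F hF => by
      obtain ⟨f, g, δ, hd⟩ := hF.2.2.1 T hT
      exact W.ext H hd (W.mono H (le_max_left _ _) (h₁ F hF)) (W.mono H (le_max_right _ _) (h₃ F hF))⟩

theorem exists_bound (L : DCoh.D Z)
    (hL : (ObjectProperty.ofObj fun _ : PUnit.{u + 1} => B).triangEnvelope L) :
    ∃ T : ℕ, ∀ F, Adm H B T₀ F → W H T (F.obj L) :=
  (ObjectProperty.triangEnvelope_le_iff (Q := Ctrl H B T₀) _).2 (fun A hA => by
    obtain ⟨_⟩ := hA
    exact ⟨T₀, fun F hF => hF.2.2.2⟩) L hL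

end Bound

theorem exists_bound_coherent (k : Type u) [Field k] [X.Over (Spec (.of k))] [IsProper (X ↘ Spec (.of k))]
    [Smooth (X ↘ Spec (.of k))]
    (hfin : ∀ K : (Perf X).FullSubcategory,
      Set.Finite {i : ℤ | ¬ IsZero (H.obj ((shiftFunctor (Perf X).FullSubcategory i).obj K))}) :
    ∃ T : ℕ, ∀ (F : X.Modules), Coh.IsCoh F → DCoh.IsPerfect (DCoh.inD X F) → W H T (DCoh.inD X F) := by
  let s := X ↘ Spec (.of k)
  haveI : CompactSpace X := (quasiCompact_iff_compactSpace s).1 inferInstance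
  haveI : IsLocallyNoetherian X := LocallyOfFiniteType.isLocallyNoetherian s
  haveI : IsNoetherian X := {}
  let p := pullback.fst s s
  let q := pullback.snd s s
  let sX := HomologicalComplex.single X.Modules (ComplexShape.up ℤ) 0
  obtain ⟨E, G, hE, hG, hdiag⟩ := DiagEnv.exists_diag k X
  haveI := DiagKernel.hasRpush q
  haveI := DiagKernel.hasRpush s
  haveI := hasLpull s
  haveI := hasLTensorCx (sX.obj G)
  obtain ⟨d, hd⟩ := S0999.result s
  -- the range of the shifts of the generator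
  have hGp : DCoh.IsPerfect (DCoh.inD X G) :=
    isPerfect_of_iso (StrongGen.inDIso G).symm (StrongGen.single_facts hG).2
  obtain ⟨T₁, hT₁⟩ : ∃ T : ℕ, W H T (DCoh.inD X G) := by
    obtain ⟨T, hT⟩ := ((hfin ⟨_, hGp⟩).image Int.natAbs).bddAbove
    refine ⟨T, hGp, fun i hi => ?_⟩
    by_contra hne
    have := hT ⟨i, hne, rfl⟩
    omega
  let T₀ := T₁ + d.toNat
  obtain ⟨T, hT⟩ := exists_bound H _ T₀ _ hdiag
  refine ⟨T, fun F hF hFp => ?_⟩
  let K' := (kRes X).obj (sX.obj F)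
  have hK'k : DCoh.IsKFlat K' := isKFlat_kRes _
  let eK : DCoh.toD X K' ≅ DCoh.inD X F := (resQIso X).app _ ≪≫ (StrongGen.inDIso F).symm
  have hK'p : DCoh.IsPerfect (DCoh.toD X K') := isPerfect_of_iso eK.symm hFp
  let C := (pullCx p).obj K'
  have hC : DCoh.IsKFlat C := isKFlat_pullback p hK'k
  haveI := hasLTensorCx C
  let Φ := DCoh.LTensorCx C ⋙ DCoh.Rpush q
  obtain ⟨eΔ⟩ := StrongGen.nonempty_diag_image k K' hK'k
  refine W.of_iso H (eΔ ≪≫ eK) (hT Φ ⟨?_, ?_, ?_, ?_⟩)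
  · haveI := StrongGen.additive_ltensor C
    haveI := StrongGen.additive_rpush q
    dsimp [Φ]; infer_instance
  · exact (StrongGen.mapsShifts_ltensor C hC).comp fun L a => nonempty_rpush_shift q L a
  · exact (StrongGen.mapsTriangles_ltensor C hC).comp fun S hS => by
      obtain ⟨c, hc⟩ := exists_rpush_triangle q S hS
      exact ⟨_, _, c, hc⟩
  -- the image of the box product
  obtain ⟨M, hMp, ⟨eM⟩, ⟨e⟩⟩ := StrongGen.nonempty_box_image k E G hE hG K' hK'k hK'p
  refine W.of_iso H e.symm ?_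
  haveI := hasLTensorCx (sX.obj E)
  obtain ⟨hEk, -⟩ := StrongGen.single_facts hE
  let eM' : M ≅ DCoh.inD X ((DCoh.tensorBi.obj F).obj E) :=
    eM.symm ≪≫ (ltensorCxIso (sX.obj E) hK'k).symm ≪≫
      (DCoh.LTensorCx (sX.obj E)).mapIso (eK ≪≫ StrongGen.inDIso F) ≪≫ StrongGen.ltcApp _ hEk (sX.obj F) ≪≫
      DerivedCategory.Q.mapIso ((singleIso DCoh.tensorBi E).app (sX.obj F) ≪≫
        (HomologicalComplex.singleMapHomologicalComplex (DCoh.tensorBi.flip.obj E) (ComplexShape.up ℤ) 0).app F) ≪≫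
      (StrongGen.inDIso _).symm
  haveI : M.IsGE 0 := DerivedCategory.TStructure.t.isGE_of_iso eM'.symm 0
  haveI : M.IsLE 0 := DerivedCategory.TStructure.t.isLE_of_iso eM'.symm 0
  obtain ⟨hMc, -⟩ := S1006.result X M hMp
  obtain ⟨hRc, hRge, -⟩ := S1001.result s M 0 0 hMc fun i =>
    ⟨QCoh.isClosed_support_of_ft (hMc i).2, inferInstance⟩
  haveI := hRge
  let F₂ := DCoh.Lpull s ⋙ DCoh.LTensorCx (sX.obj G)
  haveI := StrongGen.additive_lpull s
  haveI := StrongGen.additive_ltensor (sX.obj G)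
  haveI : F₂.Additive := by dsimp [F₂]; infer_instance
  have hS : EnvImage.MapsShifts F₂ := (StrongGen.mapsShifts_lpull s).comp
    (StrongGen.mapsShifts_ltensor _ (StrongGen.single_facts hG).1)
  haveI : HasFiniteProducts (DCoh.D (CurveDual15.pt k)) := hasFiniteProducts_of_has_binary_and_terminal
  haveI := closedUnderBinaryProducts H T₀
  let R : ObjectProperty (DCoh.D (CurveDual15.pt k)) := fun L => W H T₀ (F₂.obj L)
  haveI : R.IsStableUnderRetracts := ⟨fun r hY => W.retract H (r.map F₂) hY⟩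
  haveI : R.IsClosedUnderBinaryProducts := ⟨by
    rintro L ⟨pr⟩
    exact ObjectProperty.prop_of_isLimit (W H T₀) (isLimitOfPreserves F₂ pr.isLimit) fun j => pr.prop_diag_obj j⟩
  refine PointSplit.mem_of_finset' k (R := R)
    ⟨0, W.zero H T₀ (F₂.map_isZero (isZero_zero _))⟩
    (Finset.Icc 0 (d.toNat : ℤ)) (fun j hj => ?_) ((DCoh.Rpush s).obj M)
    (fun j => PointSplit.fd_of_isCoh k (hRc j)) fun j hj => ?_
  · rw [Finset.mem_Icc] at hj
    exact W.of_iso H (hS _ (-j)).some.symm (W.mono H (by omega)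
      (W.shift H (-j) (W.of_iso H (StrongGen.nonempty_pull_unit k G hG).some.symm hT₁)))
  · rcases (show j < 0 ∨ d ≤ j by simp at hj; omega) with h | h
    · exact ((DCoh.Rpush s).obj M).isZero_of_isGE 0 j h
    · exact hd M (PerfD40.isQCohD_of_isPerfect hMp) inferInstance j h

end Groth.Agent.DEqLib.Sib.HomBounded
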