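import Groth.Agent.DEqLib.Sib.CohAmp
import Groth.Agent.DEqLib.Sib.LinTensor
import Groth.Agent.KFlatLib.Scheme.BidualPerfect
import Groth.Agent.QCoh.SpecFT

/-! Finiteness of the pushforward to a point from finiteness of morphisms out of perfect objects. -/

universe u

open CategoryTheory CategoryTheory.Limits CategoryTheory.Pretriangulated AlgebraicGeometry

set_option backward.isDefEq.respectTransparency false
set_option backward.isDefEq.respectTransparency.types false
set_option linter.style.haveILetI false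
set_option linter.unusedSectionVars false

attribute [local instance] HasDerivedCategory.standard

noncomputable section

namespace Groth.Agent.DEqLib.Sib.HomTest

open Groth.Agent Groth.Agent.KFlatLib Groth.Agent.CurveDual15

variable (k : Type u) [Field k]

/-- A module on the point whose sections are finitely generated is coherent. -/
theorem isCoh_of_gens (V : (pt k).Modules) (n : ℕ) (h : Fin n → (OPt k ⟶ V))
    (hh : ∀ x : OPt k ⟶ V, ∃ c : Fin n → (OPt k ⟶ OPt k), x = ∑ j, c j ≫ h j) : Coh.IsCoh V := by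
  let T := tilde.functor (CommRingCat.of k)
  let V' := T.objPreimage V
  let e : T.obj V' ≅ V := T.objObjPreimageIso V
  let t := tildeK k
  let u : Fin n → (ModuleCat.of k k ⟶ V') := fun j => T.preimage (t.hom ≫ h j ≫ e.inv)
  have hspan : (⊤ : Submodule k V') ≤ Submodule.span k (Set.range fun j => (u j).hom (1 : k)) := by
    intro w _
    let w' : ModuleCat.of k k ⟶ V' := ModuleCat.ofHom (LinearMap.toSpanSingleton k V' w)
    obtain ⟨c, hc⟩ := hh (t.inv ≫ T.map w' ≫ e.hom)
    let d : Fin n → (ModuleCat.of k k ⟶ ModuleCat.of k k) := fun j => T.preimage (t.hom ≫ c j ≫ t.inv)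
    have hw : w' = ∑ j, d j ≫ u j := T.map_injective (by
      have h2 := congrArg (fun x => t.hom ≫ x ≫ e.inv) hc
      simp only [Category.assoc, Iso.hom_inv_id_assoc, Iso.hom_inv_id, Category.comp_id] at h2
      rw [h2, Functor.map_sum, Preadditive.sum_comp, Preadditive.comp_sum]
      refine Finset.sum_congr rfl fun j _ => ?_
      rw [Functor.map_comp, Functor.map_preimage, Functor.map_preimage]
      simp only [Category.assoc, Iso.inv_hom_id_assoc])
    have : w = w'.hom (1 : k) := (LinearMap.toSpanSingleton_apply_one k V' w).symm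
    rw [this, hw, ModuleCat.hom_sum, LinearMap.sum_apply]
    refine Submodule.sum_mem _ fun j _ => ?_
    show (u j).hom ((d j).hom (1 : k)) ∈ _
    rw [show ((d j).hom (1 : k) : k) = ((d j).hom (1 : k) : k) • (1 : k) from (mul_one _).symm, map_smul]
    exact Submodule.smul_mem _ _ (Submodule.subset_span ⟨j, rfl⟩)
  haveI : Module.Finite k V' := ⟨⟨(Set.finite_range fun j => (u j).hom (1 : k)).toFinset, by
    rw [Set.Finite.coe_toFinset]; exact top_le_iff.1 hspan⟩⟩
  refine KFlatLib.isCoh_of_iso e ⟨inferInstanceAs (Coh.IsQCoh (tilde V')), ?_⟩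
  exact (QCoh.isFT_tilde_iff (R := CommRingCat.of k) V').2 ‹_›

variable {X : Scheme.{u}} [X.Over (Spec (.of k))] [DCoh.HasRpush (X ↘ Spec (.of k))]

/-- Coherence of `H^i (Rs_* M)`. -/
theorem isCoh_hd_rpush (M : DCoh.D X) (i : ℤ) (hfin : Module.Finite k (OX X ⟶ M⟦i⟧)) :
    Coh.IsCoh (DCoh.HD ((DCoh.Rpush (X ↘ Spec (.of k))).obj M) i) := by
  let s := X ↘ Spec (.of k)
  let G := (DCoh.Rpush s).obj (M⟦i⟧)
  obtain ⟨Φ, -, hΦ⟩ := exists_homEquiv k (X := X)
  obtain ⟨S, hS⟩ := hfin.fg_top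
  let g : Fin S.card → (OPt k ⟶ (DerivedCategory.homologyFunctor (pt k).Modules 0).obj G) := fun j =>
    fromP (OPt k) G (Φ _ (S.equivFin.symm j).1)
  obtain ⟨e⟩ := nonempty_rpush_shift s M i
  refine KFlatLib.isCoh_of_iso ((DerivedCategory.homologyFunctor (pt k).Modules 0).mapIso e ≪≫
      ((DerivedCategory.homologyFunctor (pt k).Modules 0).shiftIso i 0 i (add_zero i)).app _)
    (isCoh_of_gens k _ _ g fun x => ?_)
  obtain ⟨φ, rfl⟩ := (bijective_fromP (OPt k) G).2 x
  obtain ⟨ξ, rfl⟩ := (Φ (M⟦i⟧)).surjective φ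
  have hξ : ξ ∈ Submodule.span k (S : Set (OX X ⟶ M⟦i⟧)) := by rw [hS]; trivial
  obtain ⟨a, ha⟩ := Submodule.mem_span_finset'.1 hξ
  refine ⟨fun j => scalarHom k (a (S.equivFin.symm j)), ?_⟩
  have key : ∀ (r : k) (η : OX X ⟶ M⟦i⟧),
      fromP (OPt k) G (Φ _ (r • η)) = scalarHom k r ≫ fromP (OPt k) G (Φ _ η) := fun r η => by
    rw [← sc_comp k (X := X) r η, hΦ]
    exact fromP_precomp _ _
  let F : (OX X ⟶ M⟦i⟧) →+ (OPt k ⟶ (DerivedCategory.homologyFunctor (pt k).Modules 0).obj G) :=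
    AddMonoidHom.mk' (fun η => fromP (OPt k) G (Φ _ η)) fun η η' => by simp [fromP]
  show F ξ = _
  rw [← ha, map_sum]
  refine (Fintype.sum_equiv S.equivFin _ _ fun x => ?_)
  show fromP (OPt k) G (Φ _ (a x • x.1)) = _
  simp only [g, Equiv.symm_apply_apply]
  exact key (a x) x.1

/-- Vanishing of `H^i (Rs_* M)`. -/
theorem isZero_hd_rpush (M : DCoh.D X) (i : ℤ) (hz : ∀ ξ : OX X ⟶ M⟦i⟧, ξ = 0) :
    IsZero (DCoh.HD ((DCoh.Rpush (X ↘ Spec (.of k))).obj M) i) := by
  let s := X ↘ Spec (.of k)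
  let G := (DCoh.Rpush s).obj (M⟦i⟧)
  obtain ⟨Φ, -, -⟩ := exists_homEquiv k (X := X)
  obtain ⟨e⟩ := nonempty_rpush_shift s M i
  let V := (DerivedCategory.homologyFunctor (pt k).Modules 0).obj G
  have hV : ∀ x : OPt k ⟶ V, x = 0 := fun x => by
    obtain ⟨φ, rfl⟩ := (bijective_fromP (OPt k) G).2 x
    obtain ⟨ξ, rfl⟩ := (Φ (M⟦i⟧)).surjective φ
    rw [hz ξ, map_zero]
    simp [fromP]
  refine IsZero.of_iso ?_ (((DerivedCategory.homologyFunctor (pt k).Modules 0).mapIso e ≪≫
      ((DerivedCategory.homologyFunctor (pt k).Modules 0).shiftIso i 0 i (add_zero i)).app _).symm)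
  let T := tilde.functor (CommRingCat.of k)
  let e' : T.obj (T.objPreimage V) ≅ V := T.objObjPreimageIso V
  haveI : Subsingleton (T.objPreimage V) := ⟨fun v w => by
    have : ∀ v : T.objPreimage V, v = 0 := fun v => by
      have h0 := hV ((tildeK k).inv ≫ T.map (ModuleCat.ofHom (LinearMap.toSpanSingleton k _ v)) ≫ e'.hom)
      rw [Preadditive.IsIso.comp_left_eq_zero, Preadditive.IsIso.comp_right_eq_zero] at h0
      have h1 := T.map_injective (h0.trans (T.map_zero _ _).symm)
      have := congrArg (fun f => f.hom (1 : k)) h1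
      simpa using this
    rw [this v, this w]⟩
  exact (T.map_isZero (ModuleCat.isZero_of_subsingleton _)).of_iso e'.symm

/-- Tensoring with a locally free module is `RHom` out of its dual. -/
theorem exists_dual {E : X.Modules} (hE : FlatMod.IsFinLocFree E)
    [DCoh.HasLTensorCx ((HomologicalComplex.single X.Modules (ComplexShape.up ℤ) 0).obj E)] :
    ∃ P : DCoh.D X, DCoh.IsPerfect P ∧ ∀ G : DCoh.D X, Nonempty ((P ⟶ G) ≃ₗ[k]
      (OX X ⟶ (DCoh.LTensorCx ((HomologicalComplex.single X.Modules (ComplexShape.up ℤ) 0).obj E)).obj G)) := by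
  let sX := HomologicalComplex.single X.Modules (ComplexShape.up ℤ) 0
  let Ê := sX.obj E
  let L := sX.obj (Coh.structureModule X)
  obtain ⟨hEk, hEp⟩ := StrongGen.single_facts hE
  haveI := hasLTensorCx L
  haveI := RHomExists.hasRSheafHom L
  haveI := RHomExists.hasRSheafHom Ê
  let D := (kRes X).obj (DerivedCategory.Q.objPreimage ((DCoh.RSheafHom Ê).obj (DerivedCategory.Q.obj L)))
  let eD : DerivedCategory.Q.obj D ≅ (DCoh.RSheafHom Ê).obj (DerivedCategory.Q.obj L) :=
    (resQIso X).app _ ≪≫ DerivedCategory.Q.objObjPreimageIso _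
  have hD : DCoh.IsKFlat D := isKFlat_kRes _
  haveI := hasLTensorCx D
  haveI := RHomExists.hasRSheafHom D
  obtain ⟨eL⟩ := DiagKernel.nonempty_iso_of_res (F := DCoh.LTensorCx L) (G := 𝟭 (DCoh.D X))
    (DiagKernel.ltcResIso L ≪≫ Functor.isoWhiskerLeft (kRes X)
      (Functor.isoWhiskerRight (singleIso DCoh.tensorBi (Coh.structureModule X) ≪≫
        NatIso.mapHomologicalComplex (tensorStructureIso X) (ComplexShape.up ℤ) ≪≫
        Functor.mapHomologicalComplexIdIso _ _) DerivedCategory.Q ≪≫ Functor.leftUnitor _) ≪≫ resQIso X)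
    (Functor.rightUnitor _)
  let eR : DCoh.RSheafHom L ≅ 𝟭 (DCoh.D X) :=
    ((DCoh.RSheafHomAdj L).ofNatIsoLeft eL).rightAdjointUniq Adjunction.id
  refine ⟨DerivedCategory.Q.obj D, fun x => ?_, fun G => ?_⟩
  · obtain ⟨V, hx, h⟩ := isPerfect_RSheafHom_structure Ê hEp x
    exact ⟨V, hx, fun F hF => h F (hF.map (· ≪≫ eD ≪≫ (DCoh.RSheafHom Ê).mapIso (StrongGen.inDIso _).symm))⟩
  obtain ⟨e⟩ := nonempty_ltensor_RSheafHom_iso Ê L hEk hEp D ⟨eD⟩ G
  let eG : (DCoh.RSheafHom D).obj G ≅ (DCoh.LTensorCx Ê).obj G :=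
    e.symm ≪≫ (DCoh.LTensorCx Ê).mapIso (eR.app G)
  obtain ⟨er⟩ := nonempty_tensorUnitIso D
  let eO : (DCoh.LTensorCx D).obj (OX X) ≅ DerivedCategory.Q.obj D :=
    (DCoh.LTensorCx D).mapIso (StrongGen.inDIso _) ≪≫ StrongGen.ltcApp D hD L ≪≫
      DerivedCategory.Q.mapIso ((symmIso (tensorBiFlipIso X) D).app _ ≪≫ er)
  haveI : (DCoh.LTensorCx D).Additive := StrongGen.additive_ltensor D
  haveI := LinTensor.linear_ltc k D
  let adj := DCoh.RSheafHomAdj D
  haveI : (DCoh.RSheafHom D).Additive := adj.right_adjoint_additive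
  exact ⟨((Linear.homCongr k eO (Iso.refl G)).symm.trans
      { adj.homAddEquiv (OX X) G with
        map_smul' := fun r φ => by
          show adj.homEquiv _ _ (r • φ) = r • adj.homEquiv _ _ φ
          have h1 : r • φ = (DCoh.LTensorCx D).map (r • 𝟙 (OX X)) ≫ φ := by
            rw [Functor.map_smul, CategoryTheory.Functor.map_id, Linear.smul_comp, Category.id_comp]
          rw [h1, adj.homEquiv_naturality_left, Linear.smul_comp, Category.id_comp] }).trans
    (Linear.homCongr k (Iso.refl _) eG)⟩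

/-- The pushforward to the point of `K ⊗ E` is bounded coherent. -/
theorem rpush_tensor_cohb (K : DCoh.D X)
    (hfin : ∀ E : DCoh.D X, DCoh.IsPerfect E →
      (∀ i : ℤ, Module.Finite k (E ⟶ (shiftFunctor (DCoh.D X) i).obj K)) ∧
      Set.Finite {i : ℤ | Nontrivial (E ⟶ (shiftFunctor (DCoh.D X) i).obj K)})
    {E : X.Modules} (hE : FlatMod.IsFinLocFree E)
    [DCoh.HasLTensorCx ((HomologicalComplex.single X.Modules (ComplexShape.up ℤ) 0).obj E)] :
    let R := (DCoh.Rpush (X ↘ Spec (.of k))).obj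
      ((DCoh.LTensorCx ((HomologicalComplex.single X.Modules (ComplexShape.up ℤ) 0).obj E)).obj K)
    DCoh.IsCohD R ∧ ∃ T : ℕ, ∀ i : ℤ, (T : ℤ) < i.natAbs → IsZero (DCoh.HD R i) := by
  intro R
  obtain ⟨P, hP, hiso⟩ := exists_dual k hE
  obtain ⟨hf, hs⟩ := hfin P hP
  obtain ⟨T, hT⟩ := (hs.image Int.natAbs).bddAbove
  have hsh := StrongGen.mapsShifts_ltensor _ (StrongGen.single_facts hE).1
  refine ⟨fun i => isCoh_hd_rpush k _ i ?_, T, fun i hi => isZero_hd_rpush k _ i fun ξ => ?_⟩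
  · haveI := hf i
    exact Module.Finite.equiv ((hiso (K⟦i⟧)).some.trans (Linear.homCongr k (Iso.refl _) (hsh K i).some))
  · let Ψ := (hiso (K⟦i⟧)).some.trans (Linear.homCongr k (Iso.refl _) (hsh K i).some)
    have : ¬ Nontrivial (P ⟶ (shiftFunctor (DCoh.D X) i).obj K) := fun hn => by
      have := hT ⟨i, hn, rfl⟩
      omega
    haveI := not_nontrivial_iff_subsingleton.1 this
    haveI : Subsingleton (OX X ⟶ _) := Ψ.symm.toEquiv.subsingleton
    exact Subsingleton.elim _ _

end Groth.Agent.DEqLib.Sib.HomTest
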