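import Mathlib.LinearAlgebra.Dual.Defs
import Mathlib.LinearAlgebra.Dual.Lemmas
import Mathlib.LinearAlgebra.DFinsupp
import Mathlib.LinearAlgebra.Basis.VectorSpace

/-! Linear compactness of products of finite-dimensional vector spaces. -/

universe w v u u'

namespace Groth.Agent.DEqLib.Sib

variable {k : Type w} [Field k]
theorem extend_functional {W : Type u} [AddCommGroup W] [Module k W] {A : Type u'} (w : A → W)
    (t : A → k) (h : ∀ c : A →₀ k, Finsupp.linearCombination k w c = 0 →
      Finsupp.linearCombination k t c = 0) : ∃ L : W →ₗ[k] k, ∀ a, L (w a) = t a := by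
  let Φ : (A →₀ k) →ₗ[k] W := Finsupp.linearCombination k w
  let T : (A →₀ k) →ₗ[k] k := Finsupp.linearCombination k t
  have hker : LinearMap.ker Φ ≤ LinearMap.ker T := fun c hc => h c hc
  obtain ⟨L, hL⟩ := LinearMap.exists_extend
    ((Submodule.liftQ _ T hker).comp Φ.quotKerEquivRange.symm.toLinearMap)
  refine ⟨L, fun a => ?_⟩
  have hW : Φ (Finsupp.single a 1) = w a := by simp [Φ]
  rw [← hW]
  have := LinearMap.congr_fun hL ⟨Φ (Finsupp.single a 1), LinearMap.mem_range_self _ _⟩
  refine this.trans ?_
  simp only [LinearMap.comp_apply, LinearEquiv.coe_coe]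
  rw [LinearMap.quotKerEquivRange_symm_apply_image]
  simp [T]

theorem linear_compactness {I : Type u} [DecidableEq I] {E : I → Type v}
    [∀ i, AddCommGroup (E i)] [∀ i, Module k (E i)] [∀ i, Module.Finite k (E i)]
    {A : Type u'} (W : A → Π₀ i, Module.Dual k (E i)) (t : A → k)
    (h : ∀ s : Finset A, ∃ x : ∀ i, E i,
      ∀ a ∈ s, DFinsupp.lsum k (fun i => Module.Dual.eval k (E i) (x i)) (W a) = t a) :
    ∃ x : ∀ i, E i, ∀ a, DFinsupp.lsum k (fun i => Module.Dual.eval k (E i) (x i)) (W a) = t a := by
  obtain ⟨L, hL⟩ := extend_functional W t (fun c hc => by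
    obtain ⟨x, hx⟩ := h c.support
    have := congrArg (DFinsupp.lsum k (fun i => Module.Dual.eval k (E i) (x i))) hc
    rw [map_zero, Finsupp.apply_linearCombination] at this
    rw [← this, Finsupp.linearCombination_apply, Finsupp.linearCombination_apply]
    exact Finset.sum_congr rfl fun a ha => by simp [hx a ha])
  have hsurj : ∀ i, ∃ x : E i, Module.Dual.eval k (E i) x = L.comp (DFinsupp.lsingle i) :=
    fun i => (Module.evalEquiv k (E i)).surjective _
  choose x hx using hsurj
  refine ⟨x, fun a => ?_⟩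
  rw [← hL a]
  congr 1
  exact DFinsupp.lhom_ext' fun i => LinearMap.ext fun φ => by simpa using LinearMap.congr_fun (hx i) φ

end Groth.Agent.DEqLib.Sib
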