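import Groth.Agent.DEqLib.Sib.Siblings

/-!
# Extending a natural comparison by one step of amplitude

Suppose `F` is fully faithful, `F'` agrees with `F` on the heart through `η`, and `θ` is a natural
comparison on objects of amplitude `ℓ`.  For an object of amplitude `ℓ + 1` a cover `g : S N ⟶ K`
with cocone `L` determines a comparison at `K` (`Datum`); it is independent of the cover as soon as
there are no morphisms `H⁰ K ⟶ N`, and it is natural.
-/

set_option linter.style.haveILetI false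
set_option linter.unusedSectionVars false
set_option backward.isDefEq.respectTransparency false

universe w v v' u u'

open CategoryTheory Category Limits Pretriangulated

namespace Groth.Agent.DEqLib.Sib

variable {A : Type u} [Category.{v} A] [Abelian A] [HasDerivedCategory.{w} A]
  {D : Type u'} [Category.{v'} D] [Preadditive D] [HasZeroObject D] [HasShift D ℤ]
  [∀ n : ℤ, (shiftFunctor D n).Additive] [Pretriangulated D]

/-- A natural comparison on objects of amplitude `ℓ`, extending `η` and compatible with `⟦1⟧`. -/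
structure Good (F F' : DerivedCategory.Bounded A ⥤ D) [F.CommShift ℤ] [F'.CommShift ℤ]
    (η : ∀ X : A, F.obj ((DEquiv.singleB A).obj X) ≅ F'.obj ((DEquiv.singleB A).obj X)) (ℓ : ℕ)
    (θ : ∀ K : DerivedCategory.Bounded A, Amp ℓ K → (F.obj K ≅ F'.obj K)) : Prop where
  nat : ∀ {K M : DerivedCategory.Bounded A} (hK : Amp ℓ K) (hM : Amp ℓ M) (h : K ⟶ M),
    Agr (θ K hK) (θ M hM) h
  heart : ∀ (X : A) (h : Amp ℓ ((DEquiv.singleB A).obj X)), θ _ h = η X
  shift : ∀ (L : DerivedCategory.Bounded A) (hL : Amp ℓ L) (hL' : Amp ℓ (L⟦(1 : ℤ)⟧)),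
    θ _ hL' = sh 1 (θ L hL)

/-- There are no morphisms from `H⁰ K` to `N`. -/
def NegTo (K : DerivedCategory.Bounded A) (N : A) : Prop :=
  ∀ φ : (DerivedCategory.homologyFunctor A 0).obj K.obj ⟶ N, φ = 0

/-- The cocone of a morphism from degrees `≤ 0` to degrees `≤ -1`. -/
lemma exists_cover_comp_eq_zero {K R : DerivedCategory.Bounded A} (hK : K.obj.IsLE 0)
    (hR : R.obj.IsLE (-1)) (f : K ⟶ R) :
    ∃ (N : A) (g : (DEquiv.singleB A).obj N ⟶ K), IsCover g ∧ g ≫ f = 0 := by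
  obtain ⟨W, w, δ, hW⟩ := distinguished_cocone_triangle₁ f
  let T := (ObjectProperty.ι _).mapTriangle.obj (Triangle.mk w f δ)
  have hT : T ∈ distTriang (DerivedCategory A) := (ObjectProperty.ι _).map_distinguished _ hW
  have hR0 : ∀ i : ℤ, -1 < i → IsZero ((DerivedCategory.homologyFunctor A i).obj T.obj₃) :=
    fun i hi => DerivedCategory.isZero_of_isLE R.obj (-1) i hi
  have hWle : W.obj.IsLE 0 := (DerivedCategory.isLE_iff _ _).2 fun i hi =>
    (DerivedCategory.HomologySequence.exact₁ T hT (i - 1) i (by omega)).isZero_of_both_zeros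
      ((hR0 (i - 1) (by omega)).eq_of_src _ _)
      ((DerivedCategory.isZero_of_isLE K.obj 0 i hi :
        IsZero ((DerivedCategory.homologyFunctor A i).obj T.obj₂)).eq_of_tgt _ _)
  obtain ⟨N, c, hc⟩ := exists_cover W hWle
  refine ⟨N, c ≫ w, ?_, by rw [assoc, show w ≫ f = 0 from comp_distTriang_mor_zero₁₂ _ hW, comp_zero]⟩
  haveI : Epi ((DerivedCategory.homologyFunctor A 0).map w.hom) :=
    (DerivedCategory.HomologySequence.exact₂ T hT 0).epi_f ((hR0 0 (by omega)).eq_of_tgt _ _)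
  haveI : Epi ((DerivedCategory.homologyFunctor A 0).map c.hom) := hc
  change Epi ((DerivedCategory.homologyFunctor A 0).map (c.hom ≫ w.hom))
  rw [Functor.map_comp]
  infer_instance

variable (hneg : ∀ X : A, ∃ (N : A) (p : N ⟶ X), Epi p ∧ ∀ f : X ⟶ N, f = 0)

include hneg in
/-- A negative cover of `K` killing two morphisms to degrees `≤ -1`. -/
lemma exists_negCover {K R R' : DerivedCategory.Bounded A} (hK : K.obj.IsLE 0)
    (hR : R.obj.IsLE (-1)) (hR' : R'.obj.IsLE (-1)) (f : K ⟶ R) (f' : K ⟶ R')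
    (M : DerivedCategory.Bounded A) :
    ∃ (N : A) (g : (DEquiv.singleB A).obj N ⟶ K), IsCover g ∧ g ≫ f = 0 ∧ g ≫ f' = 0 ∧
      NegTo K N ∧ NegTo M N := by
  obtain ⟨N₁, g₁, hg₁, h₁⟩ := exists_cover_comp_eq_zero hK hR f
  obtain ⟨N₂, g₂, hg₂, h₂⟩ := exists_cover_comp_eq_zero (amp_single N₁ 0).2 hR' (g₁ ≫ f')
  obtain ⟨q, hq⟩ := (DEquiv.singleB A).map_surjective g₂
  haveI := epi_of_isCover hg₂ hq
  obtain ⟨N, p, hp, hp'⟩ := hneg (N₂ ⊞
    ((DerivedCategory.homologyFunctor A 0).obj K.obj ⊞ (DerivedCategory.homologyFunctor A 0).obj M.obj))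
  let r : N ⟶ N₁ := p ≫ biprod.fst ≫ q
  haveI : Epi r := inferInstanceAs (Epi (p ≫ biprod.fst ≫ q))
  refine ⟨N, (DEquiv.singleB A).map r ≫ g₁, hg₁.precomp r, by rw [assoc, h₁, comp_zero], ?_, ?_, ?_⟩
  · simp only [r, Functor.map_comp, assoc, hq, h₂, comp_zero]
  · intro φ
    have := hp' (biprod.snd ≫ biprod.fst ≫ φ)
    rwa [← cancel_epi (biprod.fst : (DerivedCategory.homologyFunctor A 0).obj K.obj ⊞
      (DerivedCategory.homologyFunctor A 0).obj M.obj ⟶ _), comp_zero,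
      ← cancel_epi (biprod.snd : N₂ ⊞ _ ⟶ _), comp_zero]
  · intro φ
    have := hp' (biprod.snd ≫ biprod.snd ≫ φ)
    rwa [← cancel_epi (biprod.snd : (DerivedCategory.homologyFunctor A 0).obj K.obj ⊞
      (DerivedCategory.homologyFunctor A 0).obj M.obj ⟶ _), comp_zero,
      ← cancel_epi (biprod.snd : N₂ ⊞ _ ⟶ _), comp_zero]

variable {F F' : DerivedCategory.Bounded A ⥤ D} [F.CommShift ℤ] [F'.CommShift ℤ]
  {η : ∀ X : A, F.obj ((DEquiv.singleB A).obj X) ≅ F'.obj ((DEquiv.singleB A).obj X)} {ℓ : ℕ}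
  {θ : ∀ K : DerivedCategory.Bounded A, Amp ℓ K → (F.obj K ≅ F'.obj K)}

variable (F F' η θ) in
/-- A comparison at `K` attached to a cover. -/
structure Datum (K : DerivedCategory.Bounded A) where
  /-- the covering object of the heart -/
  N : A
  /-- the cover -/
  g : (DEquiv.singleB A).obj N ⟶ K
  hg : IsCover g
  /-- the cocone -/
  L : DerivedCategory.Bounded A
  hL : Amp ℓ L
  /-- the first morphism of the triangle -/
  α : L ⟶ (DEquiv.singleB A).obj N
  /-- the connecting morphism -/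
  β : K ⟶ L⟦(1 : ℤ)⟧
  hT : Triangle.mk α g β ∈ distTriang (DerivedCategory.Bounded A)
  /-- the comparison -/
  e : F.obj K ≅ F'.obj K
  he₁ : Agr (η N) e g
  he₂ : Agr e (sh 1 (θ L hL)) β

lemma Datum.isLE_target {K : DerivedCategory.Bounded A} (d : Datum F F' η θ K) :
    (d.L⟦(1 : ℤ)⟧).obj.IsLE (-1) :=
  isLE_shift 0 1 (-1) (by omega) d.hL.2

variable [F.IsTriangulated] [F'.IsTriangulated]

lemma exists_datum (hθ : Good F F' η ℓ θ) {K : DerivedCategory.Bounded A} (hK : Amp (ℓ + 1) K)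
    {N : A} (g : (DEquiv.singleB A).obj N ⟶ K) (hg : IsCover g) :
    ∃ d : Datum F F' η θ K, ∃ h : d.N = N,
      eqToHom (congrArg (DEquiv.singleB A).obj h.symm) ≫ d.g = g := by
  obtain ⟨L, α, β, hT, hL⟩ := exists_step hK g hg
  have hα : Agr (θ L hL) (η N) α := hθ.heart N (amp_single N ℓ) ▸ hθ.nat hL (amp_single N ℓ) α
  obtain ⟨e, h₁, h₂⟩ := exists_agr₃ hT (θ L hL) (η N) hα
  exact ⟨⟨N, g, hg, L, hL, α, β, hT, e, h₁, h₂⟩, rfl, by simp⟩

variable [F.Full]

/-- The key naturality property of the comparisons attached to covers. -/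
lemma Datum.agr (hθ : Good F F' η ℓ θ) {K M : DerivedCategory.Bounded A} (hK : K.obj.IsLE 0)
    (dK : Datum F F' η θ K) (dM : Datum F F' η θ M) (h : K ⟶ M) (hN : NegTo K dM.N)
    (hkill : dK.g ≫ h ≫ dM.β = 0) : Agr dK.e dM.e h := by
  obtain ⟨h', hh'⟩ := Triangle.yoneda_exact₃ _ dK.hT (h ≫ dM.β) hkill
  obtain ⟨h'', rfl⟩ := (shiftFunctor (DerivedCategory.Bounded A) (1 : ℤ)).map_surjective h'
  have hβ : Agr dK.e (sh 1 (θ dM.L dM.hL)) (h ≫ dM.β) := by
    rw [hh']
    exact dK.he₂.comp ((hθ.nat dK.hL dM.hL h'').shift 1)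
  unfold Agr at hβ ⊢
  rw [← sub_eq_zero]
  obtain ⟨v, hv⟩ := Triangle.coyoneda_exact₃ _ (F'.map_distinguished _ dM.hT)
    (F.map h ≫ dM.e.hom - dK.e.hom ≫ F'.map h) (by
      change _ ≫ F'.map dM.β ≫ (F'.commShiftIso (1 : ℤ)).hom.app _ = 0
      rw [← assoc, Preadditive.sub_comp]
      have := dM.he₂
      unfold Agr at this
      rw [assoc, ← this, ← assoc, ← F.map_comp, hβ, assoc, ← F'.map_comp, sub_self, zero_comp])
  obtain ⟨v₀, hv₀⟩ := F.map_surjective (v ≫ (η dM.N).inv)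
  have h0 : v = 0 := by
    rw [← cancel_mono (η dM.N).inv, ← hv₀, eq_zero_of_hom_H0 hK hN v₀, zero_comp]
    change F.map 0 = 0
    exact F.map_zero _ _
  rw [hv, h0]
  exact zero_comp

include hneg in
lemma exists_negDatum (hθ : Good F F' η ℓ θ) {K : DerivedCategory.Bounded A} (hK : Amp (ℓ + 1) K)
    (M : DerivedCategory.Bounded A) {R R' : DerivedCategory.Bounded A}
    (hR : R.obj.IsLE (-1)) (hR' : R'.obj.IsLE (-1)) (f : K ⟶ R) (f' : K ⟶ R') :
    ∃ d : Datum F F' η θ K, d.g ≫ f = 0 ∧ d.g ≫ f' = 0 ∧ NegTo K d.N ∧ NegTo M d.N := by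
  obtain ⟨N, g, hg, h₁, h₂, h₃, h₄⟩ := exists_negCover hneg hK.2 hR hR' f f' M
  obtain ⟨d, rfl, hd⟩ := exists_datum hθ hK g hg
  rw [eqToHom_refl, id_comp] at hd
  subst hd
  exact ⟨d, h₁, h₂, h₃, h₄⟩

include hneg in
/-- All negative covers give the same comparison. -/
lemma Datum.e_eq (hθ : Good F F' η ℓ θ) {K : DerivedCategory.Bounded A} (hK : Amp (ℓ + 1) K)
    (d d' : Datum F F' η θ K) (hd : NegTo K d.N) (hd' : NegTo K d'.N) : d.e = d'.e := by
  obtain ⟨d₃, h₁, h₂, -, -⟩ := exists_negDatum hneg hθ hK K d.isLE_target d'.isLE_target d.β d'.β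
  have a₁ := (Datum.agr hθ hK.2 d₃ d (𝟙 K) hd (by rwa [id_comp])).iso_unique (φ := Iso.refl K)
  have a₂ := (Datum.agr hθ hK.2 d₃ d' (𝟙 K) hd' (by rwa [id_comp])).iso_unique (φ := Iso.refl K)
  rw [a₁, a₂]

include hneg in
/-- Naturality of the comparisons attached to negative covers. -/
lemma Datum.agr_of_neg (hθ : Good F F' η ℓ θ) {K M : DerivedCategory.Bounded A}
    (hK : Amp (ℓ + 1) K) (hM : Amp (ℓ + 1) M) (d : Datum F F' η θ K) (d' : Datum F F' η θ M)
    (hd : NegTo K d.N) (hd' : NegTo M d'.N) (h : K ⟶ M) : Agr d.e d'.e h := by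
  obtain ⟨dM, -, -, hMM, hKM⟩ := exists_negDatum hneg hθ hM K d'.isLE_target d'.isLE_target d'.β d'.β
  obtain ⟨dK, hk, -, hKK, -⟩ := exists_negDatum hneg hθ hK K dM.isLE_target dM.isLE_target
    (h ≫ dM.β) (h ≫ dM.β)
  rw [Datum.e_eq hneg hθ hK d dK hd hKK, Datum.e_eq hneg hθ hM d' dM hd' hMM]
  exact Datum.agr hθ hK.2 dK dM h hKM hk

end Groth.Agent.DEqLib.Sib
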