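import Groth.Agent.DEqLib.Sib.NegData

/-!
# A sibling of a fully faithful functor is isomorphic to it when there are enough negative objects
-/

set_option linter.style.haveILetI false
set_option linter.unusedSectionVars false
set_option backward.isDefEq.respectTransparency false

universe w v v' u u'

open CategoryTheory Category Limits Pretriangulated ZeroObject

namespace Groth.Agent.DEqLib.Sib

variable {A : Type u} [Category.{v} A] [Abelian A] [HasDerivedCategory.{w} A]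
  {D : Type u'} [Category.{v'} D] [Preadditive D] [HasZeroObject D] [HasShift D ℤ]
  [∀ n : ℤ, (shiftFunctor D n).Additive] [Pretriangulated D]
  {F F' : DerivedCategory.Bounded A ⥤ D} [F.CommShift ℤ] [F'.CommShift ℤ]
  {η : ∀ X : A, F.obj ((DEquiv.singleB A).obj X) ≅ F'.obj ((DEquiv.singleB A).obj X)}

lemma Amp.shift_up {ℓ : ℕ} {K : DerivedCategory.Bounded A} (h : Amp ℓ K) :
    Amp (ℓ + 1) (K⟦(1 : ℤ)⟧) := by
  obtain ⟨h₁, h₂⟩ := h
  refine ⟨isGE_shift (-(ℓ : ℤ)) 1 _ (by omega) h₁, ?_⟩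
  haveI := isLE_shift 0 1 (-1) (by omega) h₂
  exact DerivedCategory.TStructure.t.isLE_of_le (K⟦(1 : ℤ)⟧).obj (-1) 0 (by omega)

lemma Amp.of_shift_up {ℓ : ℕ} {L : DerivedCategory.Bounded A} (hL : Amp (ℓ + 1) L)
    (hL' : Amp (ℓ + 1) (L⟦(1 : ℤ)⟧)) : Amp ℓ L := by
  refine ⟨?_, hL.2⟩
  have h := isGE_shift (-((ℓ + 1 : ℕ) : ℤ)) (-1) (-(ℓ : ℤ)) (by omega) hL'.1
  let e : ((L⟦(1 : ℤ)⟧)⟦(-1 : ℤ)⟧).obj ≅ L.obj := (ObjectProperty.ι _).mapIso
    ((shiftFunctorCompIsoId _ (1 : ℤ) (-1) (by omega)).app L)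
  exact DerivedCategory.TStructure.t.isGE_of_iso e _

lemma Good.restrict {ℓ ℓ' : ℕ} (h : ℓ ≤ ℓ')
    {θ : ∀ K : DerivedCategory.Bounded A, Amp ℓ' K → (F.obj K ≅ F'.obj K)}
    (hθ : Good F F' η ℓ' θ) : Good F F' η ℓ (fun K hK => θ K (hK.mono h)) where
  nat hK hM f := hθ.nat _ _ f
  heart X _ := hθ.heart X _
  shift L hL hL' := hθ.shift L _ _

variable [F.IsTriangulated] [F'.IsTriangulated] [F.Full]
  (hneg : ∀ X : A, ∃ (N : A) (p : N ⟶ X), Epi p ∧ ∀ f : X ⟶ N, f = 0)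

include hneg in
lemma Good.unique : ∀ {ℓ : ℕ} {θ θ' : ∀ K : DerivedCategory.Bounded A, Amp ℓ K → (F.obj K ≅ F'.obj K)},
    Good F F' η ℓ θ → Good F F' η ℓ θ' → θ = θ' := by
  intro ℓ
  induction ℓ with
  | zero =>
    intro θ θ' h h'
    funext K hK
    obtain ⟨X, ⟨φ⟩⟩ := exists_iso_single hK
    rw [(h.nat (amp_single X 0) hK φ.hom).iso_unique, (h'.nat (amp_single X 0) hK φ.hom).iso_unique,
      h.heart, h'.heart]
  | succ ℓ ih =>
    intro θ θ' h h'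
    have hres := ih (h.restrict ℓ.le_succ) (h'.restrict ℓ.le_succ)
    funext K hK
    obtain ⟨N, g, hg, -, -, hNK, -⟩ := exists_negCover hneg (R := K⟦(1 : ℤ)⟧) (R' := K⟦(1 : ℤ)⟧)
      hK.2 (isLE_shift 0 1 (-1) (by omega) hK.2) (isLE_shift 0 1 (-1) (by omega) hK.2) 0 0 K
    obtain ⟨L, α, β, hT, hL⟩ := exists_step hK g hg
    have hL1 : θ _ hL.shift_up = θ' _ hL.shift_up := by
      rw [h.shift L (hL.mono ℓ.le_succ) hL.shift_up, h'.shift L (hL.mono ℓ.le_succ) hL.shift_up]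
      exact congrArg (sh 1) (congrFun (congrFun hres L) hL)
    apply Iso.ext
    rw [← sub_eq_zero]
    obtain ⟨v, hv⟩ := Triangle.coyoneda_exact₃ _ (F'.map_distinguished _ hT)
      ((θ K hK).hom - (θ' K hK).hom) (by
        change _ ≫ F'.map β ≫ (F'.commShiftIso (1 : ℤ)).hom.app _ = 0
        have e₁ := h.nat hK hL.shift_up β
        have e₂ := h'.nat hK hL.shift_up β
        unfold Agr at e₁ e₂
        rw [← assoc, Preadditive.sub_comp, ← e₁, ← e₂, hL1, sub_self, zero_comp])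
    obtain ⟨v₀, hv₀⟩ := F.map_surjective (v ≫ (η N).inv)
    have h0 : v = 0 := by
      rw [← cancel_mono (η N).inv, ← hv₀, eq_zero_of_hom_H0 hK.2 hNK v₀, zero_comp]
      change F.map 0 = 0
      exact F.map_zero _ _
    rw [hv, h0]
    exact zero_comp

variable [F.Faithful] (hη : ∀ {X Y : A} (h : X ⟶ Y), Agr (η X) (η Y) ((DEquiv.singleB A).map h))

include hη in
lemma exists_good_zero : ∃ θ, Good F F' η 0 θ := by
  choose X φ using fun (K : DerivedCategory.Bounded A) (hK : Amp 0 K) => exists_iso_single hK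
  refine ⟨fun K hK => tr (φ K hK).some (η (X K hK)), ⟨fun {K M} hK hM f => ?_, fun Y hY => ?_,
    fun L hL hL' => ?_⟩⟩
  · obtain ⟨f₀, hf₀⟩ := (DEquiv.singleB A).map_surjective
      ((φ K hK).some.hom ≫ f ≫ (φ M hM).some.inv)
    have key := ((agr_tr_inv (φ K hK).some (η _)).comp (hη f₀)).comp (agr_tr (φ M hM).some (η _))
    rw [hf₀] at key
    simpa using key
  · obtain ⟨f₀, hf₀⟩ := (DEquiv.singleB A).map_surjective (φ _ hY).some.hom
    have := hη f₀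
    rw [hf₀] at this
    exact this.iso_unique.symm
  · haveI := isLE_shift 0 1 (-1) (by omega) hL.2
    haveI := hL'.1
    haveI : (L⟦(1 : ℤ)⟧).obj.IsGE 0 := by simpa using hL'.1
    have hz : IsZero (L⟦(1 : ℤ)⟧) := (IsZero.iff_id_eq_zero _).2
      (hom_eq_zero (-1) 0 (by omega) inferInstance inferInstance _)
    exact Iso.ext ((F.map_isZero hz).eq_of_src _ _)

include hneg in
lemma exists_good_succ {ℓ : ℕ} {θ : ∀ K : DerivedCategory.Bounded A, Amp ℓ K → (F.obj K ≅ F'.obj K)}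
    (hη : ∀ {X Y : A} (h : X ⟶ Y), Agr (η X) (η Y) ((DEquiv.singleB A).map h))
    (hθ : Good F F' η ℓ θ) : ∃ θ', Good F F' η (ℓ + 1) θ' := by
  have ex : ∀ (K : DerivedCategory.Bounded A) (_ : Amp (ℓ + 1) K),
      ∃ d : Datum F F' η θ K, NegTo K d.N := fun K hK => by
    have hR := isLE_shift 0 1 (-1) (by omega) hK.2
    obtain ⟨d, -, -, hd, -⟩ :=
      exists_negDatum hneg hθ hK K (R := K⟦(1 : ℤ)⟧) (R' := K⟦(1 : ℤ)⟧) hR hR 0 0
    exact ⟨d, hd⟩
  choose d hd using ex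
  have val : ∀ (K : DerivedCategory.Bounded A) (hK : Amp (ℓ + 1) K) (d' : Datum F F' η θ K),
      NegTo K d'.N → (d K hK).e = d'.e := fun K hK d' hd' =>
    Datum.e_eq hneg hθ hK _ _ (hd K hK) hd'
  have heart : ∀ (X : A) (h : Amp (ℓ + 1) ((DEquiv.singleB A).obj X)), (d _ h).e = η X := by
    intro X hX
    obtain ⟨p, hp⟩ := (DEquiv.singleB A).map_surjective (d _ hX).g
    haveI := epi_of_isCover (d _ hX).hg hp
    have h₁ := (d _ hX).he₁
    have h₂ := hη p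
    rw [hp] at h₂
    unfold Agr at h₁ h₂
    obtain ⟨w, hw⟩ := F.map_surjective (((d _ hX).e.hom - (η X).hom) ≫ (η X).inv)
    obtain ⟨w₀, rfl⟩ := (DEquiv.singleB A).map_surjective w
    have : p ≫ w₀ = 0 := (DEquiv.singleB A).map_injective (F.map_injective (by
      rw [Functor.map_comp, hp, F.map_comp, hw, ← assoc, Preadditive.comp_sub, h₁, h₂, sub_self,
        zero_comp]
      have hz : (DEquiv.singleB A).map (0 : (d _ hX).N ⟶ X) = 0 :=
        ObjectProperty.hom_ext _ ((DerivedCategory.singleFunctor A 0).map_zero _ _)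
      rw [hz, F.map_zero]))
    have hw0 : w₀ = 0 := (cancel_epi p).1 (this.trans comp_zero.symm)
    apply Iso.ext
    rw [← sub_eq_zero, ← cancel_mono (η X).inv, ← hw, hw0, zero_comp]
    have hz : (DEquiv.singleB A).map (0 : X ⟶ X) = 0 :=
      ObjectProperty.hom_ext _ ((DerivedCategory.singleFunctor A 0).map_zero _ _)
    rw [hz, F.map_zero]
  have nat : ∀ {K M : DerivedCategory.Bounded A} (hK : Amp (ℓ + 1) K) (hM : Amp (ℓ + 1) M)
      (h : K ⟶ M), Agr (d K hK).e (d M hM).e h :=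
    fun hK hM h => Datum.agr_of_neg hneg hθ hK hM _ _ (hd _ hK) (hd _ hM) h
  have low : ∀ (K : DerivedCategory.Bounded A) (hK : Amp ℓ K),
      (d K (hK.mono ℓ.le_succ)).e = θ K hK := by
    intro K hK
    cases ℓ with
    | zero =>
      obtain ⟨X, ⟨φ⟩⟩ := exists_iso_single hK
      rw [(nat (amp_single X 1) (hK.mono zero_le_one) φ.hom).iso_unique, heart,
        (hθ.nat (amp_single X 0) hK φ.hom).iso_unique, hθ.heart]
    | succ m =>
      obtain ⟨N, g, hg, -, -, hN, -⟩ := exists_negCover hneg (R := K⟦(1 : ℤ)⟧) (R' := K⟦(1 : ℤ)⟧)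
        hK.2 (isLE_shift 0 1 (-1) (by omega) hK.2) (isLE_shift 0 1 (-1) (by omega) hK.2) 0 0 K
      obtain ⟨L, α, β, hT, hL⟩ := exists_step hK g hg
      have h₁ : Agr (η N) (θ K hK) g :=
        hθ.heart N (amp_single N (m + 1)) ▸ hθ.nat (amp_single N (m + 1)) hK g
      have h₂ : Agr (θ K hK) (sh 1 (θ L (hL.mono m.le_succ))) β :=
        hθ.shift L (hL.mono m.le_succ) hL.shift_up ▸ hθ.nat hK hL.shift_up β
      exact val K _ ⟨N, g, hg, L, hL.mono m.le_succ, α, β, hT, θ K hK, h₁, h₂⟩ hN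
  refine ⟨fun K hK => (d K hK).e, ⟨nat, heart, fun L hL hL' => ?_⟩⟩
  have hL₀ := Amp.of_shift_up hL hL'
  have hz : IsZero ((DEquiv.singleB A).obj (0 : A)) := by
    rw [IsZero.iff_id_eq_zero, ← (DEquiv.singleB A).map_id, (isZero_zero A).eq_of_src (𝟙 (0 : A)) 0]
    exact ObjectProperty.hom_ext _ ((DerivedCategory.singleFunctor A 0).map_zero _ _)
  have hle := isLE_shift 0 1 (-1) (by omega) hL.2
  have hcov : IsCover (0 : (DEquiv.singleB A).obj (0 : A) ⟶ L⟦(1 : ℤ)⟧) :=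
    have h0 : IsZero ((DerivedCategory.homologyFunctor A 0).obj (L⟦(1 : ℤ)⟧).obj) :=
      DerivedCategory.isZero_of_isLE (L⟦(1 : ℤ)⟧).obj (-1) 0 (by omega)
    ⟨fun a b _ => h0.eq_of_src _ _⟩
  have hT : Triangle.mk (0 : L ⟶ (DEquiv.singleB A).obj (0 : A))
      (0 : (DEquiv.singleB A).obj (0 : A) ⟶ L⟦(1 : ℤ)⟧) (-𝟙 (L⟦(1 : ℤ)⟧)) ∈ distTriang _ := by
    refine isomorphic_distinguished _ (rot_of_distTriang _ (contractible_distinguished L)) _ ?_
    exact Triangle.isoMk _ _ (Iso.refl _) (hz.iso (isZero_zero _)) (Iso.refl _)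
      ((isZero_zero _).eq_of_tgt _ _) (hz.eq_of_src _ _) (by simp [contractibleTriangle]; exact (CategoryTheory.Functor.map_id _ _).symm)
  have hag : Agr (sh 1 (θ L hL₀)) (sh 1 (θ L hL₀)) (-𝟙 (L⟦(1 : ℤ)⟧)) := by
    change F.map _ ≫ _ = _ ≫ F'.map _
    rw [F.map_neg, F'.map_neg, F.map_id, F'.map_id, Preadditive.neg_comp, Preadditive.comp_neg,
      id_comp, comp_id]
  have hgag : Agr (η (0 : A)) (sh 1 (θ L hL₀))
      (0 : (DEquiv.singleB A).obj (0 : A) ⟶ L⟦(1 : ℤ)⟧) := (F.map_isZero hz).eq_of_src _ _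
  rw [low L hL₀]
  exact val _ hL' ⟨0, 0, hcov, L, hL₀, 0, -𝟙 _, hT, sh 1 (θ L hL₀), hgag, hag⟩
    (fun φ => (isZero_zero A).eq_of_tgt _ _)

include hneg hη in
/-- Natural comparisons exist in every amplitude. -/
lemma exists_good (ℓ : ℕ) : ∃ θ, Good F F' η ℓ θ := by
  induction ℓ with
  | zero => exact exists_good_zero hη
  | succ ℓ ih =>
    obtain ⟨θ, hθ⟩ := ih
    exact exists_good_succ hneg hη hθ

include hneg hη in
/-- Siblings of fully faithful functors are isomorphic when there are enough negative objects. -/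
theorem nonempty_iso : Nonempty (F ≅ F') := by
  choose θ hθ using exists_good (F := F) (F' := F') hneg hη
  have res : ∀ {ℓ ℓ' : ℕ} (h : ℓ ≤ ℓ') (K : DerivedCategory.Bounded A) (hK : Amp ℓ K),
      θ ℓ K hK = θ ℓ' K (hK.mono h) := fun h K hK =>
    congrFun (congrFun ((hθ _).unique hneg ((hθ _).restrict h)) K) hK
  -- one step of shifting
  have step : ∀ (ℓ : ℕ) (K : DerivedCategory.Bounded A) (m : ℤ) (e : F.obj K ≅ F'.obj K)
      (hm : Amp ℓ (K⟦m⟧)) (hm' : Amp (ℓ + 1) (K⟦m + 1⟧)), sh m e = θ ℓ _ hm →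
      sh (m + 1) e = θ (ℓ + 1) _ hm' := by
    intro ℓ K m e hm hm' he
    let a := (shiftFunctorAdd' (DerivedCategory.Bounded A) m 1 (m + 1) rfl).app K
    have h₁ : Agr (sh (m + 1) e) (sh 1 (sh m e)) a.hom := sh_add m 1 (m + 1) rfl e
    have h₂ : Agr (θ (ℓ + 1) _ hm') (θ (ℓ + 1) _ hm.shift_up) a.hom := (hθ _).nat _ _ _
    rw [he, res ℓ.le_succ _ hm, ← (hθ (ℓ + 1)).shift _ (hm.mono ℓ.le_succ) hm.shift_up] at h₁
    rw [(Agr.of_inv h₁).iso_unique (φ := a.symm), (Agr.of_inv h₂).iso_unique (φ := a.symm)]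
  have amp_add : ∀ (K : DerivedCategory.Bounded A) (m : ℤ) (ℓ j : ℕ), Amp ℓ (K⟦m⟧) →
      Amp (ℓ + j) (K⟦m + (j : ℤ)⟧) := by
    intro K m ℓ j h
    induction j with
    | zero => exact h.of_iso (eqToIso (by simp))
    | succ j ih =>
      exact ih.shift_up.of_iso
        ((shiftFunctorAdd' _ (m + (j : ℤ)) 1 (m + ((j + 1 : ℕ) : ℤ)) (by push_cast; ring)).app K).symm
  have many : ∀ (K : DerivedCategory.Bounded A) (e : F.obj K ≅ F'.obj K) (m : ℤ) (ℓ : ℕ)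
      (hm : Amp ℓ (K⟦m⟧)), sh m e = θ ℓ _ hm → ∀ (j : ℕ) (m' : ℤ) (hm' : Amp (ℓ + j) (K⟦m'⟧)),
      m' = m + (j : ℤ) → sh m' e = θ (ℓ + j) _ hm' := by
    intro K e m ℓ hm he j
    induction j with
    | zero =>
      intro m' hm' hj
      obtain rfl : m' = m := by omega
      exact he
    | succ j ih =>
      intro m' hm' hj
      obtain rfl : m' = (m + (j : ℤ)) + 1 := by omega
      exact step (ℓ + j) K (m + (j : ℤ)) e (amp_add K m ℓ j hm) hm'
        (ih _ (amp_add K m ℓ j hm) rfl)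
  choose m₀ ℓ₀ h₀ using fun K : DerivedCategory.Bounded A => exists_amp_shift K
  let e : ∀ K : DerivedCategory.Bounded A, F.obj K ≅ F'.obj K := fun K =>
    (shiftFunctor D (m₀ K)).preimageIso (((F.commShiftIso (m₀ K)).app K).symm ≪≫
      θ (ℓ₀ K) _ (h₀ K) ≪≫ (F'.commShiftIso (m₀ K)).app K)
  have he : ∀ K, sh (m₀ K) (e K) = θ (ℓ₀ K) _ (h₀ K) := fun K => by
    apply Iso.ext
    simp [sh_hom, e, Functor.preimageIso]
  refine ⟨NatIso.ofComponents e fun {K M} h => ?_⟩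
  obtain ⟨j, hj⟩ : ∃ j : ℕ, max (m₀ K) (m₀ M) = m₀ K + (j : ℤ) :=
    ⟨(max (m₀ K) (m₀ M) - m₀ K).toNat, by omega⟩
  obtain ⟨i, hi⟩ : ∃ i : ℕ, max (m₀ K) (m₀ M) = m₀ M + (i : ℤ) :=
    ⟨(max (m₀ K) (m₀ M) - m₀ M).toNat, by omega⟩
  generalize max (m₀ K) (m₀ M) = m at hj hi
  have hK : Amp (ℓ₀ K + j) (K⟦m⟧) := hj ▸ amp_add K _ _ j (h₀ K)
  have hM : Amp (ℓ₀ M + i) (M⟦m⟧) := hi ▸ amp_add M _ _ i (h₀ M)
  have eK := many K (e K) _ _ (h₀ K) (he K) j m hK hj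
  have eM := many M (e M) _ _ (h₀ M) (he M) i m hM hi
  rw [res (le_max_left _ (ℓ₀ M + i))] at eK
  rw [res (le_max_right (ℓ₀ K + j) _)] at eM
  apply agr_shift_of_sh (n := m)
  rw [eK, eM]
  exact (hθ _).nat _ _ _

end Groth.Agent.DEqLib.Sib
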