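import Groth.Agent.DEqLib.Sib.PointSheaf
import Groth.Agent.KFlatLib.PsiC
import Groth.Agent.QCoh.Stalk
import Groth.Prelude.Def_DCoh2

/-! Morphisms to the point sheaf detect the stalk of the top cohomology sheaf. -/

universe u

open CategoryTheory CategoryTheory.Limits CategoryTheory.Pretriangulated AlgebraicGeometry

set_option backward.isDefEq.respectTransparency false
set_option linter.style.haveILetI false

attribute [local instance] HasDerivedCategory.standard

noncomputable section

namespace Groth.Agent.DEqLib.Sib.PointSheaf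

open Groth.Agent.KFlatLib

/-- Nakayama: a nonzero finite module over a local ring maps nontrivially to any nonzero module killed
by the maximal ideal. -/
theorem exists_linearMap_ne_zero {R : Type u} [CommRing R] [IsLocalRing R] {H N : Type u}
    [AddCommGroup H] [Module R H] [Module.Finite R H] [Nontrivial H]
    [AddCommGroup N] [Module R N] [Nontrivial N]
    (hN : ∀ r ∈ IsLocalRing.maximalIdeal R, ∀ n : N, r • n = 0) : ∃ g : H →ₗ[R] N, g ≠ 0 := by
  obtain ⟨n, hn⟩ := exists_ne (0 : N)
  let k := IsLocalRing.ResidueField R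
  haveI : Nontrivial (TensorProduct R k H) := by
    rw [← not_subsingleton_iff_nontrivial, IsLocalRing.subsingleton_tensorProduct]
    exact not_subsingleton H
  obtain ⟨v, hv⟩ := exists_ne (0 : TensorProduct R k H)
  obtain ⟨e, he⟩ := Module.Projective.exists_dual_ne_zero k hv
  let ι : k →ₗ[R] N := Submodule.liftQ _ (LinearMap.toSpanSingleton R N n) fun r hr => hN r hr n
  refine ⟨ι ∘ₗ (e.restrictScalars R) ∘ₗ TensorProduct.mk R k H 1, fun h => he ?_⟩
  have hι : ∀ c : k, ι c = 0 → c = 0 := fun c hc => by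
    obtain ⟨r, rfl⟩ := Submodule.Quotient.mk_surjective _ c
    by_contra hne
    have hu : IsUnit r := by
      by_contra hu
      exact hne ((Submodule.Quotient.mk_eq_zero _).2 ((IsLocalRing.mem_maximalIdeal r).2 hu))
    exact hn (hu.smul_eq_zero.1 hc)
  induction v using TensorProduct.induction_on with
  | zero => exact map_zero e
  | tmul c x =>
    have hx : e ((1 : k) ⊗ₜ[R] x) = 0 := hι _ (LinearMap.congr_fun h x)
    rw [show c ⊗ₜ[R] x = c • ((1 : k) ⊗ₜ[R] x) by rw [TensorProduct.smul_tmul', smul_eq_mul, mul_one],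
      map_smul, hx, smul_zero]
  | add a b ha hb =>
    have : ∀ w : TensorProduct R k H, e w = 0 := fun w => by
      induction w using TensorProduct.induction_on with
      | zero => exact map_zero e
      | tmul c x =>
        have hx : e ((1 : k) ⊗ₜ[R] x) = 0 := hι _ (LinearMap.congr_fun h x)
        rw [show c ⊗ₜ[R] x = c • ((1 : k) ⊗ₜ[R] x) by rw [TensorProduct.smul_tmul', smul_eq_mul, mul_one],
          map_smul, hx, smul_zero]
      | add a b ha hb => rw [map_add, ha, hb, add_zero]
    exact this _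

/-- A nonzero morphism out of the top cohomology. -/
theorem exists_hom_ne_zero {R : Type u} [CommRing R] [IsLocalRing R]
    (K : DerivedCategory (ModuleCat.{u} R)) (m : ℤ) [K.IsLE m]
    (hfin : Module.Finite R ((DerivedCategory.homologyFunctor (ModuleCat.{u} R) m).obj K))
    (hne : Nontrivial ((DerivedCategory.homologyFunctor (ModuleCat.{u} R) m).obj K))
    (N : ModuleCat.{u} R) [Nontrivial N] (hN : ∀ r ∈ IsLocalRing.maximalIdeal R, ∀ n : N, r • n = 0) :
    ∃ φ : K ⟶ (DerivedCategory.singleFunctor (ModuleCat.{u} R) m).obj N, φ ≠ 0 := by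
  let H := DerivedCategory.homologyFunctor (ModuleCat.{u} R) m
  obtain ⟨A, C, hA, hC, f, g, h, hT⟩ :=
    DerivedCategory.TStructure.t.exists_triangle K (m - 1) m (by omega)
  haveI : A.IsLE (m - 1) := ⟨hA⟩
  haveI : C.IsGE m := ⟨hC⟩
  haveI : C.IsLE m := DerivedCategory.TStructure.t.isLE₂ _ (rot_of_distTriang _ hT) m ‹_›
    (haveI : (A⟦(1 : ℤ)⟧).IsLE (m - 2) := DerivedCategory.TStructure.t.isLE_shift A (m - 1) 1 (m - 2) (by omega)
     DerivedCategory.TStructure.t.isLE_of_le (A⟦(1 : ℤ)⟧) (m - 2) m (by omega))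
  obtain ⟨Y, ⟨e⟩⟩ := DerivedCategory.exists_iso_singleFunctor_obj_of_isGE_of_isLE C m
  let eY : H.obj C ≅ Y := H.mapIso e ≪≫
    (DerivedCategory.singleFunctorCompHomologyFunctorIso (ModuleCat.{u} R) m).app Y
  have h₃ := DerivedCategory.HomologySequence.exact₃ _ hT m (m + 1) rfl
  have h₂ := DerivedCategory.HomologySequence.exact₂ _ hT m
  haveI : Epi (H.map g) :=
    h₃.epi_f ((A.isZero_of_isLE (m - 1) (m + 1) (by omega)).eq_of_tgt _ _)
  haveI : Mono (H.map g) :=
    h₂.mono_g ((A.isZero_of_isLE (m - 1) m (by omega)).eq_of_src _ _)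
  haveI : IsIso (H.map g) := isIso_of_mono_of_epi _
  let l := (asIso (H.map g) ≪≫ eY).toLinearEquiv
  haveI : Module.Finite R Y := Module.Finite.equiv l
  haveI : Nontrivial Y := l.symm.toEquiv.nontrivial
  obtain ⟨q, hq⟩ := exists_linearMap_ne_zero (H := Y) (N := N) hN
  let S := DerivedCategory.singleFunctor (ModuleCat.{u} R) m
  refine ⟨g ≫ e.hom ≫ S.map (ModuleCat.ofHom q), fun h0 => hq ?_⟩
  obtain ⟨ψ, hψ⟩ := Triangle.yoneda_exact₃ _ hT (e.hom ≫ S.map (ModuleCat.ofHom q)) h0
  haveI : (A⟦(1 : ℤ)⟧).IsLE (m - 2) :=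
    DerivedCategory.TStructure.t.isLE_shift A (m - 1) 1 (m - 2) (by omega)
  haveI : (S.obj N).IsGE m := inferInstanceAs (((DerivedCategory.singleFunctor _ m).obj N).IsGE m)
  have hψ0 : ψ = 0 := DerivedCategory.TStructure.t.zero (show A⟦(1 : ℤ)⟧ ⟶ S.obj N from ψ) (m - 2) m (by omega)
  rw [hψ0, comp_zero] at hψ
  have : S.map (ModuleCat.ofHom q) = 0 := by
    rw [← cancel_epi e.hom, hψ, comp_zero]
  exact congrArg ModuleCat.Hom.hom (S.map_injective (this.trans (Functor.map_zero _ _ _).symm))

variable {X : Scheme.{u}}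

/-- The cohomology of the stalk complex. -/
def hdStalkIso (x : X) (K : DCoh.D X) (i : ℤ) :
    (DerivedCategory.homologyFunctor _ i).obj ((DerSch.stalkFunctor X x).mapDerivedCategory.obj K) ≅
      (DerSch.stalkFunctor X x).obj (DCoh.HD K i) :=
  (mapDCHomologyIso (DerSch.stalkFunctor X x) i).app K

theorem stalks_vanish_iff (x : X) (K : DCoh.D X) (hK : DCoh.IsCohD K) (a c : ℤ)
    [DerivedCategory.IsLE K c] (b : ℤ) :
    (∀ i : ℤ, b < i → x ∉ CohB1.support (DCoh.HD K i)) ↔
      ∀ i : ℤ, b < i → ∀ φ : K ⟶ (shiftFunctor (DCoh.D X) (-i)).obj (DCoh.inD X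
        ((Coh.push (X.fromSpecResidueField x)).obj (Coh.structureModule _))), φ = 0 := by
  obtain ⟨N, hN, hN0, ⟨eN⟩⟩ := exists_sky_point x
  let R := X.presheaf.stalk x
  let Kx := (DerSch.stalkFunctor X x).mapDerivedCategory.obj K
  let S₀ := DerivedCategory.singleFunctor (ModuleCat.{u} R) 0
  let eSh : ∀ i : ℤ, (S₀.obj N)⟦-i⟧ ≅ (DerivedCategory.singleFunctor (ModuleCat.{u} R) i).obj N := fun i =>
    ((SingleFunctors.shiftIso (DerivedCategory.singleFunctors (ModuleCat.{u} R)) (-i) i 0 (by omega)).app N)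
  have key : ∀ i : ℤ, (∀ φ : K ⟶ (shiftFunctor (DCoh.D X) (-i)).obj (DCoh.inD X
        ((Coh.push (X.fromSpecResidueField x)).obj (Coh.structureModule _))), φ = 0) ↔
      ∀ ψ : Kx ⟶ (DerivedCategory.singleFunctor (ModuleCat.{u} R) i).obj N, ψ = 0 := fun i => by
    obtain ⟨ε⟩ := nonempty_hom_sky_equiv x N K (-i)
    let t := (shiftFunctor (DCoh.D X) (-i)).mapIso ((DerivedCategory.singleFunctor X.Modules 0).mapIso eN)
    constructor
    · intro h ψ
      have h1 : ε.symm (ψ ≫ (eSh i).inv) = 0 := by
        rw [← cancel_mono t.inv, zero_comp]; exact h _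
      have h2 : ψ ≫ (eSh i).inv = 0 := ε.symm.injective (h1.trans (map_zero _).symm)
      rw [← cancel_mono (eSh i).inv, h2, zero_comp]
    · intro h φ
      have h1 : ε (φ ≫ t.hom) = 0 := by
        rw [← cancel_mono (eSh i).hom, zero_comp]; exact h _
      have h2 : φ ≫ t.hom = 0 := ε.injective (h1.trans (map_zero _).symm)
      rw [← cancel_mono t.hom, h2, zero_comp]
  have hz : ∀ i : ℤ, x ∉ CohB1.support (DCoh.HD K i) ↔
      IsZero ((DerivedCategory.homologyFunctor _ i).obj Kx) := fun i => by
    rw [(hdStalkIso x K i).isZero_iff]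
    constructor
    · intro h
      haveI : Subsingleton ((DerSch.stalkFunctor X x).obj (DCoh.HD K i)) := not_not.1 h
      exact ModuleCat.isZero_of_subsingleton _
    · intro h hmem
      exact hmem (ModuleCat.subsingleton_of_isZero h)
  simp only [key]
  constructor
  · intro h i hi ψ
    haveI : Kx.IsLE b := (DerivedCategory.isLE_iff _ b).2 fun j hj => (hz j).1 (h j hj)
    exact DerivedCategory.TStructure.t.zero ψ b i hi
  · intro h
    have main : ∀ (n : ℕ) (i : ℤ), b < i → c < i + n → IsZero ((DerivedCategory.homologyFunctor _ i).obj Kx) := by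
      intro n
      induction n with
      | zero =>
        intro i _ hc
        exact (hz i).1 fun hm => hm (ModuleCat.subsingleton_of_isZero
          ((DerSch.stalkFunctor X x).map_isZero (K.isZero_of_isLE c i (by simpa using hc))))
      | succ n ih =>
        intro i hi hc
        haveI : Kx.IsLE i := (DerivedCategory.isLE_iff _ i).2 fun j hj => ih j (by omega) (by push_cast at hc; omega)
        by_contra hne
        haveI : Module.Finite R ((DerSch.stalkFunctor X x).obj (DCoh.HD K i)) :=
          QCoh.finite_stalk_of_isFT (hK i).1 (hK i).2 x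
        have hfin : Module.Finite R ((DerivedCategory.homologyFunctor (ModuleCat.{u} R) i).obj Kx) :=
          Module.Finite.equiv (hdStalkIso x K i).toLinearEquiv.symm
        have hnt : Nontrivial ((DerivedCategory.homologyFunctor (ModuleCat.{u} R) i).obj Kx) := by
          rw [← not_subsingleton_iff_nontrivial]
          exact fun hs => hne (@ModuleCat.isZero_of_subsingleton _ _ _ hs)
        haveI := hN
        obtain ⟨φ, hφ⟩ := exists_hom_ne_zero Kx i hfin hnt N hN0
        exact hφ (h i hi φ)
    intro i hi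
    exact (hz i).2 (main (c - i).toNat.succ i hi (by omega))

end Groth.Agent.DEqLib.Sib.PointSheaf
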