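import Groth.Agent.KFlatLib.Scheme.Pullback
import Groth.Agent.KFlatLib.Scheme.Flatness
import Groth.Agent.SiteBase.HDURestr
import Groth.Agent.KFlatLib.Perfect.LocFree
import Groth.Prelude.Def_Coh

/-! The point sheaf at a closed point as a skyscraper. -/

universe u

open CategoryTheory CategoryTheory.Limits AlgebraicGeometry TopologicalSpace Opposite

set_option backward.isDefEq.respectTransparency false
set_option linter.style.haveILetI false

attribute [local instance] HasDerivedCategory.standard

noncomputable section

namespace Groth.Agent.DEqLib.Sib.PointSheaf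

open Groth.Agent.KFlatLib

variable {X : Scheme.{u}}

instance preservesFiniteLimits_sky (y : X) : PreservesFiniteLimits (sky y) :=
  haveI : (sky y).PreservesHomology := Functor.preservesHomology_of_map_exact _ (exact_map_sky y)
  Functor.preservesFiniteLimits_of_preservesHomology _

instance preservesFiniteColimits_sky (y : X) : PreservesFiniteColimits (sky y) :=
  haveI : (sky y).PreservesHomology := Functor.preservesHomology_of_map_exact _ (exact_map_sky y)
  Functor.preservesFiniteColimits_of_preservesHomology _

lemma skyAdj_counit_app (y : X) (N : ModuleCat.{u} (X.presheaf.stalk y)) :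
    (skyAdj y).counit.app N = (skyStalkIso y).hom.app N := by
  refine stalkMod_ext (P := DCoh.toP.obj ((sky y).obj N)) fun U hU s => ?_
  change ofSkyP y (𝟙 (skyP y N)) (germP _ U hU s) = skyEval y N (germP _ U hU s)
  rw [ofSkyP_germ, skyEval_germ]
  rfl

lemma isIso_stalk_unit (y : X) (M : X.Modules) :
    IsIso ((DerSch.stalkFunctor X y).map ((skyAdj y).unit.app M)) := by
  haveI : IsIso ((skyAdj y).counit.app ((DerSch.stalkFunctor X y).obj M)) := by
    rw [skyAdj_counit_app]; infer_instance
  have h := (skyAdj y).left_triangle_components M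
  haveI : IsIso ((DerSch.stalkFunctor X y).map ((skyAdj y).unit.app M) ≫
      (skyAdj y).counit.app ((DerSch.stalkFunctor X y).obj M)) := by
    erw [h]; infer_instance
  exact IsIso.of_isIso_comp_right _ ((skyAdj y).counit.app ((DerSch.stalkFunctor X y).obj M))

/-- On a one-point space every module is a skyscraper. -/
lemma nonempty_iso_sky_of_subsingleton [Subsingleton X] (y : X) (M : X.Modules) :
    Nonempty (M ≅ (sky y).obj ((DerSch.stalkFunctor X y).obj M)) := by
  haveI : IsIso ((skyAdj y).unit.app M) := isIso_of_stalk _ fun z => by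
    obtain rfl := Subsingleton.elim y z
    exact isIso_stalk_unit y M
  exact ⟨asIso ((skyAdj y).unit.app M)⟩

/-- The direct image of the structure module of the spectrum of a field. -/
lemma exists_sky_of_field {K : Type u} [Field K] (f : Spec (CommRingCat.of K) ⟶ X) (x : X)
    (hx : ∀ p, f p = x) :
    ∃ N : ModuleCat.{u} (X.presheaf.stalk x), Nontrivial N ∧
      (∀ r ∈ IsLocalRing.maximalIdeal (X.presheaf.stalk x), ∀ n : N, r • n = 0) ∧
      Nonempty ((Coh.push f).obj (Coh.structureModule _) ≅ (sky x).obj N) := by
  haveI : Nonempty (Spec (CommRingCat.of K)) := inferInstanceAs (Nonempty (PrimeSpectrum K))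
  haveI : Subsingleton (Spec (CommRingCat.of K)) := inferInstanceAs (Subsingleton (PrimeSpectrum K))
  let p : Spec (CommRingCat.of K) := Classical.arbitrary _
  obtain rfl := hx p
  let O := Coh.structureModule (Spec (CommRingCat.of K))
  let N := (ModuleCat.restrictScalars (f.stalkMap p).hom).obj ((DerSch.stalkFunctor _ p).obj O)
  obtain ⟨e⟩ := nonempty_iso_sky_of_subsingleton p O
  let R' := (Spec (CommRingCat.of K)).presheaf.stalk p
  refine ⟨N, ?_, fun r hr n => ?_,
    ⟨(Scheme.Modules.pushforward f).mapIso e ≪≫ (skyPushforwardIso f p).app _⟩⟩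
  · exact ((KFlatLib.stalkUnitEquiv p).symm.toEquiv : (Coh.structureModule (Spec (CommRingCat.of K))).presheaf.stalk p ≃ R').nontrivial
  · haveI : Subsingleton (PrimeSpectrum K) := inferInstance
    have hf : IsField R' := by
      rw [IsLocalRing.isField_iff_maximalIdeal_eq]
      refine le_antisymm (fun s hs => ?_) bot_le
      letI : Algebra K R' := (StructureSheaf.toStalk K p).hom.toAlgebra
      haveI : IsLocalization.AtPrime R' p.asIdeal := StructureSheaf.IsLocalization.to_stalk K p
      obtain ⟨⟨a, b⟩, hab⟩ := IsLocalization.surj p.asIdeal.primeCompl s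
      rcases eq_or_ne a 0 with rfl | ha
      · rw [map_zero] at hab
        exact (IsLocalization.map_units R' b).mul_left_eq_zero.1 hab
      · exact absurd (isUnit_of_mul_isUnit_left (hab ▸ (isUnit_iff_ne_zero.2 ha).map (algebraMap K R')))
          ((IsLocalRing.mem_maximalIdeal s).1 hs)
    have h0 : (f.stalkMap p).hom r = 0 := by
      by_contra h
      letI := hf.toField
      exact (IsLocalRing.mem_maximalIdeal r).1 hr ((isUnit_map_iff (f.stalkMap p).hom r).1 (isUnit_iff_ne_zero.2 h))
    show (f.stalkMap p).hom r • (n : (DerSch.stalkFunctor _ p).obj O) = 0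
    rw [h0, zero_smul]

/-- The point sheaf is a skyscraper with fibre killed by the maximal ideal. -/
lemma exists_sky_point (x : X) :
    ∃ N : ModuleCat.{u} (X.presheaf.stalk x), Nontrivial N ∧
      (∀ r ∈ IsLocalRing.maximalIdeal (X.presheaf.stalk x), ∀ n : N, r • n = 0) ∧
      Nonempty ((Coh.push (X.fromSpecResidueField x)).obj (Coh.structureModule _) ≅ (sky x).obj N) :=
  exists_sky_of_field (K := X.residueField x) (X.fromSpecResidueField x) x
    (Scheme.fromSpecResidueField_apply x)

/-- Morphisms into shifts of a skyscraper are morphisms of stalks. -/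
lemma nonempty_hom_sky_equiv (x : X) (N : ModuleCat.{u} (X.presheaf.stalk x)) (K : DCoh.D X) (j : ℤ) :
    Nonempty ((K ⟶ (shiftFunctor (DCoh.D X) j).obj (DCoh.inD X ((sky x).obj N))) ≃+
      ((DerSch.stalkFunctor X x).mapDerivedCategory.obj K ⟶
        ((DerivedCategory.singleFunctor (ModuleCat.{u} (X.presheaf.stalk x)) 0).obj N)⟦j⟧)) := by
  let adj := HDURestr.derivedAdj (skyAdj x)
  let c : (sky x).mapDerivedCategory.obj
      (((DerivedCategory.singleFunctor (ModuleCat.{u} (X.presheaf.stalk x)) 0).obj N)⟦j⟧) ≅
      (shiftFunctor (DCoh.D X) j).obj (DCoh.inD X ((sky x).obj N)) :=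
    ((sky x).mapDerivedCategory.commShiftIso j).app _ ≪≫
      (shiftFunctor (DCoh.D X) j).mapIso (((sky x).mapDerivedCategorySingleFunctor 0).app N)
  refine ⟨AddEquiv.symm (AddEquiv.mk' ((adj.homEquiv _ _).trans (Iso.homCongr (Iso.refl K) c)) fun φ ψ => ?_)⟩
  simp [Adjunction.homEquiv_unit]

end Groth.Agent.DEqLib.Sib.PointSheaf
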