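import Groth.Agent.DEqLib.Sib.Adjoints
import Groth.Agent.S6720
import Groth.Agent.KZ.RegPerf
import Groth.Agent.QCoh.DevissageP
import Groth.Agent.AlgSpDec.OnePoint

/-!
# Point sheaves detect zero objects and fully faithfulness
-/

universe u

open CategoryTheory Category Limits Pretriangulated AlgebraicGeometry Opposite
open scoped ZeroObject

attribute [local instance] HasDerivedCategory.standard

set_option backward.isDefEq.respectTransparency false

noncomputable section

namespace Groth.Agent.DEqLib.Sib.PointTest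

section Abstract

variable {C : Type*} [Category C] [HasShift C ℤ] {D : Type*} [Category D] [HasShift D ℤ]
  (F : C ⥤ D) [F.CommShift ℤ]

/-- `F` is bijective on morphisms from `A` to `B`. -/
def Bij (A B : C) : Prop := Function.Bijective fun f : A ⟶ B => F.map f

variable {F}

omit [HasShift C ℤ] [HasShift D ℤ] [F.CommShift ℤ] in
lemma Bij.of_iso {A A' B B' : C} (a : A ≅ A') (b : B ≅ B') (h : Bij F A B) : Bij F A' B' := by
  have : (fun f : A' ⟶ B' => F.map f) = ((F.mapIso a).homCongr (F.mapIso b)) ∘ (fun f : A ⟶ B => F.map f) ∘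
      (a.homCongr b).symm := by
    funext f
    simp
  show Function.Bijective _
  rw [this]
  exact (Equiv.bijective _).comp (h.comp (Equiv.bijective _))

lemma Bij.shift {A B : C} (h : Bij F A B) (n : ℤ) : Bij F (A⟦n⟧) (B⟦n⟧) := by
  let sC := (Functor.FullyFaithful.ofFullyFaithful (shiftFunctor C n)).homEquiv (X := A) (Y := B)
  let sD := (Functor.FullyFaithful.ofFullyFaithful (shiftFunctor D n)).homEquiv (X := F.obj A) (Y := F.obj B)
  let c := ((F.commShiftIso n).app A).symm.homCongr ((F.commShiftIso n).app B).symm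
  have : (fun f : A⟦n⟧ ⟶ B⟦n⟧ => F.map f) = c ∘ sD ∘ (fun f : A ⟶ B => F.map f) ∘ sC.symm := by
    funext f
    obtain ⟨g, rfl⟩ := sC.surjective f
    simp only [Function.comp_apply, Equiv.symm_apply_apply]
    have hn := (F.commShiftIso n).hom.naturality g
    rw [Functor.comp_map, Functor.comp_map] at hn
    simp [sC, sD, c, Functor.FullyFaithful.homEquiv, ← reassoc_of% hn]
  show Function.Bijective _
  rw [this]
  exact (Equiv.bijective _).comp ((Equiv.bijective _).comp (h.comp (Equiv.bijective _)))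

/-- Targets can be moved to arbitrary shifts of the source. -/
lemma Bij.shift_left {A : C} (h : ∀ M : C, Bij F A M) (j : ℤ) (M : C) : Bij F (A⟦j⟧) M :=
  ((h (M⟦-j⟧)).shift j).of_iso (Iso.refl _) ((shiftFunctorCompIsoId C (-j) j (by omega)).app M)

end Abstract

variable (k : Type u) [Field k] {X : Scheme.{u}} [X.Over (Spec (CommRingCat.of k))]
  [IsProper (X ↘ Spec (CommRingCat.of k))]

variable (X) in
/-- The point sheaf. -/
abbrev O' (x : X) : DCoh.D X :=
  DCoh.inD X ((Coh.push (X.fromSpecResidueField x)).obj (Coh.structureModule _))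

include k in
theorem isPerfect_point (hreg : Models.IsRegularScheme X) (x : X) (hx : IsClosed ({x} : Set X)) :
    DCoh.IsPerfect (O' X x) := by
  haveI : IsLocallyNoetherian X := LocallyOfFiniteType.isLocallyNoetherian (X ↘ Spec (CommRingCat.of k))
  haveI : CompactSpace X := (quasiCompact_iff_compactSpace (X ↘ Spec (CommRingCat.of k))).1 inferInstance
  haveI : IsNoetherian X := ⟨⟩
  haveI := AlgSpDec.isClosedImmersion_fromSpecResidueField hx
  exact KZ.isPerfect_of_isCoh hreg _ (QCoh.isCoh_push_structure _)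

include k in
/-- Objects with empty support are zero. -/
theorem isZero_of_support (K : DCoh.D X)
    (h : ∀ x : X, IsClosed ({x} : Set X) →
      ∃ U : X.Opens, x ∈ U ∧ ∀ (i : ℤ) (y : X), y ∈ U → y ∉ CohB1.support (DCoh.HD K i)) :
    IsZero K := by
  haveI : CompactSpace X := (quasiCompact_iff_compactSpace (X ↘ Spec (CommRingCat.of k))).1 inferInstance
  have hz : ∀ i, IsZero (DCoh.HD K i) := fun i => KFlatLib.isZero_of_stalk _ fun y => by
    obtain ⟨x, hxy, hx⟩ := (isClosed_closure (s := ({y} : Set X))).exists_closed_singleton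
      ((Set.singleton_nonempty y).mono subset_closure)
    obtain ⟨U, hxU, hU⟩ := h x hx
    have hy : y ∈ U := (specializes_iff_mem_closure.2 hxy).mem_open U.2 hxU
    exact (GeoPoint.notMem_support_iff _ y).1 (hU i y hy)
  haveI : IsIso (0 : K ⟶ 0) := (DerivedCategory.isIso_iff X.Modules _).2 fun i =>
    ⟨0, (hz i).eq_of_src _ _,
      ((DerivedCategory.homologyFunctor X.Modules i).map_isZero (isZero_zero _)).eq_of_src _ _⟩
  exact (isZero_zero _).of_iso (asIso (0 : K ⟶ 0))

variable [(SGA6.perfP X).IsTriangulated]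

/-- The point sheaf as a perfect object. -/
abbrev Pt (x : X) (hx : DCoh.IsPerfect (O' X x)) : (SGA6.perfP X).FullSubcategory := ⟨O' X x, hx⟩

lemma isZero_sub {P : (SGA6.perfP X).FullSubcategory} (h : IsZero P.obj) : IsZero P :=
  (IsZero.iff_id_eq_zero P).2 (ObjectProperty.hom_ext _ (h.eq_of_src _ _))

lemma zero_shift {P Q : (SGA6.perfP X).FullSubcategory} (n : ℤ) (h : ∀ φ : P ⟶ Q⟦n⟧, φ = 0)
    (φ : P.obj ⟶ Q.obj⟦n⟧) : φ = 0 := by
  have := h (ObjectProperty.homMk (φ ≫ ((SGA6.perfP X).ι.commShiftIso n).inv.app Q))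
  have h2 := congrArg (fun z => z.hom) this
  simpa using! (cancel_mono (((SGA6.perfP X).ι.commShiftIso n).inv.app Q)).1 (h2.trans zero_comp.symm)

include k in
theorem isZero_of_orth_from (hreg : Models.IsRegularScheme X) (P : (SGA6.perfP X).FullSubcategory)
    (h : ∀ (x : X) (hx : DCoh.IsPerfect (O' X x)), IsClosed ({x} : Set X) →
      ∀ (j : ℤ) (φ : (Pt x hx)⟦j⟧ ⟶ P), φ = 0) : IsZero P := by
  haveI : CompactSpace X := (quasiCompact_iff_compactSpace (X ↘ Spec (CommRingCat.of k))).1 inferInstance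
  refine isZero_sub (isZero_of_support k _ fun x hx => ?_)
  refine (Groth.Agent.S6720.result k X hreg x hx P.obj P.property).1 fun i φ => ?_
  have hp := isPerfect_point k hreg x hx
  refine zero_shift (P := Pt x hp) i (fun ψ => ?_) φ
  apply (shiftFunctor _ (-i)).map_injective
  rw [Functor.map_zero, ← cancel_mono ((shiftFunctorCompIsoId _ i (-i) (by omega)).hom.app P), zero_comp]
  exact h x hp hx (-i) _

include k in
theorem isZero_of_orth_to (hreg : Models.IsRegularScheme X) (P : (SGA6.perfP X).FullSubcategory)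
    (h : ∀ (x : X) (hx : DCoh.IsPerfect (O' X x)), IsClosed ({x} : Set X) →
      ∀ (j : ℤ) (φ : P ⟶ (Pt x hx)⟦j⟧), φ = 0) : IsZero P := by
  haveI : CompactSpace X := (quasiCompact_iff_compactSpace (X ↘ Spec (CommRingCat.of k))).1 inferInstance
  refine isZero_sub (isZero_of_support k _ fun x hx => ?_)
  refine (Groth.Agent.S6720.result k X hreg x hx P.obj P.property).2 fun i φ => ?_
  have hp := isPerfect_point k hreg x hx
  exact zero_shift (Q := Pt x hp) i (h x hp hx i) φ

variable {Y : Scheme.{u}} [Y.Over (Spec (CommRingCat.of k))] [IsProper (Y ↘ Spec (CommRingCat.of k))]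
  [(SGA6.perfP Y).IsTriangulated]
  (F : (SGA6.perfP X).FullSubcategory ⥤ (SGA6.perfP Y).FullSubcategory) [F.Additive] [F.Linear k]
  [F.CommShift ℤ] [F.IsTriangulated]

include k in
theorem fullyFaithful_of_points (hreg : Models.IsRegularScheme X)
    (h : ∀ (x x' : X), IsClosed ({x} : Set X) → IsClosed ({x'} : Set X) →
      ∀ (hx : DCoh.IsPerfect (O' X x)) (hx' : DCoh.IsPerfect (O' X x')) (i : ℤ),
        Bij F (Pt x hx) ((Pt x' hx')⟦i⟧)) :
    F.Full ∧ F.Faithful := by
  haveI := Adjoints.isLeftAdjoint k X Y F hreg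
  haveI := Adjoints.isRightAdjoint k X Y F hreg
  let a := Adjunction.ofIsRightAdjoint F
  let b := Adjunction.ofIsLeftAdjoint F
  haveI : F.leftAdjoint.Additive := a.left_adjoint_additive
  haveI : F.rightAdjoint.Additive := b.right_adjoint_additive
  have hε : ∀ (x : X) (hx : DCoh.IsPerfect (O' X x)), IsClosed ({x} : Set X) →
      IsIso (a.counit.app (Pt x hx)) := fun x hx hc => by
    obtain ⟨C, g, d, hT⟩ := distinguished_cocone_triangle (a.counit.app (Pt x hx))
    have hb : ∀ (x' : X) (hx' : DCoh.IsPerfect (O' X x')), IsClosed ({x'} : Set X) → ∀ j : ℤ,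
        Function.Bijective fun f : Pt x hx ⟶ (Pt x' hx')⟦j⟧ => a.counit.app (Pt x hx) ≫ f := fun x' hx' hc' j => by
      have : (fun f : Pt x hx ⟶ (Pt x' hx')⟦j⟧ => a.counit.app (Pt x hx) ≫ f) =
          (a.homEquiv _ _).symm ∘ fun f => F.map f := by
        funext f
        exact ((a.homEquiv_counit _ _ _).trans (a.counit.naturality f)).symm
      exact this ▸ (Equiv.bijective _).comp (h x x' hc hc' hx hx' j)
    have hz : IsZero C := isZero_of_orth_to k hreg C fun x' hx' hc' j φ => by
      have h0 : a.counit.app (Pt x hx) ≫ g = 0 := comp_distTriang_mor_zero₁₂ _ hT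
      have h3 : d ≫ (a.counit.app (Pt x hx))⟦(1 : ℤ)⟧' = 0 := comp_distTriang_mor_zero₃₁ _ hT
      have h1 : g ≫ φ = 0 := (hb x' hx' hc' j).1 (by
        show a.counit.app _ ≫ g ≫ φ = a.counit.app _ ≫ 0
        rw [← Category.assoc, h0, zero_comp, comp_zero])
      obtain ⟨χ, rfl⟩ := Triangle.yoneda_exact₃ _ hT φ h1
      let e := (shiftFunctorCompIsoId _ (j - 1) (1 - j) (by omega)).app (Pt x' hx')
      obtain ⟨χ', hχ⟩ := (shiftFunctor _ (1 : ℤ)).map_surjective
        (χ ≫ (shiftFunctorAdd' _ (j - 1) 1 j (by omega)).hom.app (Pt x' hx'))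
      obtain ⟨ψ, hψ⟩ := (hb x' hx' hc' (j - 1)).2 χ'
      have h2 : χ = χ'⟦(1 : ℤ)⟧' ≫ (shiftFunctorAdd' _ (j - 1) 1 j (by omega)).inv.app (Pt x' hx') := by
        rw [hχ, Category.assoc, Iso.hom_inv_id_app, Category.comp_id]
      show d ≫ χ = 0
      rw [h2, ← hψ, Functor.map_comp, Category.assoc, reassoc_of% h3, zero_comp]
    exact (Triangle.isZero₃_iff_isIso₁ _ hT).1 hz
  have hbij : ∀ (x : X) (hx : DCoh.IsPerfect (O' X x)), IsClosed ({x} : Set X) →
      ∀ M, Bij F (Pt x hx) M := fun x hx hc M => by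
    haveI := hε x hx hc
    have : (fun f : Pt x hx ⟶ M => F.map f) = (a.homEquiv _ _) ∘ fun f => a.counit.app (Pt x hx) ≫ f := by
      funext f
      refine ((a.homEquiv _ _).symm.injective ?_)
      simp only [Function.comp_apply, Equiv.symm_apply_apply]
      exact (a.homEquiv_counit _ _ _).trans (a.counit.naturality f)
    show Function.Bijective fun f : Pt x hx ⟶ M => F.map f
    exact this ▸ (Equiv.bijective _).comp
      (Iso.homCongr (asIso (a.counit.app (Pt x hx))).symm (Iso.refl M) |>.bijective |> fun hb => by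
        convert hb using 1
        funext f
        simp)
  haveI : ∀ M, IsIso (b.unit.app M) := fun M => by
    obtain ⟨C, g, d, hT⟩ := distinguished_cocone_triangle (b.unit.app M)
    have hb : ∀ (x : X) (hx : DCoh.IsPerfect (O' X x)), IsClosed ({x} : Set X) → ∀ (j : ℤ),
        Function.Bijective fun f : (Pt x hx)⟦j⟧ ⟶ M => f ≫ b.unit.app M := fun x hx hc j => by
      have : (fun f : (Pt x hx)⟦j⟧ ⟶ M => f ≫ b.unit.app M) = (b.homEquiv _ _) ∘ fun f => F.map f := by
        funext f
        exact ((b.homEquiv_unit _ _ _).trans (b.unit.naturality f).symm).symm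
      exact this ▸ (Equiv.bijective _).comp (Bij.shift_left (hbij x hx hc) j M)
    have hz : IsZero C := isZero_of_orth_from k hreg C fun x hx hc j φ => by
      let e := (shiftFunctorAdd' _ j (-1) (j - 1) (by omega)).app (Pt x hx)
      have h1 : φ ≫ d = 0 := by
        apply (shiftFunctor _ (-1 : ℤ)).map_injective
        rw [Functor.map_zero, ← cancel_epi e.hom,
          ← cancel_mono ((shiftFunctorCompIsoId _ (1 : ℤ) (-1) (by omega)).hom.app M), comp_zero, zero_comp]
        refine (hb x hx hc (j - 1)).1 ?_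
        show (_ ≫ _) ≫ b.unit.app M = 0 ≫ b.unit.app M
        rw [zero_comp, Functor.map_comp, Category.assoc, Category.assoc, Category.assoc]
        have hn := (shiftFunctorCompIsoId _ (1 : ℤ) (-1) (by omega)).hom.naturality (b.unit.app M)
        simp only [Functor.comp_map, Functor.id_map] at hn
        erw [← hn, ← Functor.map_comp_assoc (shiftFunctor _ (-1 : ℤ)) d,
          show d ≫ (b.unit.app M)⟦(1 : ℤ)⟧' = 0 from comp_distTriang_mor_zero₃₁ _ hT]
        simp
      obtain ⟨χ, rfl⟩ := Triangle.coyoneda_exact₃ _ hT φ h1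
      obtain ⟨ψ, hψ⟩ := (hb x hx hc j).2 χ
      show χ ≫ g = 0
      have h0 : b.unit.app M ≫ g = 0 := comp_distTriang_mor_zero₁₂ _ hT
      rw [← show ψ ≫ b.unit.app M = χ from hψ, Category.assoc, h0, comp_zero]
    exact (Triangle.isZero₃_iff_isIso₁ _ hT).1 hz
  haveI : IsIso b.unit := NatIso.isIso_of_isIso_app _
  haveI := b.fullyFaithfulLOfIsIsoUnit
  exact ⟨this.full, this.faithful⟩

end Groth.Agent.DEqLib.Sib.PointTest

namespace Groth.Agent.DEqLib.Sib.PointTest

variable {X : Scheme.{u}}

/-- The point sheaf is supported at the point. -/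
theorem support_point (x : X) (hx : IsClosed ({x} : Set X)) :
    CohB1.support ((Coh.push (X.fromSpecResidueField x)).obj (Coh.structureModule _)) = {x} := by
  obtain ⟨N, hN, -, ⟨e⟩⟩ := PointSheaf.exists_sky_point x
  refine Set.Subset.antisymm ?_ (Set.singleton_subset_iff.2 fun hs => ?_)
  · haveI := AlgSpDec.isClosedImmersion_fromSpecResidueField hx
    refine (QCoh.support_push_subset (X.fromSpecResidueField x) QCoh.isQCoh_structureModule).trans ?_
    rw [Scheme.range_fromSpecResidueField]
  · have hz : IsZero ((DerSch.stalkFunctor X x).obj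
        ((Coh.push (X.fromSpecResidueField x)).obj (Coh.structureModule _))) :=
      (GeoPoint.notMem_support_iff _ x).1 (fun h => h hs)
    haveI : Subsingleton N := ModuleCat.subsingleton_of_isZero (hz.of_iso
      (((DerSch.stalkFunctor X x).mapIso e) ≪≫ (KFlatLib.skyStalkIso x).app N).symm)
    exact not_nontrivial N hN

variable (k : Type u) [Field k] [X.Over (Spec (CommRingCat.of k))]
  [IsProper (X ↘ Spec (CommRingCat.of k))] [(SGA6.perfP X).IsTriangulated]
  {Y : Scheme.{u}} [Y.Over (Spec (CommRingCat.of k))] [IsProper (Y ↘ Spec (CommRingCat.of k))]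
  [(SGA6.perfP Y).IsTriangulated]
  (F : (SGA6.perfP X).FullSubcategory ⥤ (SGA6.perfP Y).FullSubcategory) [F.Additive] [F.Linear k]
  [F.CommShift ℤ] [F.IsTriangulated]
  (G : (SGA6.perfP X).FullSubcategory ⥤ (SGA6.perfP Y).FullSubcategory) [G.Additive] [G.Linear k]
  [G.CommShift ℤ] [G.IsTriangulated]

include k in
theorem essImage_of_agree (hreg : Models.IsRegularScheme X)
    (h1 : ∀ (M : X.Modules), Coh.IsCoh M → (CohB1.support M).Finite → (CohB1.support M).Nonempty →
        (∀ x ∈ CohB1.support M, IsClosed ({x} : Set X)) →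
        ∀ (hM : DCoh.IsPerfect (DCoh.inD X M)),
          Nonempty (F.obj ⟨DCoh.inD X M, hM⟩ ≅ G.obj ⟨DCoh.inD X M, hM⟩))
    [F.Full] [F.Faithful] (M : (SGA6.perfP X).FullSubcategory) : F.essImage (G.obj M) := by
  haveI := Adjoints.isLeftAdjoint k X Y F hreg
  haveI := Adjoints.isLeftAdjoint k X Y G hreg
  haveI : IsLocallyNoetherian X := LocallyOfFiniteType.isLocallyNoetherian (X ↘ Spec (CommRingCat.of k))
  haveI : CompactSpace X := (quasiCompact_iff_compactSpace (X ↘ Spec (CommRingCat.of k))).1 inferInstance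
  haveI : IsNoetherian X := ⟨⟩
  let b := Adjunction.ofIsLeftAdjoint F
  let c := Adjunction.ofIsLeftAdjoint G
  obtain ⟨C, g, d, hT⟩ := distinguished_cocone_triangle (b.counit.app (G.obj M))
  have h0 : b.counit.app (G.obj M) ≫ g = 0 := comp_distTriang_mor_zero₁₂ _ hT
  have h3 : d ≫ (b.counit.app (G.obj M))⟦(1 : ℤ)⟧' = 0 := comp_distTriang_mor_zero₃₁ _ hT
  have hb : ∀ A, Function.Bijective fun f : F.obj A ⟶ F.obj (F.rightAdjoint.obj (G.obj M)) =>
      f ≫ b.counit.app (G.obj M) := fun A => by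
    have : (fun f : F.obj A ⟶ F.obj (F.rightAdjoint.obj (G.obj M)) => f ≫ b.counit.app (G.obj M)) =
        (b.homEquiv _ _).symm ∘ (Functor.FullyFaithful.ofFullyFaithful F).homEquiv.symm := by
      funext f
      obtain ⟨f, rfl⟩ := F.map_surjective f
      simp only [Function.comp_apply, Functor.FullyFaithful.homEquiv, Equiv.coe_fn_symm_mk,
        Functor.FullyFaithful.preimage_map]
      exact (b.homEquiv_counit _ _ _).symm
    rw [this]
    exact (Equiv.bijective _).comp (Equiv.bijective _)
  have horth : ∀ A (φ : F.obj A ⟶ C), φ = 0 := fun A φ => by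
    have h1 : φ ≫ d = 0 := by
      apply (shiftFunctor _ (-1 : ℤ)).map_injective
      rw [Functor.map_zero, ← cancel_epi ((F.commShiftIso (-1 : ℤ)).hom.app A),
        ← cancel_mono ((shiftFunctorCompIsoId _ (1 : ℤ) (-1) (by omega)).hom.app
          (F.obj (F.rightAdjoint.obj (G.obj M)))), comp_zero, zero_comp]
      refine (hb (A⟦(-1 : ℤ)⟧)).1 ?_
      show (_ ≫ _) ≫ b.counit.app (G.obj M) = 0 ≫ b.counit.app (G.obj M)
      rw [zero_comp, Functor.map_comp, Category.assoc, Category.assoc, Category.assoc]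
      have hn := (shiftFunctorCompIsoId _ (1 : ℤ) (-1) (by omega)).hom.naturality (b.counit.app (G.obj M))
      simp only [Functor.comp_map, Functor.id_map] at hn
      erw [← hn, ← Functor.map_comp_assoc (shiftFunctor _ (-1 : ℤ)) d, h3]
      simp
    obtain ⟨χ, rfl⟩ := Triangle.coyoneda_exact₃ _ hT φ h1
    obtain ⟨ψ, hψ⟩ := (hb A).2 χ
    show χ ≫ g = 0
    rw [← show ψ ≫ b.counit.app (G.obj M) = χ from hψ, Category.assoc, h0, comp_zero]
  have hS : IsZero (G.rightAdjoint.obj C) := isZero_of_orth_from k hreg _ fun x hx hc j φ => by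
    apply (c.homEquiv _ _).symm.injective
    haveI := AlgSpDec.isClosedImmersion_fromSpecResidueField hc
    obtain ⟨e⟩ := h1 _ (QCoh.isCoh_push_structure (X.fromSpecResidueField x))
      (by rw [support_point x hc]; exact Set.finite_singleton x)
      (by rw [support_point x hc]; exact Set.singleton_nonempty x)
      (by rw [support_point x hc]; rintro y rfl; exact hc) hx
    let e' : F.obj ((Pt x hx)⟦j⟧) ≅ G.obj ((Pt x hx)⟦j⟧) :=
      (F.commShiftIso j).app (Pt x hx) ≪≫ (shiftFunctor _ j).mapIso e ≪≫ ((G.commShiftIso j).app (Pt x hx)).symm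
    rw [← cancel_epi e'.hom, horth _ (e'.hom ≫ _), horth _ (e'.hom ≫ _)]
  have hg : g = 0 := (c.homEquiv _ _).injective (hS.eq_of_tgt _ _)
  obtain ⟨r, hr⟩ := Triangle.yoneda_exact₂ _ (rot_of_distTriang _ hT) (𝟙 C)
    (show g ≫ 𝟙 C = 0 by rw [hg, zero_comp])
  have hz : IsZero C := by
    rw [IsZero.iff_id_eq_zero, hr]
    have : r = 0 := by
      rw [← cancel_epi ((F.commShiftIso (1 : ℤ)).hom.app (F.rightAdjoint.obj (G.obj M))), comp_zero]
      exact horth _ _
    rw [this, comp_zero]
  haveI : IsIso (b.counit.app (G.obj M)) := (Triangle.isZero₃_iff_isIso₁ _ hT).1 hz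
  exact ⟨_, ⟨asIso (b.counit.app (G.obj M))⟩⟩

end Groth.Agent.DEqLib.Sib.PointTest
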