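import Groth.Agent.DEqLib.Sib.CompactSmall
import Groth.Agent.DEqLib.Sib.LinCompact
import Mathlib.Algebra.Category.ModuleCat.Basic
import Mathlib.CategoryTheory.Linear.Yoneda
import Mathlib.CategoryTheory.Linear.LinearFunctor

/-! Finite-dimensional cohomological functors on compact objects are representable. -/

universe w v u

open CategoryTheory Category Limits Pretriangulated ZeroObject Opposite
open Pretriangulated.Opposite
open Groth.Agent.TriCat

namespace Groth.Agent.DEqLib.Sib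

variable (D : Type u) [Category.{v} D] [Preadditive D] [HasCoproducts.{v} D]

/-- The category of compact objects. -/
abbrev Cpt := ObjectProperty.FullSubcategory (fun K : D => CohDer.IsCompactObject K)

variable {D} {k : Type w} [Field k] (H : (Cpt D)ᵒᵖ ⥤ ModuleCat.{v} k)

/-- Restriction of an element. -/
def rs {K L : Cpt D} (g : K ⟶ L) (y : H.obj (op L)) : H.obj (op K) := H.map g.op y

lemma rs_id {K : Cpt D} (y : H.obj (op K)) : rs H (𝟙 K) y = y := by simp [rs]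

lemma rs_comp {K L M : Cpt D} (g : K ⟶ L) (h : L ⟶ M) (y : H.obj (op M)) :
    rs H (g ≫ h) y = rs H g (rs H h y) := by simp [rs]

lemma rs_add [H.Additive] {K L : Cpt D} (g g' : K ⟶ L) (y : H.obj (op L)) :
    rs H (g + g') y = rs H g y + rs H g' y := by simp [rs]

lemma rs_sub [H.Additive] {K L : Cpt D} (g g' : K ⟶ L) (y : H.obj (op L)) :
    rs H (g - g') y = rs H g y - rs H g' y := by
  rw [eq_sub_iff_add_eq, ← rs_add, sub_add_cancel]

lemma rs_sum [H.Additive] {K L : Cpt D} {J : Type*} (s : Finset J) (g : J → (K ⟶ L))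
    (y : H.obj (op L)) : rs H (∑ j ∈ s, g j) y = ∑ j ∈ s, rs H (g j) y := by
  classical
  induction s using Finset.induction_on with
  | empty => simp [rs]
  | insert a s ha ih => simp [Finset.sum_insert ha, rs_add, ih]

/-- A natural family: an element of `H'(X)`. -/
@[ext]
structure Fam (X : D) : Type max u v where
  app : ∀ (K : Cpt D), (K.obj ⟶ X) → H.obj (op K)
  nat : ∀ {K L : Cpt D} (g : K ⟶ L) (f : L.obj ⟶ X), app K (g.hom ≫ f) = rs H g (app L f)

namespace Fam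

variable {H} {X : D}

instance : Zero (Fam H X) := ⟨⟨fun _ _ => 0, fun g f => by simp [rs]⟩⟩
instance : Add (Fam H X) :=
  ⟨fun η θ => ⟨fun K f => η.app K f + θ.app K f, fun g f => by simp [η.nat, θ.nat, rs]⟩⟩
instance : Neg (Fam H X) :=
  ⟨fun η => ⟨fun K f => -η.app K f, fun g f => by simp [η.nat, rs]⟩⟩

instance : AddCommGroup (Fam H X) where
  add_assoc η θ ρ := Fam.ext (funext fun _ => funext fun _ => add_assoc _ _ _)
  zero_add η := Fam.ext (funext fun _ => funext fun _ => zero_add _)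
  add_zero η := Fam.ext (funext fun _ => funext fun _ => add_zero _)
  neg_add_cancel η := Fam.ext (funext fun _ => funext fun _ => neg_add_cancel _)
  add_comm η θ := Fam.ext (funext fun _ => funext fun _ => add_comm _ _)
  nsmul := nsmulRec
  zsmul := zsmulRec

/-- Pullback of families. -/
def pull {X Y : D} (φ : X ⟶ Y) : Fam H Y →+ Fam H X where
  toFun η := ⟨fun K f => η.app K (f ≫ φ), fun g f => by simp [← η.nat]⟩
  map_zero' := rfl
  map_add' _ _ := rfl

lemma small (hs : ObjectProperty.EssentiallySmall.{v} (fun K : D => CohDer.IsCompactObject K))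
    (X : D) : Small.{v} (Fam H X) := by
  obtain ⟨Q, _, h₁, h₂⟩ := ObjectProperty.EssentiallySmall.exists_small_le.{v}
    (fun K : D => CohDer.IsCompactObject K)
  let ρ : Subtype Q → Cpt D := fun r => ⟨r.1, h₁ _ r.2⟩
  refine small_of_injective (f := fun (η : Fam H X) (r : Subtype Q) => η.app (ρ r))
    fun η θ hh => Fam.ext (funext fun K => funext fun f => ?_)
  obtain ⟨Y, hY, ⟨e⟩⟩ := h₂ _ K.property
  let g : K ⟶ ρ ⟨Y, hY⟩ := ObjectProperty.homMk e.hom
  have hf : g.hom ≫ (e.inv ≫ f) = f := e.hom_inv_id_assoc f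
  rw [← hf, η.nat, θ.nat]
  exact congrArg (rs H g) (congrFun (congrFun hh ⟨Y, hY⟩) _)

end Fam

section

variable [HasZeroObject D] [HasShift D ℤ]
  [∀ n : ℤ, (shiftFunctor D n).Additive] [Pretriangulated D]

lemma isCompactObject_biproduct {J : Type} [Finite J] (K : J → D) [HasBiproduct K]
    (h : ∀ j, CohDer.IsCompactObject (K j)) : CohDer.IsCompactObject (⨁ K) := by
  classical
  cases nonempty_fintype J
  rw [isCompactObject_iff]
  intro ι X f
  have hf : f = ∑ j, biproduct.π K j ≫ (biproduct.ι K j ≫ f) := by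
    simp_rw [← assoc, ← Preadditive.sum_comp, biproduct.total, id_comp]
  rw [hf]
  exact Finset.sum_induction _ FinFactor (fun _ _ => FinFactor.add) FinFactor.zero
    fun j _ => ((isCompactObject_iff _).1 (h j) ι X _).precomp _

variable {H}

lemma exists_biprod {J : Type} [Finite J] (K : J → Cpt D) :
    ∃ (M : Cpt D) (i : ∀ j, K j ⟶ M),
      (∀ (X : D) (f : ∀ j, (K j).obj ⟶ X), ∃ φ : M.obj ⟶ X, ∀ j, (i j).hom ≫ φ = f j) ∧
      ∀ (X : D) (φ φ' : M.obj ⟶ X), (∀ j, (i j).hom ≫ φ = (i j).hom ≫ φ') → φ = φ' := by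
  classical
  have := HasFiniteBiproducts.of_hasFiniteProducts (C := D)
  exact ⟨⟨⨁ fun j => (K j).obj, isCompactObject_biproduct _ fun j => (K j).property⟩,
    fun j => ObjectProperty.homMk (biproduct.ι (fun j => (K j).obj) j),
    fun X f => ⟨biproduct.desc f, fun j => biproduct.ι_desc _ _⟩,
    fun X φ φ' h => biproduct.hom_ext' _ _ h⟩

variable [H.Additive]

lemma Fam.app_add {X : D} (η : Fam H X) (K : Cpt D) (f f' : K.obj ⟶ X) :
    η.app K (f + f') = η.app K f + η.app K f' := by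
  obtain ⟨M, i, hd, -⟩ := exists_biprod (fun _ : Bool => K)
  obtain ⟨φ, hφ⟩ := hd X (fun b => if b then f else f')
  have h1 : (i true).hom ≫ φ = f := hφ true
  have h2 : (i false).hom ≫ φ = f' := hφ false
  have h3 : (i true + i false).hom ≫ φ = f + f' := by
    rw [← h1, ← h2, ← Preadditive.add_comp]; rfl
  rw [← h3, η.nat, rs_add, ← η.nat, ← η.nat, h1, h2]

/-- The additive map underlying a family. -/
def Fam.hom {X : D} (η : Fam H X) (K : Cpt D) : (K.obj ⟶ X) →+ H.obj (op K) :=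
  AddMonoidHom.mk' (η.app K) (η.app_add K)

variable (H) in
/-- `H` is exact on distinguished triangles of compact objects. -/
def IsCohom : Prop :=
  ∀ T ∈ distTriang D, ∀ (h₁ : CohDer.IsCompactObject T.obj₁)
    (h₂ : CohDer.IsCompactObject T.obj₂) (h₃ : CohDer.IsCompactObject T.obj₃)
    (y : H.obj (op ⟨T.obj₂, h₂⟩)),
    rs H (ObjectProperty.homMk T.mor₁ : (⟨T.obj₁, h₁⟩ : Cpt D) ⟶ ⟨T.obj₂, h₂⟩) y = 0 →
      ∃ z : H.obj (op ⟨T.obj₃, h₃⟩),
        rs H (ObjectProperty.homMk T.mor₂ : (⟨T.obj₂, h₂⟩ : Cpt D) ⟶ ⟨T.obj₃, h₃⟩) z = y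

lemma exists_rs_eq [IsTriangulated D] (hcoh : IsCohom H) {L M : Cpt D} (m : L ⟶ M)
    (y : H.obj (op L)) (hy : ∀ (K : Cpt D) (l : K ⟶ L), l ≫ m = 0 → rs H l y = 0) :
    ∃ x, rs H m x = y := by
  obtain ⟨A, p, q, hT⟩ := Pretriangulated.distinguished_cocone_triangle₁ m.hom
  have hA : CohDer.IsCompactObject A :=
    ObjectProperty.ext_of_isTriangulatedClosed₁ (fun K : D => CohDer.IsCompactObject K) _
      hT L.property M.property
  exact hcoh _ hT hA L.property M.property y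
    (hy ⟨A, hA⟩ (ObjectProperty.homMk p)
      (ObjectProperty.hom_ext _ (comp_distTriang_mor_zero₁₂ _ hT)))

variable [∀ X, Module.Finite k (H.obj X)] [IsTriangulated D]

lemma Fam.exists_extension (hcoh : IsCohom H) {B C : D} (g : B ⟶ C) (η : Fam H B)
    (hη : ∀ (K : Cpt D) (b : K.obj ⟶ B), b ≫ g = 0 → η.app K b = 0) :
    ∃ θ : Fam H C, Fam.pull g θ = η := by
  classical
  let I := Σ K : Cpt D, (K.obj ⟶ C)
  let E : I → Type v := fun p => H.obj (op p.1)
  let A₁ := Σ (q : I) (K : Cpt D) (_ : K ⟶ q.1), Module.Dual k (H.obj (op K))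
  let A₂ := Σ (K : Cpt D) (_ : K.obj ⟶ B), Module.Dual k (H.obj (op K))
  let W₁ : A₁ → Π₀ p : I, Module.Dual k (E p) := fun a =>
    DFinsupp.single a.1 (a.2.2.2 ∘ₗ (H.map a.2.2.1.op).hom) -
      DFinsupp.single (⟨a.2.1, a.2.2.1.hom ≫ a.1.2⟩ : I) a.2.2.2
  let W₂ : A₂ → Π₀ p : I, Module.Dual k (E p) := fun a =>
    DFinsupp.single (⟨a.1, a.2.1 ≫ g⟩ : I) a.2.2
  have eval₁ : ∀ (x : ∀ p, E p) (a : A₁),
      DFinsupp.lsum k (fun p => Module.Dual.eval k (E p) (x p)) (W₁ a) =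
        a.2.2.2 (rs H a.2.2.1 (x a.1)) - a.2.2.2 (x ⟨a.2.1, a.2.2.1.hom ≫ a.1.2⟩) := by
    intro x a
    refine (map_sub (DFinsupp.lsum k fun p => Module.Dual.eval k (E p) (x p)) _ _).trans ?_
    congr 1 <;> exact DFinsupp.lsum_single _ _ _ _
  have eval₂ : ∀ (x : ∀ p, E p) (a : A₂),
      DFinsupp.lsum k (fun p => Module.Dual.eval k (E p) (x p)) (W₂ a) =
        a.2.2 (x ⟨a.1, a.2.1 ≫ g⟩) := by
    intro x a
    simp only [W₂, DFinsupp.lsum_single]
    rfl
  obtain ⟨x, hx⟩ := linear_compactness (Sum.elim W₁ W₂)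
    (Sum.elim (fun _ => 0) fun a => a.2.2 (η.app a.1 a.2.1)) (fun s => by
    let s₁ := s.toLeft
    let s₂ := s.toRight
    let src : s₁ → I := fun a => ⟨a.1.2.1, a.1.2.2.1.hom ≫ a.1.1.2⟩
    let u : Finset I := (s₁.image fun a => a.1) ∪ Finset.univ.image src ∪
      (s₂.image fun a => (⟨a.1, a.2.1 ≫ g⟩ : I))
    have m₁ : ∀ a : s₁, a.1.1 ∈ u := fun a =>
      Finset.mem_union_left _ (Finset.mem_union_left _ (Finset.mem_image_of_mem _ a.2))
    have m₁' : ∀ a : s₁, src a ∈ u := fun a =>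
      Finset.mem_union_left _ (Finset.mem_union_right _ (Finset.mem_image_of_mem _ (Finset.mem_univ _)))
    have m₂ : ∀ a : s₂, (⟨a.1.1, a.1.2.1 ≫ g⟩ : I) ∈ u := fun a =>
      Finset.mem_union_right _ (Finset.mem_image_of_mem _ a.2)
    let eu : Fin (Fintype.card u) ≃ u := (Fintype.equivFin u).symm
    obtain ⟨M, i', hdM, -⟩ := exists_biprod (fun n => (eu n).1.1)
    obtain ⟨c, hc'⟩ := hdM C (fun n => (eu n).1.2)
    have hι : ∀ p : u, ∃ i : p.1.1 ⟶ M, i.hom ≫ c = p.1.2 := by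
      intro p
      obtain ⟨n, rfl⟩ := eu.surjective p
      exact ⟨i' n, hc' n⟩
    choose i hi using hι
    let mm : s₁ ⊕ s₂ → Cpt D := Sum.elim (fun a => a.1.2.1) (fun a => a.1.1)
    let lm : ∀ j, mm j ⟶ M := Sum.rec
      (fun a => a.1.2.2.1 ≫ i ⟨_, m₁ a⟩ - i ⟨_, m₁' a⟩) (fun a => i ⟨_, m₂ a⟩)
    let lb : ∀ j, (mm j).obj ⟶ B := Sum.rec (fun a => 0) (fun a => a.1.2.1)
    have hlm : ∀ j, (lm j).hom ≫ c = lb j ≫ g := by
      rintro (a | a)
      · show ((a.1.2.2.1 ≫ i ⟨_, m₁ a⟩).hom - (i ⟨_, m₁' a⟩).hom) ≫ c = 0 ≫ g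
        rw [Preadditive.sub_comp, zero_comp, ObjectProperty.FullSubcategory.comp_hom, assoc,
          hi, hi, sub_self]
      · exact hi _
    let ej : Fin (Fintype.card (s₁ ⊕ s₂)) ≃ s₁ ⊕ s₂ := (Fintype.equivFin _).symm
    obtain ⟨L, jn, hdL, hextL⟩ := exists_biprod (fun n => mm (ej n))
    obtain ⟨b, hb'⟩ := hdL B (fun n => lb (ej n))
    obtain ⟨m0, hm0⟩ := hdL M.obj (fun n => (lm (ej n)).hom)
    let m : L ⟶ M := ObjectProperty.homMk m0
    obtain ⟨xM, hxM⟩ := exists_rs_eq hcoh m (η.app L b) (fun K l hl => by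
      rw [← η.nat]
      refine hη K _ ?_
      have key : m0 ≫ c = b ≫ g := hextL _ _ _ fun n => by
        rw [← assoc, hm0, hlm, ← assoc, hb']
      rw [assoc, ← key, ← assoc]
      rw [show l.hom ≫ m0 = 0 from congrArg InducedCategory.Hom.hom hl, zero_comp])
    refine ⟨fun p => if h : p ∈ u then rs H (i ⟨p, h⟩) xM else 0, ?_⟩
    have hval : ∀ j, rs H (lm j) xM = η.app (mm j) (lb j) := by
      intro j
      obtain ⟨n, rfl⟩ := ej.surjective j
      rw [← hb' n, η.nat, ← hxM, ← rs_comp]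
      congr 1
      exact ObjectProperty.hom_ext _ (hm0 n).symm
    rintro (a | a) ha
    · have ha' : a ∈ s₁ := Finset.mem_toLeft.2 ha
      simp only [Sum.elim_inl, eval₁, dif_pos (m₁ ⟨a, ha'⟩)]
      rw [dif_pos (show (⟨a.2.1, a.2.2.1.hom ≫ a.1.2⟩ : I) ∈ u from m₁' ⟨a, ha'⟩), ← map_sub]
      convert map_zero a.2.2.2
      have := hval (Sum.inl ⟨a, ha'⟩)
      rw [show η.app (mm (Sum.inl ⟨a, ha'⟩)) (lb (Sum.inl ⟨a, ha'⟩)) = 0 from
        (η.hom _).map_zero] at this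
      change rs H (a.2.2.1 ≫ i ⟨_, m₁ ⟨a, ha'⟩⟩ - i ⟨_, m₁' ⟨a, ha'⟩⟩) xM = 0 at this
      rw [rs_sub, rs_comp] at this
      exact this
    · have ha' : a ∈ s₂ := Finset.mem_toRight.2 ha
      simp only [Sum.elim_inr, eval₂, dif_pos (m₂ ⟨a, ha'⟩)]
      exact congrArg a.2.2 (hval (Sum.inr ⟨a, ha'⟩)))
  refine ⟨⟨fun K f => x ⟨K, f⟩, fun {K L} m f => ?_⟩, ?_⟩
  · refine Eq.symm (sub_eq_zero.1 ((Module.forall_dual_apply_eq_zero_iff k _).1 fun ψ => ?_))
    have := hx (Sum.inl (⟨⟨L, f⟩, K, m, ψ⟩ : A₁))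
    simp only [Sum.elim_inl, eval₁] at this
    rw [map_sub]
    exact this
  · refine Fam.ext (funext fun K => funext fun b => ?_)
    refine sub_eq_zero.1 ((Module.forall_dual_apply_eq_zero_iff k _).1 fun ψ => ?_)
    have := hx (Sum.inr (⟨K, b, ψ⟩ : A₂))
    simp only [Sum.elim_inr, eval₂] at this
    rw [map_sub, sub_eq_zero]
    exact this

end

end Groth.Agent.DEqLib.Sib
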