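import Groth.Agent.H9Misc.SerreRep

/-!
# Serre functors are exact

The comparison `S (X⟦1⟧) ≅ (S X)⟦1⟧` is the one for which the trace of `u⟦1⟧'` is minus the trace of
`u`; with it the image of a distinguished triangle is distinguished (Bondal-Kapranov).
-/

set_option linter.unusedSectionVars false

universe w v u

open CategoryTheory CategoryTheory.Limits CategoryTheory.Pretriangulated

namespace Groth.Agent.DEqLib.Sib.SerreExact

open Groth.Agent.H9Misc.SerreRep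

variable {k : Type w} [Field k] {T : Type u} [Category.{v} T] [Preadditive T] [Linear k T]
  [HasShift T ℤ] [∀ n : ℤ, (shiftFunctor T n).Additive] [∀ n : ℤ, (shiftFunctor T n).Linear k]
  [∀ X Y : T, Module.Finite k (X ⟶ Y)]
  (S : T ⥤ T) (c : ∀ X Y : T, (X ⟶ Y) ≃ₗ[k] Module.Dual k (Y ⟶ S.obj X))
  (hc₁ : ∀ (X Y Y' : T) (f : X ⟶ Y) (g : Y ⟶ Y'),
    c X Y' (f ≫ g) = (c X Y f) ∘ₗ Linear.leftComp k (S.obj X) g)
  (hc₂ : ∀ (X' X Y : T) (a : X' ⟶ X) (f : X ⟶ Y),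
    c X' Y (a ≫ f) = (c X Y f) ∘ₗ Linear.rightComp k Y (S.map a))

/-- The trace of a Serre functor. -/
noncomputable abbrev tr (X : T) : (X ⟶ S.obj X) →ₗ[k] k := trace S.obj c X

include hc₁ hc₂ in
lemma tr_comp_map {X' X : T} (a : X' ⟶ X) (u : X ⟶ S.obj X') :
    tr S c X' (a ≫ u) = tr S c X (u ≫ S.map a) := by
  obtain ⟨f, ψ, rfl⟩ : ∃ (f : X ⟶ S.obj X') (ψ : S.obj X' ⟶ S.obj X'), f ≫ ψ = u :=
    ⟨u, 𝟙 _, Category.comp_id u⟩
  rw [← Category.assoc, trace_comp S.obj c hc₁, hc₂, Category.assoc, trace_comp S.obj c hc₁]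
  rfl

/-- Minus the trace, transported to the shift. -/
noncomputable def shTr (X : T) : ((X⟦(1 : ℤ)⟧) ⟶ (S.obj X)⟦(1 : ℤ)⟧) →ₗ[k] k where
  toFun v := - tr S c X ((shiftFunctor T (1 : ℤ)).preimage v)
  map_add' a b := by
    rw [show (shiftFunctor T (1 : ℤ)).preimage (a + b) = (shiftFunctor T (1 : ℤ)).preimage a +
      (shiftFunctor T (1 : ℤ)).preimage b from (shiftFunctor T (1 : ℤ)).map_injective (by simp),
      map_add, neg_add]
  map_smul' r a := by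
    rw [show (shiftFunctor T (1 : ℤ)).preimage (r • a) = r • (shiftFunctor T (1 : ℤ)).preimage a
      from (shiftFunctor T (1 : ℤ)).map_injective (by simp [Functor.map_smul]), map_smul]
    simp

lemma shTr_map {X : T} (u : X ⟶ S.obj X) : shTr S c X (u⟦(1 : ℤ)⟧') = - tr S c X u := by
  simp [shTr]

include hc₁ in
lemma isRep_shTr (X : T) : IsRep (shTr S c X) := by
  intro Y
  have hr := isRep_trace S.obj c hc₁ X
  let a : (Y⟦(-1 : ℤ)⟧)⟦(1 : ℤ)⟧ ≅ Y := (shiftFunctorCompIsoId T (-1 : ℤ) 1 (by norm_num)).app Y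
  refine ⟨(injective_iff_map_eq_zero _).2 fun f hf => ?_, fun s => ?_⟩
  · obtain ⟨f₀, hf₀⟩ := (shiftFunctor T (1 : ℤ)).map_surjective (a.hom ≫ f)
    have h0 : f₀ = 0 := hr.ext (fun x => by
      have := LinearMap.congr_fun hf (x⟦(1 : ℤ)⟧' ≫ a.hom)
      rw [LinearMap.zero_apply, pairing_apply, Category.assoc, ← hf₀, ← Functor.map_comp,
        shTr_map, neg_eq_zero] at this
      rw [this, comp_zero, map_zero])
    subst h0
    rw [Functor.map_zero] at hf₀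
    exact (cancel_epi a.hom).1 (hf₀.symm.trans comp_zero.symm)
  · let s₀ : (X ⟶ Y⟦(-1 : ℤ)⟧) →ₗ[k] k :=
      - (s ∘ₗ Linear.rightComp k _ a.hom ∘ₗ (shiftFunctor T (1 : ℤ)).mapLinearMap k)
    obtain ⟨f₀, hf₀⟩ := hr.exists_hom s₀
    refine ⟨a.inv ≫ f₀⟦(1 : ℤ)⟧', LinearMap.ext fun x => ?_⟩
    obtain ⟨x₀, hx₀⟩ := (shiftFunctor T (1 : ℤ)).map_surjective (x ≫ a.inv)
    rw [pairing_apply, ← Category.assoc, ← hx₀, ← Functor.map_comp, shTr_map, hf₀]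
    have : x = x₀⟦(1 : ℤ)⟧' ≫ a.hom := by rw [hx₀, Category.assoc, Iso.inv_hom_id, Category.comp_id]
    simp [s₀, this, Functor.mapLinearMap]

include hc₁ in
lemma exists_iso (X : T) : ∃ e : S.obj (X⟦(1 : ℤ)⟧) ≅ (S.obj X)⟦(1 : ℤ)⟧,
    ∀ x, shTr S c X (x ≫ e.hom) = tr S c (X⟦(1 : ℤ)⟧) x :=
  (isRep_trace S.obj c hc₁ (X⟦(1 : ℤ)⟧)).exists_iso (isRep_shTr S c hc₁ X)

include hc₁ hc₂ in
lemma exists_natIso : ∃ e : shiftFunctor T (1 : ℤ) ⋙ S ≅ S ⋙ shiftFunctor T (1 : ℤ),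
    ∀ (X : T) (x : X⟦(1 : ℤ)⟧ ⟶ S.obj (X⟦(1 : ℤ)⟧)),
      shTr S c X (x ≫ e.hom.app X) = tr S c (X⟦(1 : ℤ)⟧) x := by
  choose e he using exists_iso S c hc₁
  refine ⟨NatIso.ofComponents e fun {X' X} a => (isRep_shTr S c hc₁ X).ext fun x => ?_, he⟩
  change shTr S c X (x ≫ S.map (a⟦(1 : ℤ)⟧') ≫ (e X).hom) = shTr S c X (x ≫ (e X').hom ≫ (S.map a)⟦(1 : ℤ)⟧')
  obtain ⟨v, hv⟩ := (shiftFunctor T (1 : ℤ)).map_surjective (x ≫ (e X').hom)
  have h₁ : shTr S c X (x ≫ S.map (a⟦(1 : ℤ)⟧') ≫ (e X).hom) =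
      tr S c (X'⟦(1 : ℤ)⟧) (a⟦(1 : ℤ)⟧' ≫ x) := by
    rw [← Category.assoc, he, ← tr_comp_map S c hc₁ hc₂]
  rw [h₁, ← Category.assoc x, ← hv, ← Functor.map_comp, shTr_map, ← tr_comp_map S c hc₁ hc₂,
    ← he X', Category.assoc, ← hv, ← Functor.map_comp, shTr_map]

include hc₁ hc₂ in
/-- `Hom(W, S -)` is exact at a pair of composable morphisms whose `Hom(-, W)` is. -/
lemma exact_map {P Q R : T} (p : P ⟶ Q) (q : Q ⟶ R)
    (hpq : ∀ (W : T) (v : Q ⟶ W), p ≫ v = 0 → ∃ v' : R ⟶ W, v = q ≫ v')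
    {W : T} (y : W ⟶ S.obj Q) (hy : y ≫ S.map q = 0) : ∃ z : W ⟶ S.obj P, z ≫ S.map p = y := by
  let m : (Q ⟶ W) →ₗ[k] (P ⟶ W) := Linear.leftComp k W p
  let lam : (Q ⟶ W) →ₗ[k] k := tr S c Q ∘ₗ Linear.rightComp k Q y
  have hlam : lam ∈ (LinearMap.ker m).dualAnnihilator := by
    rw [Submodule.mem_dualAnnihilator]
    intro v hv
    obtain ⟨v', rfl⟩ := hpq W v hv
    change tr S c Q ((q ≫ v') ≫ y) = 0
    rw [Category.assoc, tr_comp_map S c hc₁ hc₂, Category.assoc, hy, comp_zero, map_zero]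
  rw [← LinearMap.range_dualMap_eq_dualAnnihilator_ker] at hlam
  obtain ⟨mu, hmu⟩ := hlam
  obtain ⟨z, hz⟩ := (isRep_trace S.obj c hc₁ P).exists_hom mu
  refine ⟨z, (isRep_trace S.obj c hc₁ Q).ext fun v => ?_⟩
  change tr S c Q (v ≫ z ≫ S.map p) = tr S c Q (v ≫ y)
  rw [← Category.assoc, ← tr_comp_map S c hc₁ hc₂]
  rw [← Category.assoc p v z, hz]
  exact LinearMap.congr_fun hmu v

variable [HasZeroObject T] [Pretriangulated T] [IsTriangulated T]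

include hc₁ hc₂ in
/-- A Serre functor sends distinguished triangles to distinguished triangles. -/
theorem exists_commShift_and_map_distinguished [S.Additive] :
    ∃ e : shiftFunctor T (1 : ℤ) ⋙ S ≅ S ⋙ shiftFunctor T (1 : ℤ),
      ∀ T' ∈ distTriang T,
        Triangle.mk (S.map T'.mor₁) (S.map T'.mor₂) (S.map T'.mor₃ ≫ e.hom.app T'.obj₁)
          ∈ distTriang T := by
  obtain ⟨e, he⟩ := exists_natIso S c hc₁ hc₂
  refine ⟨e, fun T' hT' => ?_⟩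
  obtain ⟨C', g', h', hC⟩ := distinguished_cocone_triangle (S.map T'.mor₁)
  let A := T'.obj₁; let B := T'.obj₂; let C := T'.obj₃
  let f : A ⟶ B := T'.mor₁; let g : B ⟶ C := T'.mor₂; let h : C ⟶ A⟦(1 : ℤ)⟧ := T'.mor₃
  let h'' : S.obj C ⟶ (S.obj A)⟦(1 : ℤ)⟧ := S.map h ≫ e.hom.app A
  -- the functional defining the comparison morphism
  let M : (C ⟶ S.obj B) × (A⟦(1 : ℤ)⟧ ⟶ C') →ₗ[k] (C ⟶ C') :=
    (Linear.rightComp k C g').coprod (Linear.leftComp k C' h)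
  let L : (C ⟶ S.obj B) × (A⟦(1 : ℤ)⟧ ⟶ C') →ₗ[k] k :=
    (tr S c B ∘ₗ Linear.leftComp k (S.obj B) g).coprod
      (shTr S c A ∘ₗ Linear.rightComp k (A⟦(1 : ℤ)⟧) h')
  have hL : L ∈ (LinearMap.ker M).dualAnnihilator := by
    rw [Submodule.mem_dualAnnihilator]
    rintro ⟨x, y⟩ hxy
    change x ≫ g' + h ≫ y = 0 at hxy
    change tr S c B (g ≫ x) + shTr S c A (y ≫ h') = 0
    obtain ⟨a, ha₁, ha₂⟩ : ∃ a : B ⟶ S.obj A, g ≫ x = a ≫ S.map f ∧
        (-(f⟦(1 : ℤ)⟧')) ≫ a⟦(1 : ℤ)⟧' = (-y) ≫ h' :=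
      complete_distinguished_triangle_morphism₁ T'.rotate
        (Triangle.mk (S.map T'.mor₁) g' h') (rot_of_distTriang _ hT') hC x (-y) (by
          change h ≫ (-y) = x ≫ g'
          rw [Preadditive.comp_neg, neg_eq_iff_add_eq_zero, add_comm]
          exact hxy)
    rw [Preadditive.neg_comp, Preadditive.neg_comp, neg_inj, ← Functor.map_comp] at ha₂
    rw [← ha₂, shTr_map, ha₁, ← tr_comp_map S c hc₁ hc₂, add_neg_cancel]
  rw [← LinearMap.range_dualMap_eq_dualAnnihilator_ker] at hL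
  obtain ⟨s, hs⟩ := hL
  obtain ⟨φ, hφ⟩ := (isRep_trace S.obj c hc₁ C).exists_hom s
  have sq₁ : g' ≫ φ = S.map g := (isRep_trace S.obj c hc₁ C).ext fun x => by
    rw [← Category.assoc, hφ]
    refine Eq.trans ?_ (tr_comp_map S c hc₁ hc₂ g x)
    have := LinearMap.congr_fun hs (x, 0)
    simpa [M, L] using this
  have sq₂ : φ ≫ h'' = h' := (isRep_shTr S c hc₁ A).ext fun y => by
    rw [show y ≫ φ ≫ h'' = ((y ≫ φ) ≫ S.map h) ≫ e.hom.app A by simp [h''], he,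
      ← tr_comp_map S c hc₁ hc₂, ← Category.assoc]
    refine (hφ (h ≫ y)).trans ?_
    have := LinearMap.congr_fun hs (0, y)
    simpa [M, L] using this
  have hfg : ∀ (W : T) (v : B ⟶ W), f ≫ v = 0 → ∃ v' : C ⟶ W, v = g ≫ v' :=
    fun W v hv => Triangle.yoneda_exact₂ _ hT' v hv
  have hgh : ∀ (W : T) (v : C ⟶ W), g ≫ v = 0 → ∃ v' : A⟦(1 : ℤ)⟧ ⟶ W, v = h ≫ v' :=
    fun W v hv => Triangle.yoneda_exact₃ _ hT' v hv
  have inj : ∀ (W : T) (x : W ⟶ C'), x ≫ φ = 0 → x = 0 := by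
    intro W x hx
    obtain ⟨y, hy⟩ := Triangle.coyoneda_exact₃ _ hC x (by
      change x ≫ h' = 0
      rw [← sq₂, ← Category.assoc, hx, zero_comp])
    change W ⟶ S.obj B at y
    change x = y ≫ g' at hy
    obtain ⟨z, hz⟩ := exact_map S c hc₁ hc₂ f g hfg y (by rw [← sq₁, ← Category.assoc, ← hy, hx])
    rw [hy, ← hz, Category.assoc, show S.map f ≫ g' = 0 from comp_distTriang_mor_zero₁₂ _ hC,
      comp_zero]
  have surj : ∀ (W : T) (v : W ⟶ S.obj C), ∃ x : W ⟶ C', x ≫ φ = v := by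
    intro W v
    obtain ⟨x, hx⟩ := Triangle.coyoneda_exact₁ _ hC (v ≫ h'') (by
      change (v ≫ S.map h ≫ e.hom.app A) ≫ (S.map f)⟦(1 : ℤ)⟧' = 0
      have nat := e.hom.naturality f
      change S.map (f⟦(1 : ℤ)⟧') ≫ e.hom.app B = e.hom.app A ≫ (S.map f)⟦(1 : ℤ)⟧' at nat
      rw [Category.assoc, Category.assoc, ← nat, ← Category.assoc (S.map h), ← S.map_comp,
        show h ≫ f⟦(1 : ℤ)⟧' = 0 from comp_distTriang_mor_zero₃₁ _ hT', S.map_zero, zero_comp,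
        comp_zero])
    change W ⟶ C' at x
    change v ≫ h'' = x ≫ h' at hx
    obtain ⟨y, hy⟩ := exact_map S c hc₁ hc₂ g h hgh (v - x ≫ φ) (by
      rw [← cancel_mono (e.hom.app A), zero_comp, Category.assoc]
      change (v - x ≫ φ) ≫ h'' = 0
      rw [Preadditive.sub_comp, Category.assoc, sq₂, hx, sub_self])
    exact ⟨x + y ≫ g', by rw [Preadditive.add_comp, Category.assoc, sq₁, hy, add_sub_cancel]⟩
  obtain ⟨ψ, hψ⟩ := surj _ (𝟙 (S.obj C))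
  have : IsIso φ := ⟨ψ, sub_eq_zero.1 (inj _ _ (by
    rw [Preadditive.sub_comp, Category.assoc, hψ, Category.comp_id, Category.id_comp, sub_self])), hψ⟩
  refine isomorphic_distinguished _ hC _ (Iso.symm ?_)
  let φI : C' ≅ S.obj C := asIso φ
  refine Triangle.isoMk (Triangle.mk (S.map T'.mor₁) g' h')
    (Triangle.mk (S.map T'.mor₁) (S.map T'.mor₂) (S.map T'.mor₃ ≫ e.hom.app T'.obj₁))
    (Iso.refl _) (Iso.refl _) φI ?_ ?_ ?_
  · exact (Category.comp_id (S.map T'.mor₁)).trans (Category.id_comp (S.map T'.mor₁)).symm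
  · exact sq₁.trans (Category.id_comp (S.map g)).symm
  · exact ((congrArg (h' ≫ ·) (CategoryTheory.Functor.map_id _ _)).trans (Category.comp_id h')).trans sq₂.symm

end Groth.Agent.DEqLib.Sib.SerreExact
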