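import Mathlib.CategoryTheory.Triangulated.Functor
import Mathlib.CategoryTheory.Triangulated.Pretriangulated

/-!
# Transferring isomorphisms between the values of two exact functors

For functors `F`, `F'` commuting with shifts, an isomorphism `e : F P ≅ F' P` induces one at `P⟦n⟧`
(`sh`).  `Agr e e' f` says that `f : P ⟶ Q` is compatible with `e` and `e'`.
-/

universe v v' u u'

open CategoryTheory Category Limits Pretriangulated

namespace Groth.Agent.DEqLib.Sib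

variable {C : Type u} [Category.{v} C] [HasShift C ℤ]
  {D : Type u'} [Category.{v'} D] [HasShift D ℤ]
  {F F' : C ⥤ D}

set_option linter.unusedSectionVars false

/-- `f` commutes with the two comparison isomorphisms. -/
def Agr {P Q : C} (e : F.obj P ≅ F'.obj P) (e' : F.obj Q ≅ F'.obj Q) (f : P ⟶ Q) : Prop :=
  F.map f ≫ e'.hom = e.hom ≫ F'.map f

lemma Agr.comp {P Q R : C} {e : F.obj P ≅ F'.obj P} {e' : F.obj Q ≅ F'.obj Q}
    {e'' : F.obj R ≅ F'.obj R} {f : P ⟶ Q} {g : Q ⟶ R} (h : Agr e e' f) (h' : Agr e' e'' g) :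
    Agr e e'' (f ≫ g) := by
  unfold Agr at *
  rw [F.map_comp, F'.map_comp, assoc, h', ← assoc, h, assoc]

/-- Transport of a comparison isomorphism along an isomorphism of the source. -/
def tr {P Q : C} (φ : P ≅ Q) (e : F.obj P ≅ F'.obj P) : F.obj Q ≅ F'.obj Q :=
  (F.mapIso φ).symm ≪≫ e ≪≫ F'.mapIso φ

lemma agr_tr {P Q : C} (φ : P ≅ Q) (e : F.obj P ≅ F'.obj P) : Agr e (tr φ e) φ.hom := by
  simp [Agr, tr]

lemma agr_tr_inv {P Q : C} (φ : P ≅ Q) (e : F.obj P ≅ F'.obj P) : Agr (tr φ e) e φ.inv := by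
  simp [Agr, tr]

lemma Agr.iso_unique {P Q : C} {φ : P ≅ Q} {e : F.obj P ≅ F'.obj P} {e' : F.obj Q ≅ F'.obj Q}
    (h : Agr e e' φ.hom) : e' = tr φ e := by
  apply Iso.ext
  rw [← cancel_epi (F.map φ.hom)]
  exact h.trans (agr_tr φ e).symm

variable [F.CommShift ℤ] [F'.CommShift ℤ]

/-- The comparison isomorphism at a shifted object. -/
noncomputable def sh (n : ℤ) {P : C} (e : F.obj P ≅ F'.obj P) : F.obj (P⟦n⟧) ≅ F'.obj (P⟦n⟧) :=
  (F.commShiftIso n).app P ≪≫ (shiftFunctor D n).mapIso e ≪≫ ((F'.commShiftIso n).app P).symm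

lemma sh_hom (n : ℤ) {P : C} (e : F.obj P ≅ F'.obj P) : (sh n e).hom =
    (F.commShiftIso n).hom.app P ≫ e.hom⟦n⟧' ≫ (F'.commShiftIso n).inv.app P := rfl

lemma Agr.shift (n : ℤ) {P Q : C} {e : F.obj P ≅ F'.obj P} {e' : F.obj Q ≅ F'.obj Q} {f : P ⟶ Q}
    (h : Agr e e' f) : Agr (sh n e) (sh n e') (f⟦n⟧') := by
  unfold Agr at *
  rw [sh_hom, sh_hom, F.commShiftIso_hom_naturality_assoc, ← Functor.map_comp_assoc, h,
    Functor.map_comp_assoc, assoc, assoc, F'.commShiftIso_inv_naturality]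

lemma sh_add (n m k : ℤ) (h : n + m = k) {P : C} (e : F.obj P ≅ F'.obj P) :
    Agr (sh k e) (sh m (sh n e)) ((shiftFunctorAdd' C n m k h).hom.app P) := by
  simp only [Agr, sh_hom, F.commShiftIso_add' h, F'.commShiftIso_add' h,
    Functor.CommShift.isoAdd'_hom_app, Functor.CommShift.isoAdd'_inv_app, assoc, Functor.map_comp]
  have nat := (shiftFunctorAdd' D n m k h).inv.naturality e.hom
  dsimp at nat ⊢
  rw [← reassoc_of% nat]
  simp [← Functor.map_comp]

lemma agr_shift_of_sh {n : ℤ} {P Q : C} {e : F.obj P ≅ F'.obj P} {e' : F.obj Q ≅ F'.obj Q}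
    {f : P ⟶ Q} (h : Agr (sh n e) (sh n e') (f⟦n⟧')) : Agr e e' f := by
  unfold Agr at *
  rw [sh_hom, sh_hom, F.commShiftIso_hom_naturality_assoc, assoc, assoc,
    ← F'.commShiftIso_inv_naturality, cancel_epi, ← Functor.map_comp_assoc,
    ← Functor.map_comp_assoc, cancel_mono] at h
  exact (shiftFunctor D n).map_injective h

set_option linter.unusedSectionVars false

section Triangle

variable [Preadditive C] [HasZeroObject C] [∀ n : ℤ, (shiftFunctor C n).Additive] [Pretriangulated C]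
  [Preadditive D] [HasZeroObject D] [∀ n : ℤ, (shiftFunctor D n).Additive] [Pretriangulated D]
  [F.IsTriangulated] [F'.IsTriangulated]

/-- Compatible isomorphisms at the first two vertices of a triangle extend to the third. -/
lemma exists_agr₃ {T : Triangle C} (hT : T ∈ distTriang C) (e₁ : F.obj T.obj₁ ≅ F'.obj T.obj₁)
    (e₂ : F.obj T.obj₂ ≅ F'.obj T.obj₂) (h : Agr e₁ e₂ T.mor₁) :
    ∃ e₃ : F.obj T.obj₃ ≅ F'.obj T.obj₃, Agr e₂ e₃ T.mor₂ ∧ Agr e₃ (sh 1 e₁) T.mor₃ := by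
  let φ := isoTriangleOfIso₁₂ (F.mapTriangle.obj T) (F'.mapTriangle.obj T)
    (F.map_distinguished T hT) (F'.map_distinguished T hT) e₁ e₂ h
  let e₃ : F.obj T.obj₃ ≅ F'.obj T.obj₃ := Triangle.π₃.mapIso φ
  refine ⟨e₃, φ.hom.comm₂, ?_⟩
  have h₃ : (F.map T.mor₃ ≫ (F.commShiftIso (1 : ℤ)).hom.app T.obj₁) ≫ e₁.hom⟦(1 : ℤ)⟧' =
      e₃.hom ≫ F'.map T.mor₃ ≫ (F'.commShiftIso (1 : ℤ)).hom.app T.obj₁ := φ.hom.comm₃
  clear_value e₃
  change F.map T.mor₃ ≫ (sh 1 e₁).hom = e₃.hom ≫ F'.map T.mor₃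
  rw [sh_hom]
  simp only [assoc] at h₃
  rw [← cancel_mono ((F'.commShiftIso (1 : ℤ)).hom.app T.obj₁)]
  simpa using h₃

end Triangle

end Groth.Agent.DEqLib.Sib
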