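import Groth.Agent.DEqLib.Sib.Bounded
import Groth.Agent.DEqLib.Sib.Transfer
import Groth.Agent.TriCat.ExtEff

/-!
# Exact functors out of a bounded derived category which agree on the heart

If two exact functors agree on the heart and the images of objects of the heart have no negative
extensions, then they agree on objects, and on all extension classes of objects of the heart.
-/

set_option linter.style.haveILetI false
set_option linter.unusedSectionVars false
set_option backward.isDefEq.respectTransparency false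

universe w v v' u u'

open CategoryTheory Category Limits Pretriangulated

namespace Groth.Agent.DEqLib.Sib

variable {A : Type u} [Category.{v} A] [Abelian A] [HasDerivedCategory.{w} A]
  {D : Type u'} [Category.{v'} D] [Preadditive D] [HasZeroObject D] [HasShift D ℤ]
  [∀ n : ℤ, (shiftFunctor D n).Additive] [Pretriangulated D]
  {F F' : DerivedCategory.Bounded A ⥤ D} [F.CommShift ℤ] [F.IsTriangulated]
  [F'.CommShift ℤ] [F'.IsTriangulated]

/-- The images of objects of the heart have no negative extensions. -/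
def NegVanish (F : DerivedCategory.Bounded A ⥤ D) : Prop :=
  ∀ (X Y : A) (q : ℤ), q < 0 →
    ∀ f : F.obj ((DEquiv.singleB A).obj X) ⟶ (F.obj ((DEquiv.singleB A).obj Y))⟦q⟧, f = 0

/-- A morphism out of a shift, read as a morphism into the opposite shift. -/
lemma eq_zero_of_shift_left {P R : D} (a b : ℤ) (h : a + b = 0)
    (hPR : ∀ g : P ⟶ R⟦b⟧, g = 0) (f : P⟦a⟧ ⟶ R) : f = 0 := by
  apply (shiftFunctor D b).map_injective
  have := hPR ((shiftFunctorCompIsoId D a b h).inv.app P ≫ f⟦b⟧')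
  rw [Functor.map_zero, ← cancel_epi ((shiftFunctorCompIsoId D a b h).inv.app P), this, comp_zero]

/-- Images of bounded objects have no maps into negative shifts of images of the heart. -/
lemma NegVanish.orth (hF : NegVanish F) : ∀ (ℓ : ℕ) (K : DerivedCategory.Bounded A), Amp ℓ K →
    ∀ (Z : A) (q : ℤ), q < 0 → ∀ f : F.obj K ⟶ (F.obj ((DEquiv.singleB A).obj Z))⟦q⟧, f = 0 := by
  intro ℓ
  induction ℓ with
  | zero =>
    intro K hK Z q hq f
    obtain ⟨X, ⟨φ⟩⟩ := exists_iso_single hK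
    rw [← cancel_epi (F.map φ.hom), comp_zero]
    exact hF X Z q hq _
  | succ ℓ ih =>
    intro K hK Z q hq f
    obtain ⟨N, g, hg⟩ := exists_cover K hK.2
    obtain ⟨L, α, β, hT, hL⟩ := exists_step hK g hg
    obtain ⟨b, hb⟩ := Triangle.yoneda_exact₃ _ (F.map_distinguished _ hT) f (hF N Z q hq _)
    rw [hb, eq_zero_of_shift_left 1 (-1) (by omega) (fun x => ?_) b]
    · exact comp_zero
    · let e := (shiftFunctorAdd' D q (-1) (q - 1) (by omega)).app (F.obj ((DEquiv.singleB A).obj Z))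
      rw [← cancel_mono e.inv, zero_comp]
      exact ih L hL Z (q - 1) (by omega) _

/-- A morphism from the image of a bounded object to the image of the heart is determined on a cover. -/
lemma NegVanish.cancel_cover (hF : NegVanish F) {ℓ : ℕ} {K : DerivedCategory.Bounded A}
    (hK : Amp ℓ K) {N : A} (g : (DEquiv.singleB A).obj N ⟶ K) (hg : IsCover g) {Z : A}
    (f f' : F.obj K ⟶ F.obj ((DEquiv.singleB A).obj Z)) (h : F.map g ≫ f = F.map g ≫ f') : f = f' := by
  obtain ⟨L, α, β, hT, hL⟩ := exists_step (hK.mono ℓ.le_succ) g hg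
  rw [← sub_eq_zero]
  obtain ⟨b, hb⟩ := Triangle.yoneda_exact₃ _ (F.map_distinguished _ hT) (f - f') (by
    change F.map g ≫ (f - f') = 0
    rw [Preadditive.comp_sub, h, sub_self])
  rw [hb, eq_zero_of_shift_left 1 (-1) (by omega) (fun x => hF.orth ℓ L hL Z _ (by omega) x) b]
  exact comp_zero

variable (η : ∀ X : A, F.obj ((DEquiv.singleB A).obj X) ≅ F'.obj ((DEquiv.singleB A).obj X))
  (hη : ∀ {X Y : A} (h : X ⟶ Y), Agr (η X) (η Y) ((DEquiv.singleB A).map h))

include hη in
/-- Two functors which agree on the heart agree on every object of bounded amplitude, compatibly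
with a cover. -/
lemma exists_iso_amp (hF : NegVanish F) : ∀ (ℓ : ℕ) (K : DerivedCategory.Bounded A), Amp ℓ K →
    ∃ (e : F.obj K ≅ F'.obj K) (N : A) (g : (DEquiv.singleB A).obj N ⟶ K), IsCover g ∧ Agr (η N) e g := by
  intro ℓ
  induction ℓ with
  | zero =>
    intro K hK
    obtain ⟨X, ⟨φ⟩⟩ := exists_iso_single hK
    refine ⟨tr φ (η X), X, φ.hom, ?_, agr_tr _ _⟩
    haveI : IsIso φ.hom.hom := inferInstanceAs (IsIso ((ObjectProperty.ι _).map φ.hom))
    unfold IsCover
    infer_instance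
  | succ ℓ ih =>
    intro K hK
    obtain ⟨N, g, hg⟩ := exists_cover K hK.2
    obtain ⟨L, α, β, hT, hL⟩ := exists_step hK g hg
    obtain ⟨eL, M, c, hc, hcL⟩ := ih L hL
    obtain ⟨h, hh⟩ := (DEquiv.singleB A).map_surjective (c ≫ α)
    have hα : Agr eL (η N) α := by
      change F.map α ≫ (η N).hom = eL.hom ≫ F'.map α
      rw [← cancel_mono (η N).inv, assoc, Iso.hom_inv_id, comp_id]
      refine hF.cancel_cover hL c hc _ _ ?_
      rw [← assoc (F.map c), ← assoc (F.map c), ← cancel_mono (η N).hom]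
      simp only [assoc, Iso.inv_hom_id, comp_id]
      rw [reassoc_of% hcL, ← F'.map_comp, ← F.map_comp_assoc, ← hh]
      exact hη h
    obtain ⟨e, he, -⟩ := exists_agr₃ hT eL (η N) hα
    exact ⟨e, N, g, hg, he⟩

include hη in
/-- Siblings from agreement on the heart and vanishing of negative extensions. -/
theorem nonempty_obj_iso (hF : NegVanish F) (K : DerivedCategory.Bounded A) :
    Nonempty (F.obj K ≅ F'.obj K) := by
  obtain ⟨m, ℓ, hK⟩ := exists_amp_shift K
  obtain ⟨e, -⟩ := exists_iso_amp η hη hF ℓ _ hK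
  exact ⟨tr ((shiftFunctorCompIsoId _ m (-m) (by omega)).app K) (sh (-m) e)⟩

lemma agr_zero_shift {P : DerivedCategory.Bounded A} (e : F.obj P ≅ F'.obj P) :
    Agr (sh (0 : ℤ) e) e ((shiftFunctorZero (DerivedCategory.Bounded A) ℤ).hom.app P) := by
  simp only [Agr, sh_hom, F.commShiftIso_zero, F'.commShiftIso_zero, Functor.CommShift.isoZero_hom_app,
    Functor.CommShift.isoZero_inv_app, assoc]
  have nat := (shiftFunctorZero D ℤ).inv.naturality e.hom
  dsimp at nat ⊢
  rw [← reassoc_of% nat]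
  simp [← Functor.map_comp]

lemma Agr.of_inv {P Q : DerivedCategory.Bounded A} {φ : P ≅ Q} {e : F.obj P ≅ F'.obj P}
    {e' : F.obj Q ≅ F'.obj Q} (h : Agr e e' φ.hom) : Agr e' e φ.inv := by
  obtain rfl := h.iso_unique
  exact agr_tr_inv φ e

include hη in
/-- Agreement on all extension classes between objects of the heart. -/
theorem agr_hom (hF : NegVanish F) (X Y : A) (q : ℤ) (f : ((DEquiv.singleB A).obj X)⟦q⟧ ⟶ (DEquiv.singleB A).obj Y) :
    Agr (sh q (η X)) (η Y) f := by
  have hneg : ∀ (X Y : A) (p : ℤ), 0 < p →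
      ∀ g : (F.obj ((DEquiv.singleB A).obj X))⟦p⟧ ⟶ F'.obj ((DEquiv.singleB A).obj Y), g = 0 := fun X Y p hp g => by
    rw [← cancel_mono (η Y).inv, zero_comp]
    exact eq_zero_of_shift_left p (-p) (by omega) (fun x => hF X Y _ (by omega) x) _
  rcases lt_or_ge 0 q with hq | hq
  · have : f = 0 := hom_eq_zero (-q) 0 (by omega) (isLE_shift 0 q (-q) (by omega) (amp_single X 0).2)
      (by simpa using (amp_single Y 0).1) f
    subst this
    simp [Agr]
  obtain ⟨n, rfl⟩ : ∃ n : ℕ, q = -(n : ℤ) := ⟨(-q).toNat, by omega⟩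
  induction n generalizing X Y with
  | zero =>
    let z : ((DEquiv.singleB A).obj X)⟦(-((0 : ℕ) : ℤ))⟧ ≅ (DEquiv.singleB A).obj X :=
      (shiftFunctorZero' (DerivedCategory.Bounded A) (-((0 : ℕ) : ℤ)) (by simp)).app _
    obtain ⟨h, hh⟩ := (DEquiv.singleB A).map_surjective (z.inv ≫ f)
    have hz : Agr (sh (-((0 : ℕ) : ℤ)) (η X)) (η X) z.hom := by
      have := agr_zero_shift (η X)
      simpa [z, shiftFunctorZero'] using this
    have := hz.comp (hη h)
    rwa [hh, Iso.hom_inv_id_assoc] at this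
  | succ n ih =>
    obtain ⟨E, ι, hι, hιf⟩ := TriCat.exists_mono_comp_single_eq_zero 0
      (X := (((DEquiv.singleB A).obj X)⟦(-((n + 1 : ℕ) : ℤ))⟧).obj) (Y := Y)
      ((haveI := isGE_shift 0 (-((n + 1 : ℕ) : ℤ)) ((n + 1 : ℕ) : ℤ) (by omega)
          (by simpa using (amp_single X 0).1)
        DerivedCategory.isZero_of_isGE _ ((n + 1 : ℕ) : ℤ) 0 (by omega))) f.hom
    have hfι : f ≫ (DEquiv.singleB A).map ι = 0 := ObjectProperty.hom_ext _ hιf
    have hse : (ShortComplex.mk ι (cokernel.π ι) (cokernel.condition ι)).ShortExact :=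
      { exact := ShortComplex.exact_cokernel ι }
    obtain ⟨Q, π₀, δ₀, hT₀⟩ := distinguished_cocone_triangle ((DEquiv.singleB A).map ι)
    let ιB := ((DerivedCategory.TStructure.t (C := A)).bounded).ι
    let eQ : Q.obj ≅ ((DEquiv.singleB A).obj (cokernel ι)).obj := Triangle.π₃.mapIso
      (isoTriangleOfIso₁₂ (ιB.mapTriangle.obj (Triangle.mk ((DEquiv.singleB A).map ι) π₀ δ₀)) hse.singleTriangle
        (ιB.map_distinguished _ hT₀) hse.singleTriangle_distinguished (Iso.refl _) (Iso.refl _)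
        (by simp; rfl))
    let φ : Q ≅ (DEquiv.singleB A).obj (cokernel ι) := ObjectProperty.isoMk _ eQ
    let δ : (DEquiv.singleB A).obj (cokernel ι) ⟶ ((DEquiv.singleB A).obj Y)⟦(1 : ℤ)⟧ := φ.inv ≫ δ₀
    have hT : Triangle.mk ((DEquiv.singleB A).map ι) (π₀ ≫ φ.hom) δ ∈ distTriang _ :=
      isomorphic_distinguished _ hT₀ _
        (Triangle.isoMk _ _ (Iso.refl _) (Iso.refl _) φ.symm (by simp) (by simp) (by simp [δ]))
    obtain ⟨π, hπ⟩ := (DEquiv.singleB A).map_surjective (π₀ ≫ φ.hom)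
    obtain ⟨e₃, he₂, he₃⟩ : ∃ e₃ : F.obj ((DEquiv.singleB A).obj (cokernel ι)) ≅
          F'.obj ((DEquiv.singleB A).obj (cokernel ι)),
        Agr (η E) e₃ (π₀ ≫ φ.hom) ∧ Agr e₃ (sh 1 (η Y)) δ :=
      exists_agr₃ hT (η Y) (η E) (hη ι)
    have he : e₃ = η (cokernel ι) := by
      apply Iso.ext
      rw [← sub_eq_zero]
      obtain ⟨b, hb⟩ := Triangle.yoneda_exact₃ _ (F.map_distinguished _ hT)
        (e₃.hom - (η (cokernel ι)).hom) (by
          change F.map (π₀ ≫ φ.hom) ≫ (e₃.hom - (η (cokernel ι)).hom) = 0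
          have h₁ : F.map (π₀ ≫ φ.hom) ≫ e₃.hom = (η E).hom ≫ F'.map (π₀ ≫ φ.hom) := he₂
          have h₂ : F.map ((DEquiv.singleB A).map π) ≫ (η (cokernel ι)).hom = (η E).hom ≫ F'.map ((DEquiv.singleB A).map π) := hη π
          rw [hπ] at h₂
          rw [Preadditive.comp_sub, h₁, h₂, sub_self])
      rw [hb, hneg _ _ 1 (by omega) b]
      exact comp_zero
    subst he
    have hf1 : f⟦(1 : ℤ)⟧' ≫ ((DEquiv.singleB A).map ι)⟦(1 : ℤ)⟧' = 0 := by
      rw [← Functor.map_comp, hfι, Functor.map_zero]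
    obtain ⟨u, hu⟩ := Triangle.coyoneda_exact₁ _ hT (f⟦(1 : ℤ)⟧') hf1
    let a := (shiftFunctorAdd' (DerivedCategory.Bounded A) (-((n + 1 : ℕ) : ℤ)) 1 (-(n : ℤ))
      (by omega)).app ((DEquiv.singleB A).obj X)
    have ha : Agr (sh (-(n : ℤ)) (η X)) (sh 1 (sh (-((n + 1 : ℕ) : ℤ)) (η X))) a.hom :=
      sh_add (-((n + 1 : ℕ) : ℤ)) 1 (-(n : ℤ)) (by omega) (η X)
    have hu' := ((Agr.of_inv ha).comp (ih X (cokernel ι) (a.hom ≫ u) (by omega))).comp he₃
    apply agr_shift_of_sh (n := 1)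
    rw [hu]
    simpa using hu'

end Groth.Agent.DEqLib.Sib
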