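import Groth.Agent.DEqLib.Sib.SmallTransfer
import Groth.Agent.Dual59.RepBrown
import Groth.Agent.KFlatLib.Scheme.QCohD
import Groth.Agent.KFlatLib.Scheme.Grothendieck
import Groth.Agent.PerfD40.Generator
import Groth.Agent.PerfD40.CompactPerfect
import Groth.Agent.PerfD40.Compact
import Groth.Agent.PerfD40.PCLocal
import Groth.Agent.S1040
import Groth.Agent.TriCat.DerivedCoproducts
import Groth.Prelude.Def_KLin

/-!
# A small model of `D_QCoh(X)`
-/

universe u

open CategoryTheory Category Limits Pretriangulated AlgebraicGeometry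

attribute [local instance] HasDerivedCategory.standard

set_option backward.isDefEq.respectTransparency false

namespace Groth.Agent.DEqLib.Sib.SmallModel

section Aux

universe w₁ w₂ v₁ v₂ u₁ u₂

variable {A₁ : Type u₁} [Category.{v₁} A₁] [Abelian A₁] [HasDerivedCategory.{w₁} A₁]
  {A₂ : Type u₂} [Category.{v₂} A₂] [Abelian A₂] [HasDerivedCategory.{w₂} A₂]
  (F : A₁ ⥤ A₂) [F.Additive] [PreservesFiniteLimits F] [PreservesFiniteColimits F]

lemma isTriangulated_map : F.mapDerivedCategory.IsTriangulated := inferInstance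

lemma additive_map : F.mapDerivedCategory.Additive := inferInstance

end Aux

variable (X : Scheme.{u})

/-- A small derived category structure on modules. -/
@[implicit_reducible]
noncomputable def I₁ : HasDerivedCategory.{u} X.Modules :=
  H9Misc.BrownGroth.smallDerived X.Modules fun K => KFlatLib.exists_kInjective_res K

/-- The small model of `D(X)`. -/
def D₁ : Type (u + 1) := @DerivedCategory X.Modules _ _ (I₁ X)

noncomputable instance : Category.{u} (D₁ X) :=
  letI := I₁ X; (inferInstance : (Category.{u} (DerivedCategory X.Modules)))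

noncomputable instance : Preadditive (D₁ X) :=
  letI := I₁ X; (inferInstance : (Preadditive (DerivedCategory X.Modules)))

instance : HasZeroObject (D₁ X) :=
  letI := I₁ X; (inferInstance : (HasZeroObject (DerivedCategory X.Modules)))

noncomputable instance : HasShift (D₁ X) ℤ :=
  letI := I₁ X; (inferInstance : (HasShift (DerivedCategory X.Modules) ℤ))

instance (n : ℤ) : (shiftFunctor (D₁ X) n).Additive :=
  letI := I₁ X; (inferInstance : (shiftFunctor (DerivedCategory X.Modules) n).Additive)

noncomputable instance : Pretriangulated (D₁ X) :=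
  letI := I₁ X; (inferInstance : (Pretriangulated (DerivedCategory X.Modules)))

instance : IsTriangulated (D₁ X) :=
  letI := I₁ X; (inferInstance : (IsTriangulated (DerivedCategory X.Modules)))

instance hasCoproducts : HasCoproducts.{u} (D₁ X) := fun _ =>
  letI := I₁ X; TriCat.hasColimitsOfShape_derivedCategory

/-- The comparison functor. -/
noncomputable def cmp : D₁ X ⥤ DCoh.D X :=
  Dual59.cmpD X.Modules (I₁ X) (HasDerivedCategory.standard _)

noncomputable instance : (cmp X).CommShift ℤ :=
  inferInstanceAs ((@CategoryTheory.Functor.mapDerivedCategory _ _ _ (I₁ X) _ _ _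
    (HasDerivedCategory.standard _) (𝟭 X.Modules) _ _ _).CommShift ℤ)

instance : (cmp X).IsTriangulated :=
  @isTriangulated_map X.Modules _ _ (I₁ X) X.Modules _ _ (HasDerivedCategory.standard _) (𝟭 X.Modules)
    inferInstance inferInstance inferInstance

instance : (cmp X).IsEquivalence := Dual59.isEquivalence_cmpD _ _ _

instance : (cmp X).Additive :=
  @additive_map X.Modules _ _ (I₁ X) X.Modules _ _ (HasDerivedCategory.standard _) (𝟭 X.Modules)
    inferInstance inferInstance inferInstance

variable (k : Type u) [CommRing k] [X.Over (Spec (CommRingCat.of k))]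

noncomputable instance linearD₁ : Linear k (D₁ X) := SmallTransfer.linear (cmp X)

instance linear_cmp : (cmp X).Linear k := SmallTransfer.linear_functor (cmp X)

instance linear_shiftD₁ (n : ℤ) : (shiftFunctor (D₁ X) n).Linear k :=
  SmallTransfer.linear_shift (cmp X) n

/-- Quasi-coherent cohomology in the small model. -/
def qc : ObjectProperty (D₁ X) := fun L => DCoh.IsQCohD ((cmp X).obj L)

instance : (qc X).IsClosedUnderIsomorphisms :=
  ⟨fun e h => KFlatLib.isQCohD_of_iso ((cmp X).mapIso e) h⟩

instance : (qc X).IsStableUnderShift ℤ :=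
  ⟨fun n => ⟨fun L h => KFlatLib.isQCohD_of_iso (((cmp X).commShiftIso n).app L).symm
    (KFlatLib.isQCohD_shift h n)⟩⟩

instance : (qc X).ContainsZero :=
  ⟨⟨_, isZero_zero _, fun i => KFlatLib.isQCoh_of_isZero
    ((DerivedCategory.homologyFunctor X.Modules i).map_isZero
      ((cmp X).map_isZero (isZero_zero _)))⟩⟩

instance : (qc X).IsTriangulatedClosed₂ :=
  ObjectProperty.IsTriangulatedClosed₂.mk' fun _ hT h₁ h₃ =>
    KFlatLib.isQCohD_obj₂ ((cmp X).map_distinguished _ hT) h₁ h₃

instance : (qc X).IsTriangulated where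

/-- The small model of `D_QCoh(X)`. -/
abbrev Q₁ := (qc X).FullSubcategory

instance (τ : Type u) : (qc X).IsClosedUnderColimitsOfShape (Discrete τ) := by
  refine ObjectProperty.IsClosedUnderColimitsOfShape.mk' ?_
  rintro _ ⟨F, hF⟩
  let Y : τ → D₁ X := fun j => F.obj ⟨j⟩
  haveI : HasCoproduct fun j => (cmp X).obj (Y j) :=
    ⟨⟨⟨_, isColimitCofanMkObjOfIsColimit (cmp X) _ _ (coproductIsCoproduct Y)⟩⟩⟩
  have h1 : DCoh.IsQCohD ((cmp X).obj (∐ Y)) :=
    KFlatLib.isQCohD_of_iso (PreservesCoproduct.iso (cmp X) Y).symm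
      (S1040.result X _ fun j => hF ⟨j⟩)
  exact KFlatLib.isQCohD_of_iso
    ((cmp X).mapIso (HasColimit.isoOfNatIso (Discrete.natIsoFunctor (F := F))).symm) h1

instance : HasCoproducts.{u} (Q₁ X) := fun _ => inferInstance

/-- The functor from the small model of `D_QCoh(X)` to `D(X)`. -/
noncomputable abbrev toD : Q₁ X ⥤ DCoh.D X := (qc X).ι ⋙ cmp X

instance (τ : Type u) : PreservesColimitsOfShape (Discrete τ) (qc X).ι :=
  ⟨fun {F} => preservesColimit_of_createsColimit_and_hasColimit F (qc X).ι⟩

instance linear_toD : (toD X).Linear k where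
  map_smul f r := (cmp X).map_smul (r := r) (f := f.hom)

lemma toD_qcoh (K : Q₁ X) : DCoh.IsQCohD ((toD X).obj K) := K.property

lemma exists_toD_iso (A : DCoh.D X) (hA : DCoh.IsQCohD A) : ∃ K : Q₁ X, Nonempty ((toD X).obj K ≅ A) :=
  ⟨⟨(cmp X).objPreimage A, KFlatLib.isQCohD_of_iso ((cmp X).objObjPreimageIso A).symm hA⟩,
    ⟨(cmp X).objObjPreimageIso A⟩⟩

variable [CompactSpace X] [QuasiSeparatedSpace X]

lemma isCompactObject_iff_isPerfect (K : Q₁ X) :
    CohDer.IsCompactObject K ↔ DCoh.IsPerfect ((toD X).obj K) :=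
  (SmallTransfer.isCompactObject_iff_rel (toD X) (fun L : DCoh.D X => DCoh.IsQCohD L) (toD_qcoh X)
    (exists_toD_iso X) K).trans
    ⟨fun h => PerfD40.isPerfect_of_seesFinitely K.property (PerfD40.seesFinitely_of_isCompactObjRel h),
      fun h => PerfD40.isCompactObjRel_of_isPerfect h⟩

theorem isCompactlyGenerated : CohDer.IsCompactlyGenerated (Q₁ X) := by
  obtain ⟨R, hR, -, hgen⟩ := PerfD40.hasGen X ⊥ (by simp)
  obtain ⟨G, ⟨e⟩⟩ := exists_toD_iso X R (PerfD40.isQCohD_of_isPerfect hR)
  refine ⟨PUnit, fun _ => G, fun _ => (isCompactObject_iff_isPerfect X G).2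
    (PerfD40.isPerfect_of_iso' e.symm hR), fun L hL => ?_⟩
  rw [IsZero.iff_id_eq_zero]
  refine (toD X).map_injective ((hgen _ L.property ?_ fun n φ => ?_).eq_of_src _ _)
  · exact (PerfD40.isZero_restrictD_iff_support ⊥ _).2 fun i => by simp
  · obtain ⟨ψ, rfl⟩ : ∃ ψ : (toD X).obj (G⟦n⟧) ⟶ (toD X).obj L,
        ((shiftFunctor _ n).mapIso e).inv ≫ (((toD X).commShiftIso n).app G).inv ≫ ψ = φ :=
      ⟨(((toD X).commShiftIso n).app G).hom ≫ ((shiftFunctor _ n).mapIso e).hom ≫ φ, by simp⟩
    obtain ⟨χ, rfl⟩ := (toD X).map_surjective ψ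
    have h0 : χ = 0 := by
      apply (shiftFunctor (Q₁ X) (-n)).map_injective
      rw [Functor.map_zero, ← cancel_epi ((shiftFunctorCompIsoId (Q₁ X) n (-n) (by simp)).inv.app G),
        comp_zero]
      exact hL ⟨⟩ (-n) _
    simp [h0]

end Groth.Agent.DEqLib.Sib.SmallModel
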