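import Groth.Agent.TriCat.Compact
import Groth.Prelude.Def_PerfAux
import Groth.Prelude.Def_KLin
import Mathlib.CategoryTheory.Limits.FullSubcategory
import Mathlib.CategoryTheory.Linear.LinearFunctor
import Mathlib.CategoryTheory.Shift.CommShift

/-!
# Transfer along fully faithful functors: linear structures and compact objects
-/

universe w w' v v' u u'

open CategoryTheory Category Limits

namespace Groth.Agent.DEqLib.Sib.SmallTransfer

section Lin

variable {k : Type w} [Semiring k] {C : Type u} [Category.{v} C] [Preadditive C]
  {E : Type u'} [Category.{v'} E] [Preadditive E] [Linear k E] (c : C ⥤ E) [c.Full] [c.Faithful]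
  [c.Additive]

/-- The pulled back scalar multiplication. -/
noncomputable def sm {X Y : C} (r : k) (f : X ⟶ Y) : X ⟶ Y := c.preimage (r • c.map f)

@[simp]
lemma map_sm {X Y : C} (r : k) (f : X ⟶ Y) : c.map (sm c r f) = r • c.map f := c.map_preimage _

/-- The linear structure pulled back along a fully faithful additive functor. -/
@[implicit_reducible]
noncomputable def linear : Linear k C where
  homModule X Y :=
    { smul := sm c
      one_smul := fun f => c.map_injective (by
        show c.map (sm c (1 : k) f) = c.map f
        simp)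
      mul_smul := fun r s f => c.map_injective (by
        show c.map (sm c (r * s) f) = c.map (sm c r (sm c s f))
        simp [mul_smul])
      smul_zero := fun r => c.map_injective (by
        show c.map (sm c r (0 : X ⟶ Y)) = c.map 0
        simp)
      smul_add := fun r f g => c.map_injective (by
        show c.map (sm c r (f + g)) = c.map (sm c r f + sm c r g)
        simp [smul_add])
      add_smul := fun r s f => c.map_injective (by
        show c.map (sm c (r + s) f) = c.map (sm c r f + sm c s f)
        simp [add_smul])
      zero_smul := fun f => c.map_injective (by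
        show c.map (sm c (0 : k) f) = c.map 0
        simp) }
  smul_comp _ _ _ r f g := c.map_injective (by
    show c.map (sm c r f ≫ g) = c.map (sm c r (f ≫ g))
    simp)
  comp_smul _ _ _ f r g := c.map_injective (by
    show c.map (f ≫ sm c r g) = c.map (sm c r (f ≫ g))
    simp)

lemma linear_functor : letI := linear (k := k) c; c.Linear k :=
  letI := linear (k := k) c
  { map_smul := fun _ _ => c.map_preimage _ }

variable [Linear k C] [c.Linear k] {G : Type w'} [AddMonoid G] [HasShift C G] [HasShift E G]
  [c.CommShift G]

include c in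
lemma linear_shift (n : G) [(shiftFunctor E n).Linear k] : (shiftFunctor C n).Linear k where
  map_smul {K L} f r := c.map_injective (by
    have h := (c.commShiftIso n).hom.naturality (r • f)
    have h' := (c.commShiftIso n).hom.naturality f
    rw [Functor.comp_map] at h h'
    rw [← cancel_mono ((c.commShiftIso n).hom.app L), h, c.map_smul]
    simp only [Functor.comp_map, Functor.map_smul, Linear.comp_smul, Linear.smul_comp]
    rw [h']
    rfl)

end Lin

section Compact

variable {E : Type u'} [Category.{v'} E] [Preadditive E]

open Classical in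
/-- Relative compactness is finite factorisation. -/
lemma isCompactObjRel_iff (P : E → Prop) (K : E) :
    PerfAux.IsCompactObjRel.{w} P K ↔
      ∀ (ι : Type w) (X : ι → E) [HasCoproduct X], (∀ i, P (X i)) →
        ∀ f : K ⟶ ∐ X, TriCat.FinFactor f := by
  have hof : ∀ (ι : Type w) (X : ι → E) [HasCoproduct X] (i : ι) (a : K ⟶ X i),
      PerfAux.homSumToHomCoprod K X (DirectSum.of (fun i => K ⟶ X i) i a) = a ≫ Sigma.ι X i := by
    intro ι X _ i a
    simp [PerfAux.homSumToHomCoprod, DirectSum.toAddMonoid_of]
    rfl
  constructor
  · intro h ι X _ hX f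
    obtain ⟨x, rfl⟩ := (h ι X hX).2 f
    induction x using DirectSum.induction_on with
    | zero => rw [map_zero]; exact TriCat.FinFactor.zero
    | of i a => rw [hof]; exact TriCat.FinFactor.postcomp_ι i a
    | add x y hx hy => rw [map_add]; exact hx.add hy
  · intro h ι X _ hX
    constructor
    · have key : ∀ (j : ι) (x : DirectSum ι (fun i => K ⟶ X i)),
          PerfAux.homSumToHomCoprod K X x ≫ TriCat.coprodProj X j = x j := by
        intro j x
        induction x using DirectSum.induction_on with
        | zero => simp
        | of i a =>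
          rw [hof, assoc]
          by_cases hij : i = j
          · subst hij; simp [TriCat.ι_coprodProj_self]
          · rw [TriCat.ι_coprodProj_ne hij, comp_zero, DirectSum.of_eq_of_ne _ _ _ (Ne.symm hij)]
        | add x y hx hy => rw [map_add, Preadditive.add_comp, hx, hy]; rfl
      intro x y hxy
      refine DFinsupp.ext fun j => ?_
      rw [← key j x, ← key j y, hxy]
    · intro f
      obtain ⟨s, a, rfl⟩ := h ι X hX f
      exact ⟨∑ i ∈ s, DirectSum.of _ i (a i), by simp [hof]⟩

variable {C : Type u} [Category.{v} C] [Preadditive C] [HasCoproducts.{v} C] (c : C ⥤ E) [c.Full]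
  [c.Faithful] [c.Additive] [∀ τ : Type v, PreservesColimitsOfShape (Discrete τ) c] (P : E → Prop)

lemma isCompactObject_iff_rel (hc : ∀ X : C, P (c.obj X))
    (hess : ∀ A : E, P A → ∃ X : C, Nonempty (c.obj X ≅ A))
    (K : C) :
    CohDer.IsCompactObject K ↔ PerfAux.IsCompactObjRel.{v} P (c.obj K) := by
  classical
  rw [TriCat.isCompactObject_iff, isCompactObjRel_iff]
  constructor
  · intro h ι X _ hX f
    choose Y e using fun i => hess (X i) (hX i)
    haveI : HasCoproduct fun i => c.obj (Y i) :=
      ⟨⟨⟨_, isColimitCofanMkObjOfIsColimit c _ _ (coproductIsCoproduct Y)⟩⟩⟩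
    let e' : (∐ X) ≅ c.obj (∐ Y) :=
      (Sigma.whiskerEquiv (f := fun i => c.obj (Y i)) (g := X) (Equiv.refl ι) fun i => (e i).some.symm).symm ≪≫ (PreservesCoproduct.iso c Y).symm
    obtain ⟨s, a, ha⟩ := h ι Y (c.preimage (f ≫ e'.hom))
    refine ⟨s, fun i => c.map (a i) ≫ (e i).some.hom, ?_⟩
    rw [← cancel_mono e'.hom, ← c.map_preimage (f ≫ e'.hom), ha, c.map_sum, Preadditive.sum_comp]
    refine Finset.sum_congr rfl fun i _ => ?_
    simp [e', PreservesCoproduct.inv_hom, ι_comp_sigmaComparison, Sigma.whiskerEquiv]
  · intro h ι X f
    haveI : HasCoproduct fun i => c.obj (X i) :=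
      ⟨⟨⟨_, isColimitCofanMkObjOfIsColimit c _ _ (coproductIsCoproduct X)⟩⟩⟩
    let e' := PreservesCoproduct.iso c X
    obtain ⟨s, a, ha⟩ := h ι (fun i => c.obj (X i)) (fun i => hc _) (c.map f ≫ e'.hom)
    refine ⟨s, fun i => c.preimage (a i), c.map_injective ?_⟩
    rw [← cancel_mono e'.hom, ha, c.map_sum, Preadditive.sum_comp]
    refine Finset.sum_congr rfl fun i _ => ?_
    have : c.map (Sigma.ι X i) ≫ e'.hom = Sigma.ι (fun i => c.obj (X i)) i := by
      rw [← Iso.eq_comp_inv]
      simp [e', PreservesCoproduct.inv_hom, ι_comp_sigmaComparison]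
    rw [c.map_comp, c.map_preimage, assoc, this]

end Compact

end Groth.Agent.DEqLib.Sib.SmallTransfer
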